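import Mathlib

/-!
# Reciprocal sums of numbers of the form `2 ^ i * 3 ^ j * 5 ^ k`
-/

set_option autoImplicit false

namespace CfsgLib.RationalGroup

/-- The reciprocal sum over part of a box of exponents. -/
theorem sum_inv_le_box (S : Finset ℕ) (I J K : Finset ℕ) {a b c : ℚ}
    (ha : ∑ i ∈ I, (1 / 2 : ℚ) ^ i ≤ a) (hb : ∑ j ∈ J, (1 / 3 : ℚ) ^ j ≤ b)
    (hc : ∑ k ∈ K, (1 / 5 : ℚ) ^ k ≤ c)
    (h : ∀ d ∈ S, ∃ i ∈ I, ∃ j ∈ J, ∃ k ∈ K, d = 2 ^ i * 3 ^ j * 5 ^ k) :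
    ∑ d ∈ S, (1 / d : ℚ) ≤ a * b * c := by
  classical
  have hsub : S ⊆ (I ×ˢ (J ×ˢ K)).image fun t => 2 ^ t.1 * 3 ^ t.2.1 * 5 ^ t.2.2 := by
    intro d hd
    obtain ⟨i, hi, j, hj, k, hk, rfl⟩ := h d hd
    exact Finset.mem_image.2 ⟨(i, j, k), by simp [hi, hj, hk], rfl⟩
  refine (Finset.sum_le_sum_of_subset_of_nonneg hsub fun d _ _ => by positivity).trans ?_
  refine (Finset.sum_image_le_of_nonneg fun t _ => by positivity).trans ?_
  have e : ∑ t ∈ I ×ˢ (J ×ˢ K), (1 / ((2 ^ t.1 * 3 ^ t.2.1 * 5 ^ t.2.2 : ℕ) : ℚ))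
      = (∑ i ∈ I, (1 / 2 : ℚ) ^ i) * ((∑ j ∈ J, (1 / 3 : ℚ) ^ j) * ∑ k ∈ K, (1 / 5 : ℚ) ^ k) := by
    rw [Finset.sum_mul_sum J K, ← Finset.sum_product', Finset.sum_mul_sum, ← Finset.sum_product']
    refine Finset.sum_congr rfl fun t _ => ?_
    push_cast
    simp only [div_pow, one_pow, div_mul_div_comm, mul_one, mul_assoc]
  rw [e, mul_assoc]
  have h0 : ∀ (S : Finset ℕ) (q : ℚ), 0 ≤ q → 0 ≤ ∑ i ∈ S, q ^ i := fun S q hq =>
    Finset.sum_nonneg fun i _ => pow_nonneg hq i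
  have k1 := h0 J (1 / 3) (by norm_num)
  have k2 := h0 K (1 / 5) (by norm_num)
  have k3 := h0 I (1 / 2) (by norm_num)
  have k4 : (∑ j ∈ J, (1 / 3 : ℚ) ^ j) * ∑ k ∈ K, (1 / 5 : ℚ) ^ k ≤ b * c :=
    (mul_le_mul_of_nonneg_right hb k2).trans (mul_le_mul_of_nonneg_left hc (k1.trans hb))
  exact (mul_le_mul_of_nonneg_right ha (mul_nonneg k1 k2)).trans
    (mul_le_mul_of_nonneg_left k4 (k3.trans ha))

theorem geom_range_le (q : ℚ) (h0 : 0 ≤ q) (h1 : q < 1) (N : ℕ) :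
    ∑ i ∈ Finset.range N, q ^ i ≤ 1 / (1 - q) := by
  have := geom_sum_Ico_le_of_lt_one (m := 0) (n := N) h0 h1
  rw [pow_zero, Nat.Ico_zero_eq_range] at this
  exact this

theorem geom_Ico_le (q : ℚ) (h0 : 0 ≤ q) (h1 : q < 1) (m N : ℕ) :
    ∑ i ∈ Finset.Ico m N, q ^ i ≤ q ^ m / (1 - q) := geom_sum_Ico_le_of_lt_one h0 h1

theorem sum_insert_le {S : Finset ℕ} (E : Finset ℕ) (hd : Disjoint S E) {c : ℚ}
    (h : ∑ d ∈ S ∪ E, (1 / d : ℚ) ≤ c) : ∑ d ∈ S, (1 / d : ℚ) ≤ c - ∑ d ∈ E, (1 / d : ℚ) := by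
  rw [Finset.sum_union hd] at h
  linarith

/-- The exponent conditions on the centraliser orders. -/
def GoodOrder (d : ℕ) : Prop :=
  ∃ i j k, d = 2 ^ i * 3 ^ j * 5 ^ k ∧ k ≠ 1 ∧ (k = 2 → 1 ≤ j)

theorem exp_lt {i j k d N : ℕ} (h : d = 2 ^ i * 3 ^ j * 5 ^ k) (hN : d < N) :
    i < N ∧ j < N ∧ k < N := by
  have h2 : i < 2 ^ i := Nat.lt_two_pow_self
  have h3 : j < 3 ^ j := Nat.lt_pow_self (by norm_num)
  have h5 : k < 5 ^ k := Nat.lt_pow_self (by norm_num)
  have e2 : 2 ^ i ≤ d := Nat.le_of_dvd (h ▸ by positivity) ⟨3 ^ j * 5 ^ k, by rw [h, mul_assoc]⟩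
  have e3 : 3 ^ j ≤ d := Nat.le_of_dvd (h ▸ by positivity) ⟨2 ^ i * 5 ^ k, by rw [h]; ring⟩
  have e5 : 5 ^ k ≤ d := Nat.le_of_dvd (h ▸ by positivity) ⟨2 ^ i * 3 ^ j, by rw [h]; ring⟩
  omega

/-- No good orders at least six add up to one. -/
theorem sum_lt_one_of_six_le (D : Finset ℕ) (hD : ∀ d ∈ D, GoodOrder d) (h6 : ∀ d ∈ D, 6 ≤ d) :
    ∑ d ∈ D, (1 / d : ℚ) < 1 := by
  classical
  set N := D.sup id + 5 with hN
  have hlt : ∀ d ∈ D, d < N := fun d hd => by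
    have := Finset.le_sup (f := id) hd
    simp only [id_eq] at this
    omega
  set D₀ := D.filter fun d => ¬ 5 ∣ d
  set D₁ := D.filter fun d => 5 ∣ d
  set D₂ := D₁.filter fun d => ¬ 125 ∣ d
  set D₃ := D₁.filter fun d => 125 ∣ d
  have hsplit : ∑ d ∈ D, (1 / d : ℚ)
      = ∑ d ∈ D₀, (1 / d : ℚ) + (∑ d ∈ D₂, (1 / d : ℚ) + ∑ d ∈ D₃, (1 / d : ℚ)) := by
    rw [← Finset.sum_filter_add_sum_filter_not D (fun d => ¬ 5 ∣ d)]
    simp only [not_not]
    rw [← Finset.sum_filter_add_sum_filter_not (D.filter fun d => 5 ∣ d) (fun d => ¬ 125 ∣ d)]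
    simp only [not_not, D₀, D₁, D₂, D₃]
  have h0 : ∑ d ∈ D₀, (1 / d : ℚ) ≤ 3 - ∑ d ∈ ({1, 2, 3, 4} : Finset ℕ), (1 / d : ℚ) := by
    refine sum_insert_le _ (Finset.disjoint_left.2 fun d hd hd' => ?_) ?_
    · have := h6 d (Finset.mem_filter.1 hd).1
      simp only [Finset.mem_insert, Finset.mem_singleton] at hd'
      omega
    refine (sum_inv_le_box _ (Finset.range N) (Finset.range N) {0}
      (geom_range_le _ (by norm_num) (by norm_num) N) (geom_range_le _ (by norm_num) (by norm_num) N)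
      (c := 1) (by simp) fun d hd => ?_).trans (by norm_num)
    rcases Finset.mem_union.1 hd with hd | hd
    · obtain ⟨hdD, h5⟩ := Finset.mem_filter.1 hd
      obtain ⟨i, j, k, e, -, -⟩ := hD d hdD
      have hk : k = 0 := by
        by_contra hk
        exact h5 (e ▸ (dvd_pow_self 5 hk).mul_left _)
      obtain ⟨hi, hj, -⟩ := exp_lt e (hlt d hdD)
      exact ⟨i, by simpa using hi, j, by simpa using hj, 0, by simp, hk ▸ e⟩
    · simp only [Finset.mem_insert, Finset.mem_singleton] at hd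
      rcases hd with rfl | rfl | rfl | rfl
      · exact ⟨0, by simp; omega, 0, by simp; omega, 0, by simp, by norm_num⟩
      · exact ⟨1, by simp; omega, 0, by simp; omega, 0, by simp, by norm_num⟩
      · exact ⟨0, by simp; omega, 1, by simp; omega, 0, by simp, by norm_num⟩
      · exact ⟨2, by simp; omega, 0, by simp; omega, 0, by simp, by norm_num⟩
  have h2 : ∑ d ∈ D₂, (1 / d : ℚ) ≤ 1 / 25 := by
    refine (sum_inv_le_box _ (Finset.range N) (Finset.Ico 1 N) {2}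
      (geom_range_le _ (by norm_num) (by norm_num) N) (geom_Ico_le _ (by norm_num) (by norm_num) 1 N)
      (c := 1 / 25) (by norm_num) fun d hd => ?_).trans (by norm_num)
    obtain ⟨hd1, h125⟩ := Finset.mem_filter.1 hd
    obtain ⟨hdD, h5⟩ := Finset.mem_filter.1 hd1
    obtain ⟨i, j, k, e, hk1, hk2⟩ := hD d hdD
    have hk : k = 2 := by
      by_contra hk
      rcases Nat.eq_zero_or_pos k with rfl | hk0
      · rw [pow_zero, mul_one] at e
        rw [e] at h5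
        rcases (Nat.Prime.dvd_mul (by norm_num)).1 h5 with h | h
        · exact absurd ((Nat.prime_dvd_prime_iff_eq (by norm_num) Nat.prime_two).1
            ((by norm_num : Nat.Prime 5).dvd_of_dvd_pow h)) (by norm_num)
        · exact absurd ((Nat.prime_dvd_prime_iff_eq (by norm_num) Nat.prime_three).1
            ((by norm_num : Nat.Prime 5).dvd_of_dvd_pow h)) (by norm_num)
      · exact h125 (e ▸ ((show 125 = 5 ^ 3 by norm_num) ▸ Nat.pow_dvd_pow 5 (by omega : 3 ≤ k)).mul_left _)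
    obtain ⟨hi, hj, -⟩ := exp_lt e (hlt d hdD)
    exact ⟨i, by simpa using hi, j, Finset.mem_Ico.2 ⟨hk2 hk, hj⟩, 2, by simp, hk ▸ e⟩
  have h3 : ∑ d ∈ D₃, (1 / d : ℚ) ≤ 3 / 100 := by
    refine (sum_inv_le_box _ (Finset.range N) (Finset.range N) (Finset.Ico 3 N)
      (geom_range_le _ (by norm_num) (by norm_num) N) (geom_range_le _ (by norm_num) (by norm_num) N)
      (geom_Ico_le _ (by norm_num) (by norm_num) 3 N) fun d hd => ?_).trans (by norm_num)
    obtain ⟨hd1, h125⟩ := Finset.mem_filter.1 hd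
    obtain ⟨hdD, -⟩ := Finset.mem_filter.1 hd1
    obtain ⟨i, j, k, e, -, -⟩ := hD d hdD
    obtain ⟨hi, hj, hk⟩ := exp_lt e (hlt d hdD)
    refine ⟨i, by simpa using hi, j, by simpa using hj, k, Finset.mem_Ico.2 ⟨?_, hk⟩, e⟩
    rw [e, show (125 : ℕ) = 5 ^ 3 by norm_num] at h125
    have hco : Nat.Coprime (5 ^ 3) (2 ^ i * 3 ^ j) :=
      Nat.Coprime.mul_right (Nat.Coprime.pow _ _ (by norm_num)) (Nat.Coprime.pow _ _ (by norm_num))
    exact (Nat.pow_dvd_pow_iff_le_right (by norm_num : 1 < 5)).1 (hco.dvd_of_dvd_mul_left h125)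
  rw [hsplit]
  norm_num [Finset.sum_insert] at h0
  simp only [one_div] at *
  linarith

/-- No set of numbers `2 ^ i * 3 ^ j`, `i ≤ 3`, outside `{1, 2, 3}` adds up to one. -/
theorem sum_lt_one_of_small_two (D : Finset ℕ) (hD : ∀ d ∈ D, ∃ i j, d = 2 ^ i * 3 ^ j ∧ i ≤ 3)
    (h3 : ∀ d ∈ D, 4 ≤ d) : ∑ d ∈ D, (1 / d : ℚ) < 1 := by
  classical
  set N := D.sup id + 5 with hN
  have h : ∑ d ∈ D, (1 / d : ℚ) ≤ 45 / 16 - ∑ d ∈ ({1, 2, 3} : Finset ℕ), (1 / d : ℚ) := by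
    refine sum_insert_le _ (Finset.disjoint_left.2 fun d hd hd' => ?_) ?_
    · have := h3 d hd
      simp only [Finset.mem_insert, Finset.mem_singleton] at hd'
      omega
    refine (sum_inv_le_box _ (Finset.range 4) (Finset.range N) {0}
      (a := 15 / 8) (by norm_num [Finset.sum_range_succ]) (geom_range_le _ (by norm_num) (by norm_num) N)
      (c := 1) (by simp) fun d hd => ?_).trans (by norm_num)
    rcases Finset.mem_union.1 hd with hd | hd
    · obtain ⟨i, j, e, hi⟩ := hD d hd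
      have hle := Finset.le_sup (f := id) hd
      simp only [id_eq] at hle
      have hj : j < 3 ^ j := Nat.lt_pow_self (by norm_num)
      have e3 : 3 ^ j ≤ d := Nat.le_of_dvd (e ▸ by positivity) (e ▸ dvd_mul_left _ _)
      exact ⟨i, by simp; omega, j, by simp; omega, 0, by simp, by rw [pow_zero, mul_one]; exact e⟩
    · simp only [Finset.mem_insert, Finset.mem_singleton] at hd
      rcases hd with rfl | rfl | rfl
      · exact ⟨0, by simp, 0, by simp; omega, 0, by simp, by norm_num⟩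
      · exact ⟨1, by simp, 0, by simp; omega, 0, by simp, by norm_num⟩
      · exact ⟨0, by simp, 1, by simp; omega, 0, by simp, by norm_num⟩
  norm_num [Finset.sum_insert] at h
  simp only [one_div] at *
  linarith

/-- The case of a number three. -/
theorem sum_lt_one_of_three (D : Finset ℕ) {n : ℕ} (hn : 12 ≤ n) (hD : ∀ d ∈ D, GoodOrder d)
    (h3 : ∀ d ∈ D, 3 ∣ d → d = 3 ∨ d = n) (h2 : ∀ d ∈ D, 3 ≤ d) :
    ∑ d ∈ D, (1 / d : ℚ) < 1 := by
  classical
  set N := D.sup id + 5 with hN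
  have hlt : ∀ d ∈ D, d < N := fun d hd => by
    have := Finset.le_sup (f := id) hd
    simp only [id_eq] at this
    omega
  have hA : ∑ d ∈ D.filter (fun d => 3 ∣ d), (1 / d : ℚ) ≤ 1 / 3 + 1 / 12 := by
    refine (Finset.sum_le_sum_of_subset_of_nonneg (t := {3, n}) (fun d hd => ?_)
      fun d _ _ => by positivity).trans ?_
    · obtain ⟨hdD, h⟩ := Finset.mem_filter.1 hd
      simp only [Finset.mem_insert, Finset.mem_singleton]
      exact h3 d hdD h
    · rw [Finset.sum_pair (by omega)]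
      have : (1 / (n : ℚ)) ≤ 1 / 12 := one_div_le_one_div_of_le (by norm_num) (by exact_mod_cast hn)
      norm_num at this ⊢
      linarith
  set R := D.filter fun d => ¬ 3 ∣ d
  have hR : ∀ d ∈ R, ∃ i k, d = 2 ^ i * 3 ^ 0 * 5 ^ k ∧ (k = 0 ∨ 3 ≤ k) ∧ i < N ∧ k < N := by
    intro d hd
    obtain ⟨hdD, h⟩ := Finset.mem_filter.1 hd
    obtain ⟨i, j, k, e, hk1, hk2⟩ := hD d hdD
    have hj : j = 0 := by
      by_contra hj
      exact h (e ▸ ((dvd_pow_self 3 hj).mul_left _).mul_right _)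
    obtain ⟨hi, -, hk⟩ := exp_lt e (hlt d hdD)
    refine ⟨i, k, hj ▸ e, ?_, hi, hk⟩
    rcases Nat.eq_zero_or_pos k with h0 | h0
    · exact Or.inl h0
    · have : k ≠ 2 := fun e2 => by have := hk2 e2; omega
      omega
  have hB : ∑ d ∈ R, (1 / d : ℚ) ≤ (2 + 2 / 100) - ∑ d ∈ ({1, 2} : Finset ℕ), (1 / d : ℚ) := by
    refine sum_insert_le _ (Finset.disjoint_left.2 fun d hd hd' => ?_) ?_
    · have := h2 d (Finset.mem_filter.1 hd).1
      simp only [Finset.mem_insert, Finset.mem_singleton] at hd'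
      omega
    have hKsum : ∑ k ∈ insert 0 (Finset.Ico 3 N), (1 / 5 : ℚ) ^ k ≤ 1 + 1 / 100 := by
      rw [Finset.sum_insert (by simp)]
      have := geom_Ico_le (1 / 5) (by norm_num) (by norm_num) 3 N
      norm_num at this ⊢
      linarith
    refine (sum_inv_le_box _ (Finset.range N) {0} (insert 0 (Finset.Ico 3 N))
      (geom_range_le _ (by norm_num) (by norm_num) N) (b := 1) (by simp) hKsum
      fun d hd => ?_).trans (by norm_num)
    rcases Finset.mem_union.1 hd with hd | hd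
    · obtain ⟨i, k, e, hk, hi, hkN⟩ := hR d hd
      refine ⟨i, by simpa using hi, 0, by simp, k, ?_, e⟩
      rcases hk with hk | hk
      · simp [hk]
      · exact Finset.mem_insert_of_mem (Finset.mem_Ico.2 ⟨hk, hkN⟩)
    · simp only [Finset.mem_insert, Finset.mem_singleton] at hd
      rcases hd with rfl | rfl
      · exact ⟨0, by simp; omega, 0, by simp, 0, by simp, by norm_num⟩
      · exact ⟨1, by simp; omega, 0, by simp, 0, by simp, by norm_num⟩
  rw [← Finset.sum_filter_add_sum_filter_not D (fun d => 3 ∣ d)]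
  norm_num [Finset.sum_insert] at hB hA ⊢
  linarith

end CfsgLib.RationalGroup
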