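import Mathlib

/-!
# Rational groups

Groups in which every element is conjugate to the generators of its cyclic subgroup, and groups
whose conjugacy classes have distinct sizes.
-/

set_option autoImplicit false

namespace CfsgLib.RationalGroup

open Subgroup

universe u v

variable {G : Type u} [Group G] [Finite G]

/-- Every element is conjugate to each generator of the cyclic group it spans. -/
def IsRational (G : Type u) [Group G] : Prop :=
  ∀ (x : G) (j : ℕ), j.Coprime (orderOf x) → IsConj x (x ^ j)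

/-- Elements with centralisers of the same order are conjugate. -/
def IsDistinct (G : Type u) [Group G] : Prop :=
  ∀ x y : G, Nat.card (centralizer ({x} : Set G)) = Nat.card (centralizer ({y} : Set G)) → IsConj x y

theorem exists_coprime_modEq {a b j : ℕ} (hab : a ∣ b) (hb : b ≠ 0) (hj : j.Coprime a) :
    ∃ m : ℕ, m.Coprime b ∧ m ≡ j [MOD a] := by
  have : NeZero b := ⟨hb⟩
  obtain ⟨u, hu⟩ := ZMod.unitsMap_surjective hab (ZMod.unitOfCoprime j hj)
  refine ⟨(u : ZMod b).val, ?_, ?_⟩
  · exact ZMod.val_coe_unit_coprime u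
  · rw [← ZMod.natCast_eq_natCast_iff]
    have h1 := congrArg Units.val hu
    rw [ZMod.unitsMap_def, Units.coe_map, ZMod.coe_unitOfCoprime] at h1
    rw [← h1]
    show ((u : ZMod b).val : ZMod a) = ZMod.castHom hab (ZMod a) (u : ZMod b)
    rw [ZMod.natCast_val]
    rfl

theorem IsRational.of_surjective {H : Type v} [Group H] (hG : IsRational G) (f : G →* H)
    (hf : Function.Surjective f) : IsRational H := by
  intro x j hj
  obtain ⟨g, rfl⟩ := hf x
  obtain ⟨m, hm, hmj⟩ := exists_coprime_modEq (orderOf_map_dvd f g) (orderOf_pos g).ne' hj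
  have := f.map_isConj (hG g m hm)
  rwa [map_pow, pow_eq_pow_iff_modEq.2 hmj] at this

theorem IsRational.quotient (hG : IsRational G) (N : Subgroup G) [N.Normal] : IsRational (G ⧸ N) :=
  hG.of_surjective _ (QuotientGroup.mk'_surjective N)

theorem IsRational.isConj_inv (hG : IsRational G) (x : G) : IsConj x x⁻¹ := by
  have h1 : x ^ (orderOf x - 1) = x⁻¹ := eq_inv_of_mul_eq_one_left (by
    rw [← pow_succ, Nat.sub_add_cancel (orderOf_pos x), pow_orderOf_eq_one])
  rw [← h1]
  refine hG x _ ?_
  obtain ⟨k, hk⟩ := Nat.exists_eq_add_of_le (orderOf_pos x)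
  rw [show orderOf x - 1 = k by omega, show orderOf x = k + 1 by omega]
  simp

theorem IsRational.sq_eq_one {A : Type v} [CommGroup A] (hG : IsRational G) (f : G →* A) (x : G) :
    f x ^ 2 = 1 := by
  have h1 := f.map_isConj (hG.isConj_inv x)
  rw [isConj_iff_eq, map_inv, eq_inv_iff_mul_eq_one] at h1
  rw [pow_two, h1]

/-- Independent powers of commuting elements of coprime orders. -/
theorem IsRational.exists_conj_pair (hG : IsRational G) {h u : G} (hc : Commute h u)
    (hcop : (orderOf h).Coprime (orderOf u)) {j k : ℕ} (hj : j.Coprime (orderOf h))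
    (hk : k.Coprime (orderOf u)) :
    ∃ g : G, g * h * g⁻¹ = h ^ j ∧ g * u * g⁻¹ = u ^ k := by
  obtain ⟨m, hmj, hmk⟩ := Nat.chineseRemainder hcop j k
  have hm : m.Coprime (orderOf (h * u)) := by
    rw [hc.orderOf_mul_eq_mul_orderOf_of_coprime hcop]
    refine Nat.Coprime.mul_right ?_ ?_
    · rw [Nat.coprime_iff_gcd_eq_one, hmj.gcd_eq]; exact hj
    · rw [Nat.coprime_iff_gcd_eq_one, hmk.gcd_eq]; exact hk
  obtain ⟨g, hg⟩ := isConj_iff.1 (hG _ m hm)
  rw [hc.mul_pow, pow_eq_pow_iff_modEq.2 hmj, pow_eq_pow_iff_modEq.2 hmk] at hg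
  obtain ⟨e, he1, he0⟩ := Nat.chineseRemainder hcop 1 0
  obtain ⟨e', he'0, he'1⟩ := Nat.chineseRemainder hcop 0 1
  have key : ∀ n : ℕ, g * (h * u) ^ n * g⁻¹ = (h ^ j) ^ n * (u ^ k) ^ n := fun n => by
    rw [← conj_pow, hg, (Commute.pow_pow hc j k).mul_pow]
  refine ⟨g, ?_, ?_⟩
  · have h1 := key e
    rw [hc.mul_pow, pow_eq_pow_iff_modEq.2 he1, pow_eq_pow_iff_modEq.2 he0, pow_one, pow_zero,
      mul_one, ← pow_mul, ← pow_mul, mul_comm j e, mul_comm k e, pow_mul, pow_mul,
      pow_eq_pow_iff_modEq.2 he1, pow_eq_pow_iff_modEq.2 he0, pow_one, pow_zero, one_pow,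
      mul_one] at h1
    exact h1
  · have h1 := key e'
    rw [hc.mul_pow, pow_eq_pow_iff_modEq.2 he'0, pow_eq_pow_iff_modEq.2 he'1, pow_one, pow_zero,
      one_mul, ← pow_mul, ← pow_mul, mul_comm j e', mul_comm k e', pow_mul, pow_mul,
      pow_eq_pow_iff_modEq.2 he'0, pow_eq_pow_iff_modEq.2 he'1, pow_one, pow_zero, one_pow,
      one_mul] at h1
    exact h1

theorem card_carrier_mul (x : G) :
    Nat.card (ConjClasses.mk x).carrier * Nat.card (centralizer ({x} : Set G)) = Nat.card G := by
  have h1 := MulAction.index_stabilizer (ConjAct G) x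
  rw [ConjAct.orbit_eq_carrier_conjClasses, ← Nat.card_coe_set_eq] at h1
  have h2 : Nat.card (MulAction.stabilizer (ConjAct G) x) = Nat.card (centralizer ({x} : Set G)) := by
    rw [ConjAct.stabilizer_eq_centralizer]
    rfl
  have h3 := (MulAction.stabilizer (ConjAct G) x).index_mul_card
  rw [h1, h2] at h3
  exact h3.trans (Nat.card_congr ConjAct.ofConjAct.toEquiv)

theorem isDistinct_of_injective (h : Function.Injective fun C : ConjClasses G => Nat.card C.carrier) :
    IsDistinct G := by
  intro x y he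
  rw [← ConjClasses.mk_eq_mk_iff_isConj]
  refine h ?_
  show Nat.card (ConjClasses.mk x).carrier = Nat.card (ConjClasses.mk y).carrier
  have h1 := card_carrier_mul x
  rw [he, ← card_carrier_mul y] at h1
  exact Nat.eq_of_mul_eq_mul_right Nat.card_pos h1

theorem IsDistinct.isRational (hG : IsDistinct G) : IsRational G := by
  intro x j hj
  refine hG _ _ ?_
  obtain ⟨m, hm⟩ := exists_pow_eq_self_of_coprime hj
  have e : centralizer ({x} : Set G) = centralizer ({x ^ j} : Set G) := by
    ext g
    rw [mem_centralizer_singleton_iff, mem_centralizer_singleton_iff]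
    constructor
    · exact fun h => ((show Commute g x from h).pow_right j).eq
    · intro h
      have := (show Commute g (x ^ j) from h).pow_right m
      rwa [hm] at this
  rw [e]

/-- The centraliser orders are distinct numbers whose reciprocals add up to one. -/
theorem IsDistinct.exists_sum (hG : IsDistinct G) :
    ∃ D : Finset ℕ, (∀ d, d ∈ D ↔ ∃ x : G, Nat.card (centralizer ({x} : Set G)) = d) ∧
      ∑ d ∈ D, (1 / d : ℚ) = 1 := by
  classical
  have := Fintype.ofFinite G
  have := Fintype.ofFinite (ConjClasses G)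
  let d : ConjClasses G → ℕ := fun C => Nat.card (centralizer ({Quotient.out C} : Set G))
  have hd : ∀ x : G, d (ConjClasses.mk x) = Nat.card (centralizer ({x} : Set G)) := by
    intro x
    have h1 := card_carrier_mul (Quotient.out (ConjClasses.mk x))
    rw [show ConjClasses.mk (Quotient.out (ConjClasses.mk x)) = ConjClasses.mk x from Quotient.out_eq _,
      ← card_carrier_mul x] at h1
    refine Nat.eq_of_mul_eq_mul_left ?_ h1
    have : Nonempty (ConjClasses.mk x).carrier := ⟨⟨x, ConjClasses.mem_carrier_mk⟩⟩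
    exact Nat.card_pos
  have hinj : Function.Injective d := by
    intro C C' e
    obtain ⟨x, rfl⟩ := ConjClasses.exists_rep C
    obtain ⟨y, rfl⟩ := ConjClasses.exists_rep C'
    rw [hd, hd] at e
    exact ConjClasses.mk_eq_mk_iff_isConj.2 (hG x y e)
  refine ⟨Finset.univ.image d, fun n => ?_, ?_⟩
  · rw [Finset.mem_image]
    constructor
    · rintro ⟨C, -, rfl⟩
      exact ⟨Quotient.out C, rfl⟩
    · rintro ⟨x, rfl⟩
      exact ⟨_, Finset.mem_univ _, hd x⟩
  rw [Finset.sum_image fun a _ b _ e => hinj e]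
  have h1 : ∀ C : ConjClasses G, (1 / d C : ℚ) = (Nat.card C.carrier : ℚ) / Nat.card G := by
    intro C
    obtain ⟨x, rfl⟩ := ConjClasses.exists_rep C
    rw [hd, ← card_carrier_mul x]
    have : Nonempty (ConjClasses.mk x).carrier := ⟨⟨x, ConjClasses.mem_carrier_mk⟩⟩
    have e1 : (Nat.card (ConjClasses.mk x).carrier : ℚ) ≠ 0 :=
      Nat.cast_ne_zero.2 Nat.card_pos.ne'
    rw [Nat.cast_mul, ← div_div, div_self e1]
  rw [Finset.sum_congr rfl fun C _ => h1 C, ← Finset.sum_div, div_eq_one_iff_eq
    (Nat.cast_ne_zero.2 Nat.card_pos.ne'), ← Nat.cast_sum]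
  congr 1
  rw [Nat.card_eq_fintype_card, ← sum_conjClasses_card_eq_card]
  exact Finset.sum_congr rfl fun C _ => by rw [Nat.card_eq_fintype_card, Set.toFinset_card]

end CfsgLib.RationalGroup
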