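import Mathlib

/-!
# Prime powers next to numbers of the form `2 ^ a * 3 ^ b`
-/

set_option autoImplicit false

namespace CfsgLib.RationalGroup

theorem eq_one_of_smooth {n : ℕ} (h2 : ¬ 2 ∣ n) (h3 : ¬ 3 ∣ n)
    (hs : ∀ r : ℕ, r.Prime → r ∣ n → r = 2 ∨ r = 3) : n = 1 := by
  refine Nat.eq_one_iff_not_exists_prime_dvd.2 fun r hr hrn => ?_
  rcases hs r hr hrn with rfl | rfl
  · exact h2 hrn
  · exact h3 hrn

theorem sq_add_one_not_smooth {r : ℕ} (hr : 5 ≤ r ^ 2) (hodd : ¬ 2 ∣ r) :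
    ∃ l : ℕ, l.Prime ∧ l ∣ r ^ 2 + 1 ∧ l ≠ 2 ∧ l ≠ 3 := by
  obtain ⟨k, rfl⟩ : Odd r := Nat.odd_iff.2 (Nat.two_dvd_ne_zero.1 hodd)
  obtain ⟨j, hj⟩ : ∃ j, (2 * k + 1) ^ 2 + 1 = 2 * (2 * j + 1) :=
    ⟨k * k + k, by ring⟩
  by_contra hc
  push Not at hc
  have h1 := eq_one_of_smooth (n := 2 * j + 1) (by omega) ?_ fun l hl hld => ?_
  · rw [h1] at hj
    omega
  · intro h3
    have h4 : 3 ∣ (2 * k + 1) ^ 2 + 1 := hj ▸ h3.mul_left 2
    have h5 : ((2 * k + 1) ^ 2 + 1 : ZMod 3) = 0 := by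
      exact_mod_cast (ZMod.natCast_eq_zero_iff _ 3).2 h4
    generalize (k : ZMod 3) = c at h5
    revert h5
    revert c
    decide
  · by_cases e : l = 2
    · exact Or.inl e
    · exact Or.inr (hc l hl (hj ▸ hld.mul_left 2) e)

/-- If `p ^ (2 * m) - 1` has no prime divisor but `2` and `3`, then `m = 1`. -/
theorem eq_one_of_smooth_pow_sub_one {p m : ℕ} (hp : p.Prime) (h5 : 5 ≤ p) (hm : 1 ≤ m)
    (hs : ∀ r : ℕ, r.Prime → r ∣ p ^ (2 * m) - 1 → r = 2 ∨ r = 3) : m = 1 := by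
  by_contra hne
  have hp2 : ¬ 2 ∣ p := fun h => by
    have := (Nat.prime_dvd_prime_iff_eq Nat.prime_two hp).1 h
    omega
  rcases Nat.even_or_odd m with ⟨s, hs2⟩ | hodd
  · have hbig : 5 ≤ (p ^ s) ^ 2 := le_trans h5 (by
      rw [← pow_mul]; exact Nat.le_self_pow (by omega) p)
    obtain ⟨l, hl, hld, hl2, hl3⟩ := sq_add_one_not_smooth hbig
      (fun h => hp2 (Nat.prime_two.dvd_of_dvd_pow h))
    have : (p ^ s) ^ 2 + 1 ∣ p ^ (2 * m) - 1 := by
      refine Dvd.intro ((p ^ s) ^ 2 - 1) ?_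
      rw [← Nat.sq_sub_sq, one_pow, ← pow_mul, ← pow_mul]
      congr 2
      omega
    exact (hs l hl (hld.trans this)).elim hl2 hl3
  set q := p ^ m with hq
  have hpq : p < q := by
    rw [hq]; exact lt_self_pow₀ hp.one_lt (by omega)
  have hfac : p ^ (2 * m) - 1 = (q + 1) * (q - 1) := by
    rw [← Nat.sq_sub_sq, one_pow, hq, ← pow_mul, mul_comm]
  have h3 : ¬ 3 ∣ q - 1 ∨ ¬ 3 ∣ q + 1 := by omega
  rcases h3 with h3 | h3
  · -- the geometric sum
    have hmul := geom_sum_mul_of_one_le (R := ℕ) (x := p) (by omega) m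
    set s := ∑ i ∈ Finset.range m, p ^ i with hsdef
    rw [← hq] at hmul
    have hs1 : s = 1 := by
      refine eq_one_of_smooth ?_ (fun h => h3 (hmul ▸ h.mul_right _)) fun r hr hrs =>
        hs r hr (hfac ▸ (hmul ▸ hrs.mul_right _).mul_left _)
      intro h
      have h1 : (s : ZMod 2) = 0 := (ZMod.natCast_eq_zero_iff _ 2).2 h
      have hp1 : (p : ZMod 2) = 1 := ZMod.natCast_eq_one_iff_odd.2 (Nat.odd_iff.2 (Nat.two_dvd_ne_zero.1 hp2))
      rw [hsdef, Nat.cast_sum] at h1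
      simp only [Nat.cast_pow, hp1, one_pow, Finset.sum_const, Finset.card_range, nsmul_one] at h1
      rw [ZMod.natCast_eq_zero_iff] at h1
      exact Nat.not_even_iff_odd.2 hodd (even_iff_two_dvd.2 h1)
    rw [hs1, one_mul] at hmul
    omega
  · -- the alternating sum
    have hmul := geom_sum_mul (-(p : ℤ)) m
    rw [hodd.neg_pow, show ((p : ℤ) ^ m) = (q : ℤ) by rw [hq]; push_cast; ring] at hmul
    set A := ∑ i ∈ Finset.range m, (-(p : ℤ)) ^ i with hA
    have hdvd : A.natAbs ∣ q + 1 := by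
      refine Int.natCast_dvd_natCast.1 ?_
      rw [Int.natAbs_dvd]
      exact ⟨(p : ℤ) + 1, by push_cast; linear_combination hmul⟩
    have hA1 : A.natAbs = 1 := by
      refine eq_one_of_smooth ?_ (fun h => h3 (h.trans hdvd)) fun r hr hrs =>
        hs r hr (hfac ▸ (hrs.trans hdvd).mul_right _)
      intro h
      have h1 : (A : ZMod 2) = 0 := (ZMod.intCast_zmod_eq_zero_iff_dvd _ 2).2 (Int.natCast_dvd.2 h)
      have hp1 : (p : ZMod 2) = 1 := ZMod.natCast_eq_one_iff_odd.2 (Nat.odd_iff.2 (Nat.two_dvd_ne_zero.1 hp2))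
      rw [hA, Int.cast_sum] at h1
      simp only [Int.cast_pow, Int.cast_neg, Int.cast_natCast, hp1, show (-1 : ZMod 2) = 1 by decide,
        one_pow, Finset.sum_const, Finset.card_range, nsmul_one] at h1
      rw [ZMod.natCast_eq_zero_iff] at h1
      exact Nat.not_even_iff_odd.2 hodd (even_iff_two_dvd.2 h1)
    rcases Int.natAbs_eq_iff.1 hA1 with e | e <;> rw [e] at hmul <;> push_cast at hmul <;> omega

end CfsgLib.RationalGroup
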