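import Cfsg.Agent.Lib.RationalGroup.Basic
import Cfsg.Agent.Lib.Solvable.PCore
import Cfsg.Agent.Lib.Solvable.HallHigman
import Mathlib.GroupTheory.IndexNormal

/-!
# The two-part of a rational group
-/

set_option autoImplicit false

namespace CfsgLib.RationalGroup

open Subgroup

universe u

variable {G : Type u} [Group G] [Finite G]

theorem IsRational.totient_mul_orderOf_dvd (hG : IsRational G) (x : G) :
    Nat.totient (orderOf x) * orderOf x ∣ Nat.card G := by
  classical
  set N := normalizer (zpowers x : Set G) with hN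
  let x' : N := ⟨x, le_normalizer (mem_zpowers x)⟩
  have hset : (Subtype.val : N → G) '' (ConjClasses.mk x').carrier
      = (Subtype.val : zpowers x → G) '' {y : zpowers x | orderOf y = orderOf x} := by
    ext a
    constructor
    · rintro ⟨b, hb, rfl⟩
      rw [ConjClasses.mem_carrier_iff_mk_eq, ConjClasses.mk_eq_mk_iff_isConj] at hb
      obtain ⟨c, hc⟩ := isConj_iff.1 hb.symm
      have e : (c : G) * x * (c : G)⁻¹ = b := congrArg Subtype.val hc
      refine ⟨⟨b, e ▸ (mem_normalizer_iff.1 c.2 x).1 (mem_zpowers x)⟩, ?_, rfl⟩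
      show orderOf _ = _
      rw [← orderOf_injective (zpowers x).subtype (zpowers x).subtype_injective]
      show orderOf (b : G) = orderOf x
      rw [← e]
      exact orderOf_injective (MulAut.conj (c : G)).toMonoidHom (MulAut.conj (c : G)).injective x
    · rintro ⟨⟨b, hb⟩, hord, rfl⟩
      obtain ⟨i, -, rfl⟩ : ∃ i < orderOf x, x ^ i = b := by
        rw [mem_zpowers_iff_mem_range_orderOf] at hb
        simpa using hb
      have hi : i.Coprime (orderOf x) := by
        have h1 : orderOf (x ^ i) = orderOf x := by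
          rw [← hord, ← orderOf_injective (zpowers x).subtype (zpowers x).subtype_injective]; rfl
        rw [orderOf_pow, Nat.div_eq_self] at h1
        rcases h1 with h1 | h1
        · exact absurd h1 (orderOf_pos x).ne'
        · exact Nat.Coprime.symm h1
      obtain ⟨g, hg⟩ := isConj_iff.1 (hG x i hi)
      have hgN : g ∈ N := by
        rw [hN]
        have hz : (zpowers x).map (MulAut.conj g).toMonoidHom = zpowers x := by
          rw [MonoidHom.map_zpowers]
          show zpowers (g * x * g⁻¹) = _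
          rw [hg]
          refine eq_of_le_of_card_ge (zpowers_le.2 (pow_mem (mem_zpowers x) i)) (le_of_eq ?_)
          rw [Nat.card_zpowers, Nat.card_zpowers, hi.symm.orderOf_pow]
        rw [mem_normalizer_iff]
        intro y
        conv_rhs => rw [← hz]
        exact (Subgroup.mem_map_iff_mem (MulAut.conj g).injective).symm
      refine ⟨⟨x ^ i, hg ▸ ?_⟩, ?_, rfl⟩
      · exact mul_mem (mul_mem hgN x'.2) (inv_mem hgN)
      · rw [ConjClasses.mem_carrier_iff_mk_eq, ConjClasses.mk_eq_mk_iff_isConj]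
        exact (isConj_iff.2 ⟨⟨g, hgN⟩, Subtype.ext hg⟩).symm
  have hcl : Nat.card (ConjClasses.mk x').carrier = Nat.totient (orderOf x) := by
    rw [Nat.card_coe_set_eq, ← Set.ncard_image_of_injective _ Subtype.val_injective, hset,
      Set.ncard_image_of_injective _ Subtype.val_injective]
    have := Fintype.ofFinite (zpowers x)
    rw [Set.ncard_eq_toFinset_card', Set.toFinset_ofPred]
    exact IsCyclic.card_orderOf_eq_totient (by rw [← Nat.card_eq_fintype_card, Nat.card_zpowers])
  have h1 := card_carrier_mul x'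
  rw [hcl] at h1
  refine dvd_trans ?_ (h1 ▸ N.card_subgroup_dvd_card)
  refine Nat.mul_dvd_mul_left _ ?_
  rw [show orderOf x = orderOf x' from orderOf_injective N.subtype N.subtype_injective x']
  exact Subgroup.orderOf_dvd_natCard _ (mem_centralizer_singleton_iff.2 rfl)

/-- A `2`-group with an element whose centraliser has order at most four has a cyclic subgroup of
index at most two. -/
theorem exists_large_cyclic (n : ℕ) : ∀ (S : Type u) [Group S] [Finite S], Nat.card S = n →
    IsPGroup 2 S → ∀ x : S, Nat.card (centralizer ({x} : Set S)) ≤ 4 →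
    ∃ g : S, Nat.card S ≤ 2 * orderOf g := by
  induction n using Nat.strong_induction_on with
  | _ n ih =>
    intro S _ _ hn hS x hx
    classical
    obtain ⟨s, hs⟩ := IsPGroup.iff_card.1 hS
    have hord : ∀ g : S, ∃ j, j ≤ s ∧ orderOf g = 2 ^ j := fun g =>
      (Nat.dvd_prime_pow Nat.prime_two).1 (hs ▸ orderOf_dvd_natCard g)
    by_cases hs1 : s ≤ 1
    · exact ⟨1, by rw [hs, orderOf_one, mul_one]; calc 2 ^ s ≤ 2 ^ 1 := Nat.pow_le_pow_right (by norm_num) hs1
                _ = 2 := by norm_num⟩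
    have hnt : Nontrivial S := Finite.one_lt_card_iff_nontrivial.1 (by
      rw [hs]; exact Nat.one_lt_pow (by omega) (by norm_num))
    by_cases hs2 : s = 2
    · obtain ⟨g, hg⟩ := exists_ne (1 : S)
      refine ⟨g, ?_⟩
      have : 2 ≤ orderOf g := by
        have h1 := orderOf_pos g
        have h2 : orderOf g ≠ 1 := fun e => hg (orderOf_eq_one_iff.1 e)
        omega
      rw [hs, hs2]; omega
    by_cases hs3 : s = 3
    · have hex : ∃ g : S, g ^ 2 ≠ 1 := by
        by_contra hc
        push Not at hc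
        have htop : centralizer ({x} : Set S) = ⊤ := eq_top_iff.2 fun a _ => by
          rw [mem_centralizer_singleton_iff]
          have hinv : ∀ b : S, b⁻¹ = b := fun b => inv_eq_of_mul_eq_one_right (by rw [← pow_two]; exact hc b)
          rw [← hinv (a * x), mul_inv_rev, hinv, hinv]
        rw [htop, card_top, hs, hs3] at hx
        norm_num at hx
      obtain ⟨g, hg⟩ := hex
      obtain ⟨j, -, hj⟩ := hord g
      refine ⟨g, ?_⟩
      have : 2 ≤ j := by
        by_contra hlt
        refine hg (orderOf_dvd_iff_pow_eq_one.1 ?_)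
        rw [hj, show (2 : ℕ) = 2 ^ 1 by norm_num]
        exact Nat.pow_dvd_pow 2 (by omega)
      rw [hs, hs3, hj]
      calc (2 : ℕ) ^ 3 = 2 * 2 ^ 2 := by norm_num
        _ ≤ 2 * 2 ^ j := Nat.mul_le_mul_left 2 (Nat.pow_le_pow_right (by norm_num) this)
    have hs4 : 4 ≤ s := by omega
    have h16 : 16 ≤ Nat.card S := by
      rw [hs]; exact (show 16 = 2 ^ 4 by norm_num) ▸ Nat.pow_le_pow_right (by norm_num) hs4
    set Z : Subgroup S := center S with hZdef
    set C : Subgroup S := centralizer ({x} : Set S) with hCdef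
    have hxZ : x ∉ Z := fun h => by
      have htop : C = ⊤ := eq_top_iff.2 fun a _ => by
        rw [hCdef, mem_centralizer_singleton_iff]; exact mem_center_iff.1 h a
      rw [htop, card_top] at hx
      omega
    have hZC : Z ≤ C := fun a ha => by
      rw [hCdef, mem_centralizer_singleton_iff]; exact (mem_center_iff.1 ha x).symm
    have hxC : x ∈ C := by rw [hCdef, mem_centralizer_singleton_iff]
    have hZ2 : Nat.card Z = 2 := by
      have h1 : Nat.card Z ∣ Nat.card C := card_dvd_of_le hZC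
      have h2 : Nat.card Z ≠ Nat.card C := fun e => hxZ (eq_of_le_of_card_ge hZC e.ge ▸ hxC)
      have h3 : 1 < Nat.card Z := Finite.one_lt_card_iff_nontrivial.2 hS.center_nontrivial
      obtain ⟨j, hj, e1⟩ := (Nat.dvd_prime_pow Nat.prime_two).1 (hs ▸ card_subgroup_dvd_card Z)
      obtain ⟨k, hk⟩ := h1
      rw [e1] at h2 h3 hk ⊢
      have hj1 : j ≠ 0 := fun e => by rw [e] at h3; norm_num at h3
      have hk2 : 2 ≤ k := by
        rcases k with _ | _ | k
        · rw [mul_zero] at hk; exact absurd hk Nat.card_pos.ne'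
        · rw [zero_add, mul_one] at hk; exact absurd hk.symm h2
        · omega
      have : j = 1 := by
        by_contra hne
        have : 2 ^ 2 ≤ 2 ^ j := Nat.pow_le_pow_right (by norm_num) (by omega)
        nlinarith
      rw [this, pow_one]
    have hzsq : ∀ w ∈ Z, w ^ 2 = 1 := fun w hw => by
      have h1 : (⟨w, hw⟩ : Z) ^ 2 = 1 := hZ2 ▸ pow_card_eq_one'
      simpa using congrArg Subtype.val h1
    have hQ : Nat.card (S ⧸ Z) * 2 = Nat.card S := by
      rw [← hZ2]; exact (card_eq_card_quotient_mul_card_subgroup Z).symm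
    have hxbar : Nat.card (centralizer ({(x : S ⧸ Z)} : Set (S ⧸ Z))) ≤ 4 := by
      have h1 := card_carrier_mul (x : S ⧸ Z)
      have h2 := card_carrier_mul x
      have h3 : Nat.card (ConjClasses.mk x).carrier
          ≤ 2 * Nat.card (ConjClasses.mk (x : S ⧸ Z)).carrier := by
        rw [← hZ2, ← Nat.card_prod,
          ← Nat.card_congr (QuotientGroup.preimageMkEquivSubgroupProdSet Z _)]
        refine Nat.card_mono (Set.toFinite _) fun a ha => ?_
        rw [Set.mem_preimage, ConjClasses.mem_carrier_iff_mk_eq, ConjClasses.mk_eq_mk_iff_isConj]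
        rw [ConjClasses.mem_carrier_iff_mk_eq, ConjClasses.mk_eq_mk_iff_isConj] at ha
        exact (QuotientGroup.mk' Z).map_isConj ha
      rw [← hCdef] at h2
      have h4 : 0 < Nat.card (ConjClasses.mk (x : S ⧸ Z)).carrier := by
        rcases Nat.eq_zero_or_pos (Nat.card (ConjClasses.mk (x : S ⧸ Z)).carrier) with e | e
        · rw [e, zero_mul] at h1; exact absurd h1.symm Nat.card_pos.ne'
        · exact e
      nlinarith
    obtain ⟨abar, habar⟩ := ih _ (by omega) (S ⧸ Z) rfl (hS.to_quotient Z) (x : S ⧸ Z) hxbar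
    obtain ⟨a, rfl⟩ := QuotientGroup.mk_surjective abar
    by_cases hbig : Nat.card S ≤ 2 * orderOf a
    · exact ⟨a, hbig⟩
    exfalso
    obtain ⟨j, -, hj⟩ := hord a
    have hdvd : orderOf (a : S ⧸ Z) ∣ orderOf a := orderOf_map_dvd (QuotientGroup.mk' Z) a
    have hle : orderOf (a : S ⧸ Z) ≤ orderOf a := Nat.le_of_dvd (orderOf_pos a) hdvd
    have hj4 : Nat.card S = 4 * 2 ^ j := by
      rw [hs] at hQ hbig ⊢
      rw [hj] at hbig hle
      have e : (2 : ℕ) ^ (j + 2) = 4 * 2 ^ j := by ring
      have e1 : j + 1 < s := (Nat.pow_lt_pow_iff_right (by norm_num : 1 < 2)).1 (by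
        rw [pow_succ]; omega)
      have e2 : s ≤ j + 2 := (Nat.pow_le_pow_iff_right (by norm_num : 1 < 2)).1 (by rw [e]; omega)
      rw [← e]; congr 1; omega
    have hbar : orderOf (a : S ⧸ Z) = orderOf a := by
      rw [hj] at hle hdvd ⊢; omega
    have hj2 : 2 ≤ j := by
      rw [hs] at hj4
      have e : (2 : ℕ) ^ (j + 2) = 4 * 2 ^ j := by ring
      have := Nat.pow_right_injective (le_refl 2) (e ▸ hj4 : 2 ^ s = 2 ^ (j + 2))
      omega
    have hidx : (zpowers (a : S ⧸ Z)).index = 2 := by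
      have h1 := (zpowers (a : S ⧸ Z)).card_mul_index
      rw [Nat.card_zpowers, hbar, hj] at h1
      have : 2 ^ j * (zpowers (a : S ⧸ Z)).index = 2 ^ j * 2 := by rw [h1]; omega
      exact Nat.eq_of_mul_eq_mul_left (Nat.two_pow_pos j) this
    have hNorm := normal_of_index_eq_two hidx
    set e := 2 ^ (j - 1) with hedef
    have he : e * 2 = orderOf a := by
      rw [hj, hedef, ← pow_succ]; congr 1; omega
    obtain ⟨e', he'⟩ : 2 ∣ e := by rw [hedef]; exact dvd_pow_self 2 (by omega)
    set a' := a ^ e with ha'def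
    have ha'1 : a' ≠ 1 := pow_ne_one_of_lt_orderOf (Nat.two_pow_pos _).ne' (by omega)
    have ha'Z : a' ∉ Z := fun h => by
      have h1 : ((a : S ⧸ Z)) ^ e = 1 := by
        rw [← QuotientGroup.mk_pow]; exact (QuotientGroup.eq_one_iff _).2 h
      have h2 : e ≠ 0 := (Nat.two_pow_pos _).ne'
      exact pow_ne_one_of_lt_orderOf h2 (show e < orderOf (a : S ⧸ Z) by omega) h1
    -- `x` commutes with the involution `a'`
    have hxa : x * a' = a' * x := by
      obtain ⟨k, hk⟩ := mem_zpowers_iff.1 (hNorm.conj_mem _ (mem_zpowers (a : S ⧸ Z)) (x : S ⧸ Z))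
      have hw : (a ^ k)⁻¹ * (x * a * x⁻¹) ∈ Z := by
        rw [← QuotientGroup.eq]
        rw [QuotientGroup.mk_zpow, QuotientGroup.mk_mul, QuotientGroup.mk_mul, QuotientGroup.mk_inv]
        exact hk
      set w := (a ^ k)⁻¹ * (x * a * x⁻¹) with hwdef
      have h1 : x * a * x⁻¹ = a ^ k * w := by rw [hwdef, mul_inv_cancel_left]
      have hcomm : Commute (a ^ k) w := mem_center_iff.1 hw _
      have h2 : x * a' * x⁻¹ = a' ^ k := by
        rw [ha'def, ← conj_pow, h1, hcomm.mul_pow, he', pow_mul w, hzsq w hw, one_pow, mul_one,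
          ← zpow_natCast, ← zpow_natCast, ← zpow_mul, ← zpow_mul, mul_comm]
      have ha'2 : a' ^ 2 = 1 := by rw [ha'def, ← pow_mul, he, pow_orderOf_eq_one]
      have h3 : a' ^ k = 1 ∨ a' ^ k = a' := by
        obtain ⟨t, rfl⟩ | ⟨t, rfl⟩ := Int.even_or_odd k
        · exact Or.inl (by rw [← two_mul, zpow_mul, zpow_ofNat, ha'2, one_zpow])
        · exact Or.inr (by rw [zpow_add, zpow_mul, zpow_ofNat, ha'2, one_zpow, one_mul, zpow_one])
      rcases h3 with h3 | h3
      · rw [h3, conj_eq_one_iff] at h2; exact absurd h2 ha'1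
      · rw [h3, mul_inv_eq_iff_eq_mul] at h2; exact h2
    obtain ⟨⟨z, hz⟩, hz1⟩ : ∃ z : Z, z ≠ 1 :=
      have : Nontrivial Z := Finite.one_lt_card_iff_nontrivial.1 (by rw [hZ2]; norm_num)
      exists_ne 1
    have hna : ¬ Commute x a := fun hc => by
      have hle' : zpowers a ≤ C := zpowers_le.2 (by rw [hCdef, mem_centralizer_singleton_iff]; exact hc.eq.symm)
      have h4 : orderOf a ≤ Nat.card C := by
        rw [← Nat.card_zpowers]; exact card_le_of_le hle'
      have h5 : zpowers a ⊔ Z ≤ C := sup_le hle' hZC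
      have h6 : zpowers a ≠ zpowers a ⊔ Z := fun e0 => by
        have hza : z ∈ zpowers a := e0 ▸ mem_sup_right hz
        obtain ⟨m, hm⟩ := mem_zpowers_iff.1 hza
        have : ((a : S ⧸ Z)) ^ m = 1 := by
          rw [← QuotientGroup.mk_zpow, hm]; exact (QuotientGroup.eq_one_iff _).2 hz
        rw [← orderOf_dvd_iff_zpow_eq_one, hbar, orderOf_dvd_iff_zpow_eq_one, hm] at this
        exact hz1 (Subtype.ext this)
      have h7 : 2 * orderOf a ≤ Nat.card (zpowers a ⊔ Z : Subgroup S) := by
        obtain ⟨q, hq⟩ := card_dvd_of_le (le_sup_left : zpowers a ≤ zpowers a ⊔ Z)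
        rw [hq, Nat.card_zpowers]
        rcases q with _ | _ | q
        · rw [mul_zero] at hq; exact absurd hq Nat.card_pos.ne'
        · exact absurd (eq_of_le_of_card_ge le_sup_left (by rw [hq, zero_add, mul_one])) h6
        · nlinarith
      have h8 := h7.trans (card_le_of_le h5)
      have h9 : 2 ^ 2 ≤ orderOf a := hj ▸ Nat.pow_le_pow_right (by norm_num) hj2
      omega
    have hz1' : z ≠ 1 := fun e0 => hz1 (Subtype.ext e0)
    have hca : Commute a a' := (Commute.refl a).pow_right e
    have hcz : Commute a z := mem_center_iff.1 hz a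
    have hza' : z ≠ a' := fun e0 => ha'Z (e0 ▸ hz)
    have hsub : ({1, z, a', z * a', x} : Finset S) ⊆ (C : Set S).toFinite.toFinset := by
      have hm : a' ∈ C := by rw [hCdef, mem_centralizer_singleton_iff]; exact hxa.symm
      intro b hb
      rw [Set.Finite.mem_toFinset, SetLike.mem_coe]
      simp only [Finset.mem_insert, Finset.mem_singleton] at hb
      rcases hb with rfl | rfl | rfl | rfl | rfl
      · exact one_mem C
      · exact hZC hz
      · exact hm
      · exact mul_mem (hZC hz) hm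
      · exact hxC
    have h5 : ({1, z, a', z * a', x} : Finset S).card = 5 := by
      have n1 : x ≠ 1 := fun e0 => hna (e0 ▸ Commute.one_left a)
      have n2 : x ≠ z := fun e0 => hna (e0 ▸ hcz.symm)
      have n3 : x ≠ a' := fun e0 => hna (e0 ▸ hca.symm)
      have n4 : x ≠ z * a' := fun e0 => hna (e0 ▸ hcz.symm.mul_left hca.symm)
      have n5 : z * a' ≠ 1 := fun e0 => ha'Z (eq_inv_of_mul_eq_one_right e0 ▸ inv_mem hz)
      rw [Finset.card_insert_of_notMem, Finset.card_insert_of_notMem, Finset.card_insert_of_notMem,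
        Finset.card_insert_of_notMem, Finset.card_singleton] <;>
        simp [n1.symm, n2.symm, n3.symm, n4.symm, n5.symm, hz1', hz1'.symm, ha'1, ha'1.symm, hza']
    have h10 := Finset.card_le_card hsub
    rw [h5, ← Set.ncard_eq_toFinset_card _, ← Nat.card_coe_set_eq] at h10
    change 5 ≤ Nat.card C at h10
    omega

/-- An element with centraliser of order four forces a small Sylow `2`-subgroup. -/
theorem IsRational.not_sixteen_dvd (hG : IsRational G) {x : G}
    (hx : Nat.card (centralizer ({x} : Set G)) = 4) : ¬ 16 ∣ Nat.card G := by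
  classical
  intro h16
  have hox : orderOf x ∣ 4 := hx ▸ Subgroup.orderOf_dvd_natCard _ (mem_centralizer_singleton_iff.2 rfl)
  obtain ⟨i, -, hi⟩ := (Nat.dvd_prime_pow (m := 2) Nat.prime_two).1 (by simpa using hox)
  have : Fact (Nat.Prime 2) := ⟨Nat.prime_two⟩
  obtain ⟨S, hS⟩ := (IsPGroup.of_card (n := i) (by rw [Nat.card_zpowers, hi]) :
    IsPGroup 2 (zpowers x)).exists_le_sylow
  let x' : S := ⟨x, hS (mem_zpowers x)⟩
  have hC : Nat.card (centralizer ({x'} : Set S)) ≤ 4 := by
    rw [← hx]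
    refine Nat.card_le_card_of_injective (fun a => ⟨((a : S) : G), ?_⟩) fun a b e =>
      Subtype.ext (Subtype.ext (congrArg (fun c : centralizer ({x} : Set G) => (c : G)) e))
    rw [mem_centralizer_singleton_iff]
    exact congrArg Subtype.val (mem_centralizer_singleton_iff.1 a.2)
  obtain ⟨g, hg⟩ := exists_large_cyclic _ S rfl S.2 x' hC
  obtain ⟨s, hs⟩ := IsPGroup.iff_card.1 S.2
  obtain ⟨j, -, hj⟩ := (Nat.dvd_prime_pow Nat.prime_two).1 (hs ▸ orderOf_dvd_natCard g)
  have h16' : 2 ^ 4 ∣ Nat.card S := S.pow_dvd_card_of_pow_dvd_card (by simpa using h16)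
  rw [hs] at h16' hg
  have hs4 : 4 ≤ s := (Nat.pow_dvd_pow_iff_le_right (by norm_num : 1 < 2)).1 h16'
  rw [hj, ← pow_succ'] at hg
  have hsj : s ≤ j + 1 := (Nat.pow_le_pow_iff_right (by norm_num : 1 < 2)).1 hg
  have hd := hG.totient_mul_orderOf_dvd (g : G)
  have hoj : orderOf (g : G) = 2 ^ j := by
    rw [← hj]; exact orderOf_injective S.toSubgroup.subtype S.toSubgroup.subtype_injective g
  rw [hoj, Nat.totient_prime_pow Nat.prime_two (by omega), show 2 - 1 = 1 from rfl, mul_one, ← pow_add] at hd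
  have := S.pow_dvd_card_of_pow_dvd_card hd
  rw [hs] at this
  have := (Nat.pow_dvd_pow_iff_le_right (by norm_num : 1 < 2)).1 this
  omega

theorem IsRational.subsingleton_of_odd (hG : IsRational G) (hodd : ¬ 2 ∣ Nat.card G) :
    Subsingleton G := by
  refine ⟨fun a b => ?_⟩
  suffices h : ∀ x : G, x = 1 by rw [h a, h b]
  intro x
  obtain ⟨g, hg⟩ := isConj_iff.1 (hG.isConj_inv x)
  have hinv : x * x = 1 := by
    obtain ⟨t, ht⟩ : Odd (orderOf g) := Nat.odd_iff.2 (Nat.two_dvd_ne_zero.1 fun h =>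
      hodd (h.trans (orderOf_dvd_natCard g)))
    have key : ∀ i : ℕ, g ^ (2 * i + 1) * x * (g ^ (2 * i + 1))⁻¹ = x⁻¹ := by
      intro i
      induction i with
      | zero => simpa using hg
      | succ i ih =>
        rw [show 2 * (i + 1) + 1 = 1 + (1 + (2 * i + 1)) by ring, pow_add, pow_add, pow_one,
          show g * (g * g ^ (2 * i + 1)) * x * (g * (g * g ^ (2 * i + 1)))⁻¹
            = g * (g * (g ^ (2 * i + 1) * x * (g ^ (2 * i + 1))⁻¹) * g⁻¹) * g⁻¹ by group, ih,
          show g * x⁻¹ * g⁻¹ = (g * x * g⁻¹)⁻¹ by group, hg, inv_inv, hg]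
    have h1 := key t
    rw [← ht, pow_orderOf_eq_one, one_mul, inv_one, mul_one] at h1
    exact mul_eq_one_iff_eq_inv.2 h1
  by_contra hx
  exact hodd (orderOf_eq_prime (by rw [pow_two]; exact hinv) hx ▸ orderOf_dvd_natCard x)

/-- A rational solvable group with Sylow `2`-subgroups of order eight with one involution has a
normal `2`-complement. -/
theorem IsRational.exists_normal_complement [Group.IsSolvable G] (hG : IsRational G)
    (S : Sylow 2 G) (h8 : Nat.card S = 8)
    (huniq : ∀ a b : S, a ^ 2 = 1 → b ^ 2 = 1 → a ≠ 1 → b ≠ 1 → a = b) :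
    ∃ M : Subgroup G, M.Normal ∧ ¬ 2 ∣ Nat.card M ∧ M.index = 8 := by
  classical
  have : Fact (Nat.Prime 2) := ⟨Nat.prime_two⟩
  set M := Cfsg.pPrimeCore 2 G with hMdef
  have hMn : M.Normal := CfsgLib.Solvable.pPrimeCore_normal 2 G
  have hModd : ¬ 2 ∣ Nat.card M := fun h =>
    Nat.Prime.not_coprime_iff_dvd.2 ⟨2, Nat.prime_two, h, dvd_rfl⟩
      (CfsgLib.Solvable.pPrimeCore_coprime 2)
  refine ⟨M, hMn, hModd, ?_⟩
  have hbot : Cfsg.pPrimeCore 2 (G ⧸ M) = ⊥ := by
    rw [eq_bot_iff]
    set N := Cfsg.pPrimeCore 2 (G ⧸ M)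
    have hNn : N.Normal := CfsgLib.Solvable.pPrimeCore_normal 2 _
    intro q hq
    obtain ⟨a, rfl⟩ := QuotientGroup.mk_surjective q
    rw [mem_bot, QuotientGroup.eq_one_iff]
    refine CfsgLib.Solvable.le_pPrimeCore (N := N.comap (QuotientGroup.mk' M)) inferInstance ?_ hq
    have e : Nat.card (N.comap (QuotientGroup.mk' M)) = Nat.card M * Nat.card N := by
      rw [← Nat.card_prod]
      exact Nat.card_congr (QuotientGroup.preimageMkEquivSubgroupProdSet M (N : Set (G ⧸ M)))
    rw [e]
    exact (CfsgLib.Solvable.pPrimeCore_coprime 2).mul_left (CfsgLib.Solvable.pPrimeCore_coprime 2)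
  set F := Cfsg.pCore 2 (G ⧸ M) with hFdef
  have hFn : F.Normal := CfsgLib.Solvable.pCore_normal 2 _
  have hCF : centralizer (F : Set (G ⧸ M)) ≤ F := CfsgLib.Solvable.centralizer_pCore_le 2 hbot
  let Sb : Sylow 2 (G ⧸ M) := S.mapSurjective (QuotientGroup.mk'_surjective M)
  have hcop : Disjoint (S : Subgroup G) M := by
    rw [disjoint_iff]
    refine inf_eq_bot_of_coprime ?_
    rw [show Nat.card (S : Subgroup G) = 2 ^ 3 from h8.trans (by norm_num)]
    exact Nat.Coprime.pow_left 3 (Nat.prime_two.coprime_iff_not_dvd.2 hModd)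
  have hinjS : ∀ a b : S, (QuotientGroup.mk' M) (a : G) = (QuotientGroup.mk' M) (b : G) → a = b := by
    intro a b e
    have h1 : (a : G)⁻¹ * b ∈ M := QuotientGroup.eq.1 e
    have h2 : (a : G)⁻¹ * b ∈ (S : Subgroup G) := mul_mem (inv_mem a.2) b.2
    exact Subtype.ext (inv_mul_eq_one.1 ((Subgroup.disjoint_def.1 hcop) h2 h1))
  have hSb : Nat.card Sb = 8 := by
    rw [← h8]
    refine (Nat.card_eq_of_bijective (fun a : S => (⟨QuotientGroup.mk' M a, mem_map_of_mem _ a.2⟩ : Sb))
      ⟨fun a b e => hinjS a b (congrArg Subtype.val e), fun q => ?_⟩).symm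
    obtain ⟨a, ha, e⟩ := q.2
    exact ⟨⟨a, ha⟩, Subtype.ext e⟩
  have huniqb : ∀ a b : G ⧸ M, a ∈ Sb → b ∈ Sb → a ^ 2 = 1 → b ^ 2 = 1 → a ≠ 1 → b ≠ 1 → a = b := by
    rintro _ _ ⟨a, ha, rfl⟩ ⟨b, hb, rfl⟩ ha2 hb2 ha1 hb1
    have h1 : (⟨a, ha⟩ : S) ^ 2 = 1 := hinjS _ 1 (by simpa using ha2)
    have h2 : (⟨b, hb⟩ : S) ^ 2 = 1 := hinjS _ 1 (by simpa using hb2)
    have h3 := huniq _ _ h1 h2 (fun e => ha1 (by simpa using congrArg (fun c : S => QuotientGroup.mk' M (c : G)) e))
      (fun e => hb1 (by simpa using congrArg (fun c : S => QuotientGroup.mk' M (c : G)) e))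
    exact congrArg (fun c : S => QuotientGroup.mk' M (c : G)) h3
  have hFS : F ≤ (Sb : Subgroup (G ⧸ M)) := CfsgLib.Solvable.pCore_le_sylow Sb
  have hF8 : Nat.card F ∣ 2 ^ 3 := by
    rw [show (2 : ℕ) ^ 3 = 8 by norm_num, ← hSb]; exact card_dvd_of_le hFS
  have h8Q : 8 ∣ Nat.card (G ⧸ M) := hSb ▸ card_subgroup_dvd_card _
  rw [index_eq_card]
  refine le_antisymm ?_ (Nat.le_of_dvd Nat.card_pos h8Q)
  obtain ⟨i, hi, hFi⟩ := (Nat.dvd_prime_pow Nat.prime_two).1 hF8
  -- the class of an element of `F` generating it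
  have hgen : ∀ f ∈ F, centralizer ({f} : Set (G ⧸ M)) ≤ centralizer (F : Set (G ⧸ M)) →
      Nat.card (G ⧸ M) ≤ Nat.card (ConjClasses.mk f).carrier * Nat.card F := by
    intro f _ hle
    rw [← card_carrier_mul f]
    exact Nat.mul_le_mul_left _ (card_le_of_le (hle.trans hCF))
  interval_cases i
  · -- trivial core
    exfalso
    have hFb : F = ⊥ := eq_bot_of_card_le F (by rw [hFi]; norm_num)
    have htop : (⊤ : Subgroup (G ⧸ M)) ≤ F := le_trans (fun q _ => by
      rw [mem_centralizer_iff]; intro h hh; rw [hFb] at hh; rw [mem_bot.1 hh, one_mul, mul_one]) hCF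
    have := card_le_of_le htop
    rw [card_top, hFi] at this
    have := Nat.le_of_dvd Nat.card_pos h8Q
    omega
  · -- a central core of order two
    exfalso
    have : Nontrivial F := Finite.one_lt_card_iff_nontrivial.1 (by rw [hFi]; norm_num)
    obtain ⟨⟨f, hf⟩, hf1⟩ := exists_ne (1 : F)
    have hall : ∀ g ∈ F, g = 1 ∨ g = f := fun g hg => by
      by_cases h1 : (⟨g, hg⟩ : F) = 1
      · exact Or.inl (congrArg Subtype.val h1)
      · exact Or.inr (congrArg Subtype.val (((Nat.card_eq_two_iff' (1 : F)).1 (by simpa using hFi)).unique h1 hf1))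
    have htop : (⊤ : Subgroup (G ⧸ M)) ≤ F := le_trans (fun q _ => by
      rw [mem_centralizer_iff]
      intro g hg
      rcases hall g hg with rfl | rfl
      · rw [one_mul, mul_one]
      · rcases hall _ (hFn.conj_mem g hg q) with e | e
        · exact absurd (Subtype.ext (conj_eq_one_iff.1 e)) hf1
        · exact (mul_inv_eq_iff_eq_mul.1 e).symm) hCF
    have := card_le_of_le htop
    rw [card_top, hFi] at this
    have := Nat.le_of_dvd Nat.card_pos h8Q
    omega
  · -- a cyclic core of order four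
    obtain ⟨f, hf, hf2⟩ : ∃ f ∈ F, f ^ 2 ≠ 1 := by
      by_contra hc
      push Not at hc
      have := Fintype.ofFinite F
      obtain ⟨a, b, c, hab, hac, hbc⟩ := Fintype.two_lt_card_iff.1
        (show 2 < Fintype.card F by rw [← Nat.card_eq_fintype_card, hFi]; norm_num)
      have key : ∀ {y z : F}, y ≠ 1 → z ≠ 1 → y = z := fun {y z} hy hz =>
        Subtype.ext (huniqb _ _ (hFS y.2) (hFS z.2) (hc _ y.2) (hc _ z.2)
          (fun e => hy (Subtype.ext e)) fun e => hz (Subtype.ext e))
      by_cases ha : a = 1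
      · exact hbc (key (fun e => hab (ha.trans e.symm)) fun e => hac (ha.trans e.symm))
      · by_cases hb : b = 1
        · exact hac (key ha fun e => hbc (hb.trans e.symm))
        · exact hab (key ha hb)
    have hfo : orderOf f = 4 := by
      have hd : orderOf f ∣ 2 ^ 2 := by rw [← hFi]; exact Subgroup.orderOf_dvd_natCard F hf
      obtain ⟨k, hk, e⟩ := (Nat.dvd_prime_pow Nat.prime_two).1 hd
      have hk1 : k = 2 := by
        by_contra hne
        refine hf2 (orderOf_dvd_iff_pow_eq_one.1 ?_)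
        rw [e, show (2 : ℕ) = 2 ^ 1 by norm_num, ← pow_mul, one_mul]
        exact Nat.pow_dvd_pow 2 (by omega)
      rw [e, hk1]; norm_num
    have hFz : zpowers f = F := eq_of_le_of_card_ge (zpowers_le.2 hf) (by
      rw [Nat.card_zpowers, hfo, hFi]; norm_num)
    have hcl : Nat.card (ConjClasses.mk f).carrier ≤ 2 := by
      rw [Nat.card_coe_set_eq]
      refine (Set.ncard_le_ncard (t := {f, f ^ 3}) ?_ (Set.toFinite _)).trans
        ((Set.ncard_insert_le _ _).trans (by rw [Set.ncard_singleton]))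
      intro q hq
      rw [ConjClasses.mem_carrier_iff_mk_eq, ConjClasses.mk_eq_mk_iff_isConj] at hq
      obtain ⟨c, hc⟩ := isConj_iff.1 hq.symm
      have hqo : orderOf q = 4 := by
        rw [← hc, ← hfo]
        exact orderOf_injective (MulAut.conj c).toMonoidHom (MulAut.conj c).injective f
      have hqF : q ∈ zpowers f := by rw [hFz, ← hc]; exact hFn.conj_mem f hf c
      obtain ⟨k, hk, rfl⟩ : ∃ k < 4, f ^ k = q := by
        rw [mem_zpowers_iff_mem_range_orderOf, hfo] at hqF
        simpa using hqF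
      simp only [Set.mem_insert_iff, Set.mem_singleton_iff]
      rw [orderOf_pow, hfo] at hqo
      interval_cases k <;> simp_all
    have h1 := hgen f hf (fun q hq => by
      rw [mem_centralizer_iff]
      intro g hg
      rw [← hFz] at hg
      obtain ⟨k, rfl⟩ := mem_zpowers_iff.1 hg
      exact ((show Commute q f from mem_centralizer_singleton_iff.1 hq).zpow_right k).eq.symm)
    rw [hFi] at h1
    exact h1.trans (Nat.mul_le_mul_right _ hcl)
  · -- a full Sylow subgroup
    have hFeq : F = (Sb : Subgroup (G ⧸ M)) := eq_of_le_of_card_ge hFS (by rw [hFi]; exact hSb.le)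
    have hodd : ¬ 2 ∣ Nat.card ((G ⧸ M) ⧸ F) := by
      rw [← index_eq_card, hFeq]
      exact Sb.not_dvd_index
    have := ((hG.quotient M).quotient F).subsingleton_of_odd hodd
    rw [card_eq_card_quotient_mul_card_subgroup F, Nat.card_of_subsingleton (1 : (G ⧸ M) ⧸ F), hFi]
    norm_num

end CfsgLib.RationalGroup
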