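import Cfsg.Agent.Lib.RationalGroup.Plane
import Cfsg.Agent.Lib.RationalGroup.Structure
import Cfsg.Agent.Lib.RationalGroup.Smooth

/-!
# The chief module at the bottom of a normal Sylow subgroup
-/

set_option autoImplicit false

namespace CfsgLib.RationalGroup

open Subgroup CfsgLib.CoprimeHeight CfsgLib.FixedFree

universe u v

variable {p : ℕ} [hp : Fact p.Prime] {L : Type u} [Group L] [Finite L] {E : Type v}
  [AddCommGroup E] [Module (ZMod p) E]

/-- The representation of the normaliser on the fixed space. -/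
noncomputable def fixRep (ρ : Representation (ZMod p) L E) (T : Subgroup L) :
    Representation (ZMod p) (normalizer (T : Set L)) (fixSub ρ T) where
  toFun g := (ρ g).restrict fun _ hx => map_mem_fixSub ρ g.2 hx
  map_one' := LinearMap.ext fun x => Subtype.ext (by simp)
  map_mul' g h := LinearMap.ext fun x => Subtype.ext (by simp)

/-- The stabiliser of a vector. -/
def vecStab (ρ : Representation (ZMod p) L E) (x : E) : Subgroup L where
  carrier := {g | ρ g x = x}
  one_mem' := by simp
  mul_mem' {a b} ha hb := by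
    show ρ (a * b) x = x
    rw [rep_self_mul_apply, hb, ha]
  inv_mem' {a} ha := by
    show ρ a⁻¹ x = x
    conv_lhs => rw [← ha]
    rw [← rep_self_mul_apply, inv_mul_cancel, map_one, Module.End.one_apply]

theorem mem_normalizer_vecStab {ρ : Representation (ZMod p) L E} {x y : E} {g : L} (hg : ρ g x = y)
    (he : vecStab ρ y = vecStab ρ x) : g ∈ normalizer (vecStab ρ x : Set L) := by
  refine mem_normalizer_iff.2 fun t => ⟨fun ht => ?_, fun ht => ?_⟩
  · rw [← he]
    show ρ (g * t * g⁻¹) y = y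
    rw [← hg, ← rep_self_mul_apply, inv_mul_cancel_right, rep_self_mul_apply]
    rw [show ρ t x = x from ht]
  · rw [← he] at ht
    have h1 : ρ (g * t * g⁻¹) y = y := ht
    rw [← hg, ← rep_self_mul_apply, inv_mul_cancel_right, rep_self_mul_apply] at h1
    have h2 := congrArg (ρ g⁻¹) h1
    rwa [← rep_self_mul_apply, ← rep_self_mul_apply, ← rep_self_mul_apply, inv_mul_cancel,
      one_mul, map_one, Module.End.one_apply] at h2

/-- The prime is five and the two-part of the acting group is at least sixteen. -/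
theorem bottom_module [Finite E] [Nontrivial E] [Group.IsSolvable L] (hL : IsRational L) (h5 : 5 ≤ p)
    (hs : ∀ r : ℕ, r.Prime → r ∣ Nat.card L → r = 2 ∨ r = 3)
    (ρ : Representation (ZMod p) L E) {B : LinearMap.BilinForm (ZMod p) E} (hB : IsSymp ρ B)
    (hscale : ∀ (k : ℕ), k.Coprime p → ∀ x : E, ∃ g, ρ g x = (k : ZMod p) • x)
    (hcds : ∀ x y : E, x ≠ 0 → y ≠ 0 → vecStab ρ x = vecStab ρ y → ∃ g, ρ g x = y) :
    p = 5 ∧ 16 ∣ Nat.card L := by
  classical
  have hcop : ∀ H : Subgroup L, (Nat.card H : ZMod p) ≠ 0 := fun H h => by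
    rw [ZMod.natCast_eq_zero_iff] at h
    rcases hs p hp.out (h.trans (card_subgroup_dvd_card H)) with e | e <;> omega
  have hj5 : (5 : ℕ).Coprime (Nat.card L) := (Nat.Prime.coprime_iff_not_dvd (by norm_num)).2 fun h => by
    rcases hs 5 (by norm_num) h with e | e <;> omega
  -- a vector with a maximal stabiliser
  obtain ⟨x₀, hx₀, hmax⟩ : ∃ x : E, x ≠ 0 ∧
      ∀ y : E, y ≠ 0 → Nat.card (vecStab ρ y) ≤ Nat.card (vecStab ρ x) := by
    obtain ⟨e, he⟩ := exists_ne (0 : E)
    have : Nonempty {x : E // x ≠ 0} := ⟨⟨e, he⟩⟩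
    obtain ⟨x, hx⟩ := Finite.exists_max fun x : {x : E // x ≠ 0} => Nat.card (vecStab ρ x.1)
    exact ⟨x.1, x.2, fun y hy => hx ⟨y, hy⟩⟩
  set T := vecStab ρ x₀ with hT
  have hx₀W : x₀ ∈ fixSub ρ T := fun g hg => hg
  have hstab : ∀ y ∈ fixSub ρ T, y ≠ 0 → vecStab ρ y = T := fun y hy hy0 =>
    (eq_of_le_of_card_ge (fun g hg => hy g hg) (hmax y hy0)).symm
  let N := normalizer (T : Set L)
  let η : Representation (ZMod p) N (fixSub ρ T) := fixRep ρ T
  have htrans : ∀ x y : fixSub ρ T, x ≠ 0 → y ≠ 0 → ∃ g, η g x = y := by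
    intro x y hx hy
    have hx' : (x : E) ≠ 0 := fun e => hx (Subtype.ext e)
    have hy' : (y : E) ≠ 0 := fun e => hy (Subtype.ext e)
    have hxy : vecStab ρ (x : E) = vecStab ρ (y : E) := by rw [hstab x x.2 hx', hstab y y.2 hy']
    obtain ⟨g, hg⟩ := hcds x y hx' hy' hxy
    have hgN : g ∈ normalizer (T : Set L) := hstab x x.2 hx' ▸ mem_normalizer_vecStab hg hxy.symm
    exact ⟨⟨g, hgN⟩, Subtype.ext hg⟩
  -- the symplectic form on the fixed space
  let C : LinearMap.BilinForm (ZMod p) (fixSub ρ T) := B.restrict (fixSub ρ T)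
  have halt : ∀ x, C x x = 0 := fun x => hB.alt x.1
  have hnd : ∀ x, x ≠ 0 → ∃ y, C x y ≠ 0 := fun x hx => by
    obtain ⟨y, hy, hne⟩ := hB.fix_nondeg (hcop T) x.2 (fun e => hx (Subtype.ext e))
    exact ⟨⟨y, hy⟩, hne⟩
  have hinv : ∀ g x y, C (η g x) (η g y) = C x y := fun g x y => hB.inv _ _ _
  obtain ⟨m, hm⟩ := even_finrank_of_alt h5 halt hnd
  set w₀ : fixSub ρ T := ⟨x₀, hx₀W⟩ with hw₀
  have hw0 : w₀ ≠ 0 := fun e => hx₀ (congrArg Subtype.val e)
  -- the orbit of `x₀`
  have horb : p ^ (2 * m) - 1 = (T.subgroupOf N).index := by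
    have hcard : Nat.card (fixSub ρ T) = p ^ (2 * m) := by
      rw [Module.natCard_eq_pow_finrank (K := ZMod p), Nat.card_zmod, hm, two_mul]
    have := Fintype.ofFinite (fixSub ρ T)
    have h1 : Nat.card {x : fixSub ρ T // x ≠ 0} = p ^ (2 * m) - 1 := by
      rw [Nat.card_eq_fintype_card, Fintype.card_subtype_compl, Fintype.card_subtype_eq,
        ← Nat.card_eq_fintype_card, hcard]
    rw [← h1, index_eq_card]
    have hiff : ∀ a b : N, η a w₀ = η b w₀ ↔ a⁻¹ * b ∈ T.subgroupOf N := fun a b => by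
      rw [mem_subgroupOf]
      show _ ↔ ρ ((a⁻¹ * b : N) : L) x₀ = x₀
      rw [Subtype.ext_iff]
      show ρ (a : L) x₀ = ρ (b : L) x₀ ↔ _
      rw [Subgroup.coe_mul, Subgroup.coe_inv, rep_self_mul_apply]
      constructor
      · intro e; rw [← e, ← rep_self_mul_apply, inv_mul_cancel, map_one, Module.End.one_apply]
      · intro e
        have e1 := congrArg (ρ (a : L)) e
        rw [← rep_self_mul_apply, mul_inv_cancel, map_one, Module.End.one_apply] at e1
        exact e1.symm
    refine (Nat.card_eq_of_bijective (fun c : N ⧸ T.subgroupOf N => Quotient.liftOn' c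
      (fun a => (⟨η a w₀, fun e => hw0 (by
        have e1 := congrArg (η a⁻¹) e
        rwa [← rep_self_mul_apply, inv_mul_cancel, map_one, Module.End.one_apply, map_zero] at e1)⟩ :
          {x : fixSub ρ T // x ≠ 0}))
      (fun a b hab => Subtype.ext ((hiff a b).2 (QuotientGroup.leftRel_apply.1 hab)))) ⟨?_, ?_⟩).symm
    · intro c d
      induction c using QuotientGroup.induction_on with
      | _ a => induction d using QuotientGroup.induction_on with
        | _ b => intro e; exact QuotientGroup.eq.2 ((hiff a b).1 (congrArg Subtype.val e))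
    · rintro ⟨y, hy⟩
      obtain ⟨g, hg⟩ := htrans w₀ y hw0 hy
      exact ⟨QuotientGroup.mk g, Subtype.ext hg⟩
  have hm0 : 1 ≤ m := by
    have : Nontrivial (fixSub ρ T) := ⟨⟨w₀, 0, hw0⟩⟩
    have := Module.finrank_pos (R := ZMod p) (M := fixSub ρ T)
    omega
  have hm1 : m = 1 := eq_one_of_smooth_pow_sub_one hp.out h5 hm0 fun r hr hrd => hs r hr (by
    rw [horb] at hrd
    exact hrd.trans ((index_dvd_card _).trans (card_subgroup_dvd_card N)))
  have hdim : Module.finrank (ZMod p) (fixSub ρ T) = 2 := by rw [hm, hm1]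
  have hC0 : C ≠ 0 := fun e => by
    obtain ⟨y, hy⟩ := hnd w₀ hw0
    exact hy (by rw [e]; rfl)
  have hPG : IsPlaneGroup η :=
    ⟨hdim, fun g => plane_det hdim halt hC0 _ (hinv g),
      fun g => ⟨Nat.card N, hcop N, by rw [← map_pow, pow_card_eq_one', map_one]⟩, htrans⟩
  -- the fifth powers do not change the trace
  have hdesc : ∀ g : N, LinearMap.trace (ZMod p) _ (η (g ^ 5)) = LinearMap.trace (ZMod p) _ (η g) :=
    fun g => trace_descent ρ hL T (hcop T) g.2 hj5
  have hroot : ∀ c : ZMod p, c ≠ 0 → c ^ 6 = 1 ∨ c ^ 4 = 1 := by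
    intro c hc
    obtain ⟨g, hg⟩ := hscale c.val (by
      refine (hp.out.coprime_iff_not_dvd.2 fun h => ?_).symm
      rw [← ZMod.natCast_eq_zero_iff, ZMod.natCast_zmod_val] at h
      exact hc h) x₀
    rw [ZMod.natCast_zmod_val] at hg
    have hgN : g ∈ N := by
      have hne : c • x₀ ≠ 0 := smul_ne_zero hc hx₀
      exact mem_normalizer_vecStab hg (hstab _ (Submodule.smul_mem _ c hx₀W) hne)
    have e1 : η ⟨g, hgN⟩ w₀ = c • w₀ := Subtype.ext hg
    have e5 : η (⟨g, hgN⟩ ^ 5) w₀ = c ^ 5 • w₀ := by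
      simp only [pow_succ, pow_zero, one_mul, rep_self_mul_apply, e1, map_smul, smul_smul]
      congr 1; ring
    have t1 := plane_trace_eigen hdim _ (hPG.det _) hw0 e1
    have t5 := plane_trace_eigen hdim _ (hPG.det _) hw0 e5
    rw [hdesc] at t5
    have h0 : (c ^ 6 - 1) * (c ^ 4 - 1) = 0 := by linear_combination c ^ 4 * t1 - t5
    rcases mul_eq_zero.1 h0 with h | h
    · exact Or.inl (sub_eq_zero.1 h)
    · exact Or.inr (sub_eq_zero.1 h)
  have hp7 : p = 5 ∨ p = 7 := by
    obtain ⟨u, hu⟩ := IsCyclic.exists_ofOrder_eq_natCard (α := (ZMod p)ˣ)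
    rw [Nat.card_eq_fintype_card, ZMod.card_units] at hu
    have hle : p - 1 ≤ 6 := by
      rw [← hu]
      rcases hroot u u.ne_zero with h | h
      · exact orderOf_le_of_pow_eq_one (n := 6) (by norm_num) (Units.ext (by simpa using h))
      · exact (orderOf_le_of_pow_eq_one (n := 4) (by norm_num) (Units.ext (by simpa using h))).trans (by norm_num)
    have : p ≠ 6 := fun e => absurd (e ▸ hp.out) (by norm_num)
    omega
  have hp5 : p = 5 := by
    refine hp7.resolve_right fun e7 => ?_
    subst e7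
    obtain ⟨g, hg4, htr⟩ := hPG.exists_eight
    have h1 := hdesc g
    rw [map_pow, pow_succ, hg4, neg_one_mul, map_neg, neg_eq_iff_add_eq_zero, ← two_mul] at h1
    exact htr ((mul_eq_zero.1 h1).resolve_left (two_ne_zero' (p := 7) h5))
  refine ⟨hp5, ?_⟩
  subst hp5
  by_contra h16
  have : Fact (Nat.Prime 2) := ⟨Nat.prime_two⟩
  have h24 : Nat.card (planeImage η) = 24 := hPG.card_image.trans (by norm_num)
  set f := (MonoidHom.toHomUnits η).rangeRestrict with hf
  have hfs : Function.Surjective f := MonoidHom.rangeRestrict_surjective _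
  have hdN : 24 ∣ Nat.card N := h24 ▸ card_dvd_of_surjective f hfs
  obtain ⟨S₀⟩ := (inferInstance : Nonempty (Sylow 2 N))
  have hS8 : Nat.card S₀ = 8 := by
    obtain ⟨s, hs'⟩ := IsPGroup.iff_card.1 S₀.2
    have h1 : 2 ^ 3 ∣ Nat.card S₀ := S₀.pow_dvd_card_of_pow_dvd_card (by
      exact (show 2 ^ 3 ∣ 24 by norm_num).trans hdN)
    have h2 : ¬ 2 ^ 4 ∣ Nat.card S₀ := fun h => h16 (by
      rw [show (16 : ℕ) = 2 ^ 4 by norm_num]
      exact h.trans ((card_subgroup_dvd_card _).trans (card_subgroup_dvd_card N)))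
    rw [hs'] at h1 h2 ⊢
    have h3 := (Nat.pow_dvd_pow_iff_le_right (by norm_num : 1 < 2)).1 h1
    have : s < 4 := by
      by_contra hlt; exact h2 (Nat.pow_dvd_pow 2 (by omega))
    rw [show s = 3 by omega]; norm_num
  have hinj : ∀ a b : S₀, f (a : N) = f (b : N) → a = b := by
    have h8 : 2 ^ 3 ∣ Nat.card ((S₀ : Subgroup N).map f) := by
      have h1 := ((S₀ : Subgroup N).map f).card_mul_index
      rw [h24] at h1
      have hodd : ¬ 2 ∣ ((S₀ : Subgroup N).map f).index := fun h =>
        S₀.not_dvd_index (h.trans (index_map_dvd _ hfs))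
      refine (Nat.Coprime.pow_left 3 (Nat.prime_two.coprime_iff_not_dvd.2 hodd)).dvd_of_dvd_mul_right ?_
      rw [h1]; norm_num
    have hbij : Function.Bijective (f.subgroupMap (S₀ : Subgroup N)) := by
      refine (Nat.bijective_iff_surjective_and_card _).2 ⟨f.subgroupMap_surjective _, ?_⟩
      refine le_antisymm ?_ (Nat.card_le_card_of_surjective _ (f.subgroupMap_surjective _))
      rw [show Nat.card (S₀ : Subgroup N) = 8 from hS8]
      exact Nat.le_of_dvd Nat.card_pos (by simpa using h8)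
    exact fun a b e => hbij.injective (Subtype.ext e)
  let S : Sylow 2 L := Sylow.ofCard ((S₀ : Subgroup N).map N.subtype) (by
    rw [card_map_of_injective N.subtype_injective, show Nat.card (S₀ : Subgroup N) = 8 from hS8]
    have h3 : (Nat.card L).factorization 2 = 3 := by
      have hd : 2 ^ 3 ∣ Nat.card L := (show 2 ^ 3 ∣ 24 by norm_num).trans (hdN.trans (card_subgroup_dvd_card N))
      have h1 := (Nat.prime_two.pow_dvd_iff_le_factorization Nat.card_pos.ne').1 hd
      have h2 : ¬ 4 ≤ (Nat.card L).factorization 2 := fun h => h16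
        ((show (16 : ℕ) = 2 ^ 4 by norm_num) ▸ (Nat.prime_two.pow_dvd_iff_le_factorization Nat.card_pos.ne').2 h)
      omega
    rw [h3]; norm_num)
  obtain ⟨M, hMn, hModd, hMi⟩ := hL.exists_normal_complement S
    (by
      show Nat.card ((S₀ : Subgroup N).map N.subtype) = 8
      rw [card_map_of_injective N.subtype_injective]; exact hS8)
    (by
      rintro ⟨_, a, ha, rfl⟩ ⟨_, b, hb, rfl⟩ ha2 hb2 ha1 hb1
      have hA2 : a ^ 2 = 1 := Subtype.ext (by simpa using congrArg Subtype.val ha2)
      have hB2 : b ^ 2 = 1 := Subtype.ext (by simpa using congrArg Subtype.val hb2)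
      have hA1 : f a ≠ 1 := fun e => ha1 (Subtype.ext (by
        simpa using congrArg (fun c : S₀ => ((c : N) : L)) (hinj ⟨a, ha⟩ 1 (by simpa using e))))
      have hB1 : f b ≠ 1 := fun e => hb1 (Subtype.ext (by
        simpa using congrArg (fun c : S₀ => ((c : N) : L)) (hinj ⟨b, hb⟩ 1 (by simpa using e))))
      have h1 := hPG.sq_eq le_rfl (a := f a) (by rw [← map_pow, hA2, map_one]) hA1
      have h2 := hPG.sq_eq le_rfl (a := f b) (by rw [← map_pow, hB2, map_one]) hB1
      have h3 := hinj ⟨a, ha⟩ ⟨b, hb⟩ (Subtype.ext (Units.ext (h1.trans h2.symm)))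
      exact Subtype.ext (congrArg (fun c : S₀ => ((c : N) : L)) h3))
  have : ((M.subgroupOf N).map f).Normal := Normal.map inferInstance f hfs
  refine hPG.no_normal_three ((M.subgroupOf N).map f) ?_
  set R := (M.subgroupOf N).map f
  have hRi : R.index ∣ 8 := by
    refine (index_map_dvd _ hfs).trans ?_
    rw [← hMi]
    exact relIndex_dvd_index_of_normal M N
  have hRodd : ¬ 2 ∣ Nat.card R := fun h => hModd (h.trans ((card_map_dvd _ f).trans
    ((Nat.card_congr (Equiv.refl _)).dvd.trans (card_comap_dvd_of_injective M N.subtype N.subtype_injective))))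
  have hR24 := R.card_mul_index
  rw [h24] at hR24
  have hle : R.index ≤ 8 := Nat.le_of_dvd (by norm_num) hRi
  have hRd : Nat.card R ∣ 24 := h24 ▸ card_subgroup_dvd_card R
  have hR1 : Nat.card R ≤ 24 := Nat.le_of_dvd (by norm_num) hRd
  generalize Nat.card R = c at hR24 hRodd hR1 hRd
  interval_cases c <;> omega

end CfsgLib.RationalGroup
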