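import Cfsg.Agent.Lib.RationalGroup.Symplectic
import Cfsg.Agent.Lib.Solvable.MinNormal
import Cfsg.Agent.Lib.Coprime.FixedCube

/-!
# Minimal normal subgroups inside the normal Sylow subgroup of a rational group
-/

set_option autoImplicit false

namespace CfsgLib.RationalGroup

open Subgroup CfsgLib.PLength

universe u

variable {G : Type u} [Group G] [Finite G]

/-- A minimal normal subgroup. -/
structure IsMinNormal (A : Subgroup G) : Prop where
  normal : A.Normal
  ne_bot : A ≠ ⊥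
  min : ∀ K : Subgroup G, K.Normal → K ≤ A → K = ⊥ ∨ K = A

theorem IsMinNormal.elemNormal {A : Subgroup G} (hA : IsMinNormal A) {q : ℕ} [Fact q.Prime]
    (hq : IsPGroup q A) : ElemNormal q A := by
  have := hA.normal
  have : Group.IsNilpotent A := hq.isNilpotent
  have : IsMulCommutative A := CfsgLib.Solvable.isMulCommutative_of_minimal_normal hA.ne_bot hA.min
  obtain ⟨r, hr, hexp⟩ := CfsgLib.Solvable.exists_prime_pow_eq_one_of_minimal_normal hA.ne_bot hA.min
  refine ⟨hA.normal, fun a ha b hb => congrArg Subtype.val (mul_comm' (⟨a, ha⟩ : A) ⟨b, hb⟩), ?_⟩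
  obtain ⟨⟨a, ha⟩, ha1'⟩ := A.ne_bot_iff_exists_ne_one.1 hA.ne_bot
  have ha1 : a ≠ 1 := fun e => ha1' (Subtype.ext e)
  obtain ⟨k, hk⟩ := hq ⟨a, ha⟩
  have : Fact r.Prime := ⟨hr⟩
  have h1 : orderOf a = r := orderOf_eq_prime (hexp a ha) ha1
  have h2 : r ∣ q ^ k := h1 ▸ orderOf_dvd_of_pow_eq_one (by simpa using congrArg Subtype.val hk)
  have h3 : r = q := (Nat.prime_dvd_prime_iff_eq hr Fact.out).1 (hr.dvd_of_dvd_pow h2)
  exact h3 ▸ hexp

theorem IsMinNormal.centralized {A P : Subgroup G} (hA : IsMinNormal A) [P.Normal] {p : ℕ}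
    [Fact p.Prime] (hP : IsPGroup p P) (hAP : A ≤ P) : P ≤ centralizer (A : Set G) := by
  have := hA.normal
  rcases hA.min (A ⊓ centralizer (P : Set G)) inferInstance inf_le_left with h | h
  · exfalso
    refine hA.ne_bot ?_
    have h1 : A.subgroupOf P = ⊥ := CfsgLib.Coprime.FixedCube.eq_bot_of_inf_center hP _ (by
      rw [eq_bot_iff]
      rintro ⟨x, hx⟩ hxm
      obtain ⟨hxA, hxZ⟩ := mem_inf.1 hxm
      refine mem_bot.2 (Subtype.ext ?_)
      refine (mem_bot.1 (h.le (mem_inf.2 ⟨hxA, mem_centralizer_iff.2 fun y hy => ?_⟩)) :)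
      exact congrArg Subtype.val (mem_center_iff.1 hxZ ⟨y, hy⟩))
    rw [subgroupOf_eq_bot] at h1
    rwa [disjoint_iff, inf_eq_left.2 hAP] at h1
  · intro x hx
    rw [mem_centralizer_iff]
    intro a ha
    rw [← h] at ha
    exact (mem_centralizer_iff.1 (mem_inf.1 ha).2 x hx).symm

variable {p : ℕ} [hp : Fact p.Prime] {A : Subgroup G} (h : ElemNormal p A)

omit [Finite G] in
theorem irreducible_conjRep (hA : IsMinNormal A) (W : Submodule (ZMod p) h.Space)
    (hW : ∀ g, ∀ x ∈ W, h.conjRep g x ∈ W) : W = ⊥ ∨ W = ⊤ := by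
  let K : Subgroup G :=
    { carrier := {g | ∃ hg : g ∈ A, h.vec ⟨g, hg⟩ ∈ W}
      one_mem' := ⟨one_mem A, W.zero_mem⟩
      mul_mem' := fun {a b} ⟨ha, hwa⟩ ⟨hb, hwb⟩ => ⟨mul_mem ha hb, W.add_mem hwa hwb⟩
      inv_mem' := fun {a} ⟨ha, hwa⟩ => ⟨inv_mem ha, W.neg_mem hwa⟩ }
  have hK : K.Normal := ⟨fun a ⟨ha, hwa⟩ g => ⟨hA.normal.conj_mem a ha g, by
    have := hW g _ hwa
    rwa [h.conjRep_vec] at this⟩⟩
  rcases hA.min K hK (fun g ⟨hg, _⟩ => hg) with e | e
  · refine Or.inl (eq_bot_iff.2 fun x hx => ?_)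
    obtain ⟨a, rfl⟩ := h.vec.surjective x
    have : (a : G) ∈ K := ⟨a.2, hx⟩
    rw [e, mem_bot] at this
    rw [Submodule.mem_bot, h.vec_eq_zero]
    exact Subtype.ext this
  · refine Or.inr (eq_top_iff.2 fun x _ => ?_)
    obtain ⟨a, rfl⟩ := h.vec.surjective x
    obtain ⟨_, hm⟩ := e.ge a.2
    exact hm

theorem scale_conjRep (hG : IsRational G) {k : ℕ} (hk : k.Coprime p) (x : h.Space) :
    ∃ g, h.conjRep g x = (k : ZMod p) • x := by
  obtain ⟨a, rfl⟩ := h.vec.surjective x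
  obtain ⟨g, hg⟩ := isConj_iff.1 (hG (a : G) k
    (hk.coprime_dvd_right (orderOf_dvd_of_pow_eq_one (h.exponent a a.2))))
  refine ⟨g, ?_⟩
  rw [h.conjRep_vec, Nat.cast_smul_eq_nsmul, ← h.vec_pow]
  exact congrArg h.vec (Subtype.ext hg)

/-- The chief module at the bottom of the normal Sylow subgroup is symplectic. -/
theorem exists_isSymp_conjRep (hG : IsRational G) (h5 : 5 ≤ p) (hA : IsMinNormal A)
    (P : Subgroup G) [P.Normal] (hP : IsPGroup p P) (hPi : P.index.Coprime p) (hAP : A ≤ P) :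
    ∃ B : LinearMap.BilinForm (ZMod p) h.Space, IsSymp h.conjRep B := by
  have : Nontrivial A := A.nontrivial_iff_ne_bot.2 hA.ne_bot
  have : Nontrivial h.Space := h.vec.symm.nontrivial
  refine exists_isSymp h5 h.conjRep P (fun g hg => h.conjRep_eq_one.2 fun a ha => ?_) hPi
    hG.isConj_inv (irreducible_conjRep h hA) fun x => ?_
  · exact (mem_centralizer_iff.1 (hA.centralized hP hAP hg) a ha).symm
  · exact scale_conjRep h hG (k := 2) ((hp.out.coprime_iff_not_dvd.2 fun e => by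
      have := Nat.le_of_dvd two_pos e; omega).symm) x

end CfsgLib.RationalGroup
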