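import Mathlib

/-!
# A criterion for a nilpotent group on two generators to be commutative
-/

set_option autoImplicit false

namespace CfsgLib.RationalGroup

open Subgroup
open scoped commutatorElement

universe u

variable {H : Type u} [Group H]

theorem comm_mul_left (hc : ∀ a b c : H, Commute ⁅a, b⁆ c) (x y z : H) :
    ⁅x * y, z⁆ = ⁅x, z⁆ * ⁅y, z⁆ := by
  have h1 : ⁅x * y, z⁆ = (x * ⁅y, z⁆ * x⁻¹) * ⁅x, z⁆ := by
    simp only [commutatorElement_def]; group
  rw [h1, ← (hc y z x).eq, mul_inv_cancel_right, (hc y z _).eq]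

theorem comm_mul_right (hc : ∀ a b c : H, Commute ⁅a, b⁆ c) (x y z : H) :
    ⁅x, y * z⁆ = ⁅x, y⁆ * ⁅x, z⁆ := by
  rw [← inv_inj, commutatorElement_inv, comm_mul_left hc, mul_inv_rev, commutatorElement_inv,
    commutatorElement_inv, (hc y x _).eq]

theorem comm_pow_left (hc : ∀ a b c : H, Commute ⁅a, b⁆ c) (x z : H) (m : ℕ) :
    ⁅x ^ m, z⁆ = ⁅x, z⁆ ^ m := by
  induction m with
  | zero => simp
  | succ m ih => rw [pow_succ, pow_succ, comm_mul_left hc, ih]

theorem comm_pow_right (hc : ∀ a b c : H, Commute ⁅a, b⁆ c) (x z : H) (m : ℕ) :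
    ⁅x, z ^ m⁆ = ⁅x, z⁆ ^ m := by
  rw [← inv_inj, commutatorElement_inv, comm_pow_left hc, ← commutatorElement_inv x z, inv_pow]

theorem comm_pow_mul (hc : ∀ a b c : H, Commute ⁅a, b⁆ c) (a b z w : H) (hz : ∀ c, Commute z c)
    (hw : ∀ c, Commute w c) (i j k l : ℕ) :
    ⁅a ^ i * b ^ j * z, a ^ k * b ^ l * w⁆ = ⁅a, b⁆ ^ (i * l) * (⁅a, b⁆ ^ (j * k))⁻¹ := by
  have e : ∀ z : H, (∀ c : H, Commute z c) → ∀ c : H, ⁅z, c⁆ = 1 ∧ ⁅c, z⁆ = 1 := fun z hz c =>
    ⟨commutatorElement_eq_one_iff_commute.2 (hz c), commutatorElement_eq_one_iff_commute.2 (hz c).symm⟩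
  rw [comm_mul_left hc, (e z hz _).1, mul_one, comm_mul_right hc, (e w hw _).2, mul_one,
    comm_mul_left hc, comm_mul_right hc, comm_mul_right hc,
    comm_pow_left hc a, comm_pow_right hc a a, commutatorElement_self, one_pow, one_pow, one_mul,
    comm_pow_left hc a, comm_pow_right hc a b, ← pow_mul,
    comm_pow_left hc b, comm_pow_right hc b a, ← pow_mul,
    comm_pow_left hc b, comm_pow_right hc b b, commutatorElement_self, one_pow, one_pow, mul_one,
    ← commutatorElement_inv a b, inv_pow, mul_comm l i, mul_comm k j]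

theorem eq_bot_of_eq_commutator (hn : Group.IsNilpotent H)
    (h : commutator H ≤ ⁅commutator H, (⊤ : Subgroup H)⁆) : commutator H = ⊥ := by
  obtain ⟨n, hn⟩ := Subgroup.nilpotent_iff_lowerCentralSeries.1 hn
  have key : ∀ m, commutator H ≤ (⊤ : Subgroup H).lowerCentralSeries m := by
    intro m
    induction m with
    | zero => exact le_top
    | succ m ih =>
      rw [Subgroup.lowerCentralSeries_succ]
      exact h.trans (commutator_mono ih le_rfl)
  exact eq_bot_iff.2 (hn ▸ key n)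

end CfsgLib.RationalGroup
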