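import Cfsg.Agent.Lib.RationalGroup.Local
import Cfsg.Agent.Lib.RationalGroup.Arith

/-!
# Solvable groups with distinct class sizes
-/

set_option autoImplicit false

namespace CfsgLib.RationalGroup

open Subgroup

universe u

variable {G : Type u} [Group G] [Finite G]

/-- An element whose centraliser has prime order generates a Sylow subgroup. -/
theorem sylow_card_of_centralizer_prime {p : ℕ} [hp : Fact p.Prime] {x : G}
    (hx : Nat.card (centralizer ({x} : Set G)) = p) (hx1 : x ≠ 1) :
    ∃ S : Sylow p G, (S : Subgroup G) = zpowers x ∧ centralizer ({x} : Set G) = zpowers x ∧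
      orderOf x = p := by
  have hox : orderOf x = p := by
    have h1 : orderOf x ∣ p := hx ▸ Subgroup.orderOf_dvd_natCard _ (mem_centralizer_singleton_iff.2 rfl)
    rcases (Nat.dvd_prime hp.out).1 h1 with h | h
    · exact absurd (orderOf_eq_one_iff.1 h) hx1
    · exact h
  have hCx : centralizer ({x} : Set G) = zpowers x :=
    (eq_of_le_of_card_ge (zpowers_le.2 (mem_centralizer_singleton_iff.2 rfl))
      (by rw [hx, Nat.card_zpowers, hox])).symm
  obtain ⟨S, hS⟩ := (IsPGroup.of_card (n := 1) (by rw [Nat.card_zpowers, hox, pow_one]) :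
    IsPGroup p (zpowers x)).exists_le_sylow
  refine ⟨S, (le_antisymm hS ?_).symm, hCx, hox⟩
  let x' : S := ⟨x, hS (mem_zpowers x)⟩
  have : Nontrivial S := ⟨⟨x', 1, fun e => hx1 (congrArg Subtype.val e)⟩⟩
  have : Nontrivial (center S) := S.2.center_nontrivial
  obtain ⟨⟨z, hz⟩, hz1⟩ := exists_ne (1 : center S)
  have hzx : (z : G) ∈ zpowers x := by
    rw [← hCx, mem_centralizer_singleton_iff]
    exact congrArg Subtype.val (mem_center_iff.1 hz x').symm
  have hzne : (z : G) ≠ 1 := fun e => hz1 (Subtype.ext (Subtype.ext e))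
  have hzg : zpowers (z : G) = zpowers x := by
    refine eq_of_le_of_card_ge (zpowers_le.2 hzx) ?_
    rw [Nat.card_zpowers, Nat.card_zpowers]
    have h1 : orderOf (z : G) ∣ p := by
      have h0 := Subgroup.orderOf_dvd_natCard _ hzx
      rwa [Nat.card_zpowers, hox] at h0
    rcases (Nat.dvd_prime hp.out).1 h1 with h | h
    · exact absurd (orderOf_eq_one_iff.1 h) hzne
    · rw [h, hox]
  intro s hs
  rw [← hCx, mem_centralizer_singleton_iff]
  have hc : Commute s (z : G) := congrArg Subtype.val (mem_center_iff.1 hz ⟨s, hs⟩)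
  obtain ⟨k, hk⟩ := mem_zpowers_iff.1 (hzg.ge (mem_zpowers x))
  rw [← hk]
  exact hc.zpow_right k

theorem factor_235 {n : ℕ} (hn : n ≠ 0) (h : ∀ p : ℕ, p.Prime → p ∣ n → p = 2 ∨ p = 3 ∨ p = 5) :
    n = 2 ^ n.factorization 2 * 3 ^ n.factorization 3 * 5 ^ n.factorization 5 := by
  conv_lhs => rw [← Nat.prod_factorization_pow_eq_self hn]
  rw [Finsupp.prod_of_support_subset _ (s := ({2, 3, 5} : Finset ℕ)) (fun p hp => by
    rw [Nat.support_factorization, Nat.mem_primeFactors] at hp
    simp only [Finset.mem_insert, Finset.mem_singleton]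
    exact h p hp.1 hp.2.1) _ (fun i _ => pow_zero i)]
  rw [Finset.prod_insert (by simp), Finset.prod_insert (by simp), Finset.prod_singleton, mul_assoc]

/-- The exponents of the centraliser orders. -/
theorem IsDistinct.goodOrder (hG : IsDistinct G) (hs : Group.IsSolvable G) (g : G) :
    GoodOrder (Nat.card (centralizer ({g} : Set G))) := by
  classical
  have : Fact (Nat.Prime 5) := ⟨by norm_num⟩
  set C := centralizer ({g} : Set G) with hC
  set d := Nat.card C with hd
  refine ⟨_, _, _, factor_235 Nat.card_pos.ne'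
    (fun p hp hpd => hG.prime_mem hs hp (hpd.trans (card_subgroup_dvd_card C))), ?_⟩
  set k := d.factorization 5 with hk
  obtain ⟨P⟩ := (inferInstance : Nonempty (Sylow 5 G))
  have hPn : (P : Subgroup G).Normal := hG.isRational.sylow_normal hs le_rfl P
  have hcard : Nat.card ↥((P : Subgroup G) ⊓ C) = 5 ^ k := by
    obtain ⟨m, hm⟩ := IsPGroup.iff_card.1 (P.2.to_le (inf_le_left : (P : Subgroup G) ⊓ C ≤ _))
    have h1 := ((P : Subgroup G).subgroupOf C).card_mul_index
    have h2 : Nat.card ((P : Subgroup G).subgroupOf C) = 5 ^ m := by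
      rw [← hm, ← subgroupOf_map_subtype, card_map_of_injective C.subtype_injective]
    have h3 : ¬ 5 ∣ ((P : Subgroup G).subgroupOf C).index := fun h =>
      P.not_dvd_index (h.trans (relIndex_dvd_index_of_normal (P : Subgroup G) C))
    rw [h2, ← hd] at h1
    rw [hm]
    congr 1
    rw [hk, ← h1, Nat.factorization_mul (pow_ne_zero _ (by norm_num)) index_ne_zero_of_finite,
      Finsupp.add_apply, Nat.factorization_eq_zero_of_not_dvd h3, add_zero,
      (Fact.out : Nat.Prime 5).factorization_pow, Finsupp.single_eq_same]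
  -- split `g` into its five-part and the rest
  obtain ⟨a, m, hm5, hgo⟩ := Nat.exists_eq_pow_mul_and_not_dvd (orderOf_pos g).ne' 5 (by norm_num)
  have hco : (5 ^ a).Coprime m := ((Fact.out : Nat.Prime 5).coprime_iff_not_dvd.2 hm5).pow_left a
  obtain ⟨e, he0, he1⟩ := Nat.chineseRemainder hco 0 1
  obtain ⟨e', he'1, he'0⟩ := Nat.chineseRemainder hco 1 0
  set h := g ^ e with hh
  set u := g ^ e' with hu
  have hgu : h * u = g := by
    rw [hh, hu, ← pow_add]
    conv_rhs => rw [← pow_one g]
    refine pow_eq_pow_iff_modEq.2 ?_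
    rw [hgo]
    exact (Nat.modEq_and_modEq_iff_modEq_mul hco).1 ⟨by simpa using he0.add he'1, by simpa using he1.add he'0⟩
  have hhm : h ^ m = 1 := by
    rw [hh, ← pow_mul, ← orderOf_dvd_iff_pow_eq_one, hgo]
    exact mul_dvd_mul_right (Nat.modEq_zero_iff_dvd.1 he0) m
  have hua : u ^ 5 ^ a = 1 := by
    rw [hu, ← pow_mul, ← orderOf_dvd_iff_pow_eq_one, hgo, mul_comm e']
    exact Nat.mul_dvd_mul_left _ (Nat.modEq_zero_iff_dvd.1 he'0)
  have hh5 : (orderOf h).Coprime 5 :=
    (((Fact.out : Nat.Prime 5).coprime_iff_not_dvd.2 hm5).symm).coprime_dvd_left (orderOf_dvd_of_pow_eq_one hhm)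
  have hcomm : Commute h u := (Commute.refl g).pow_pow e e'
  have huP : u ∈ (P : Subgroup G) := by
    have : IsPGroup 5 (zpowers u) := by
      obtain ⟨i, -, hi⟩ := (Nat.dvd_prime_pow (Fact.out : Nat.Prime 5)).1 (orderOf_dvd_of_pow_eq_one hua)
      exact IsPGroup.of_card (n := i) (by rw [Nat.card_zpowers, hi])
    obtain ⟨S, hS⟩ := this.exists_le_sylow
    have := P.unique_of_normal hPn
    exact (Subsingleton.elim S P) ▸ hS (mem_zpowers u)
  have hQu : (P : Subgroup G) ⊓ C
      = (P : Subgroup G) ⊓ centralizer ({h} : Set G) ⊓ centralizer ({u} : Set G) := by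
    ext x
    simp only [mem_inf, hC, mem_centralizer_singleton_iff]
    constructor
    · rintro ⟨hx, hxg⟩
      exact ⟨⟨hx, ((show Commute x g from hxg).pow_right e).eq⟩, ((show Commute x g from hxg).pow_right e').eq⟩
    · rintro ⟨⟨hx, h1⟩, h2⟩
      exact ⟨hx, hgu ▸ ((show Commute x h from h1).mul_right (show Commute x u from h2)).eq⟩
  have huQ : u ∈ (P : Subgroup G) ⊓ centralizer ({h} : Set G) :=
    ⟨huP, mem_centralizer_singleton_iff.2 hcomm.symm.eq⟩
  rw [hQu] at hcard
  have main : 1 ≤ k → 2 ≤ k ∧ (k = 2 → 3 ∣ d) := by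
    intro hk1
    have hQ : (P : Subgroup G) ⊓ centralizer ({h} : Set G) ≠ ⊥ := fun e0 => by
      rw [e0, bot_inf_eq, card_bot] at hcard
      have := Nat.one_lt_pow (show k ≠ 0 by omega) (show 1 < 5 by norm_num)
      omega
    obtain ⟨h1, h2⟩ := hG.local_five hs P hh5 hQ huQ
    refine ⟨?_, fun hk2 => ?_⟩
    · by_contra hlt
      rw [hcard, show k = 1 by omega] at h1
      norm_num at h1
    · refine (h2 (by rw [hcard, hk2]; norm_num)).trans ?_
      exact Subgroup.orderOf_dvd_natCard C (mem_centralizer_singleton_iff.2 ((Commute.refl g).pow_left e).eq)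
  refine ⟨fun e1 => by have := (main (by omega)).1; omega, fun e2 => ?_⟩
  exact (Nat.prime_three.dvd_iff_one_le_factorization Nat.card_pos.ne').1 ((main (by omega)).2 e2)

/-- An element with centraliser of order two makes the group symmetric of degree three. -/
theorem IsDistinct.sym_three (hG : IsDistinct G) {x : G}
    (hx : Nat.card (centralizer ({x} : Set G)) = 2) (hx1 : x ≠ 1) :
    Nonempty (G ≃* Equiv.Perm (Fin 3)) := by
  classical
  have : Fact (Nat.Prime 2) := ⟨Nat.prime_two⟩
  obtain ⟨S, hS, hCx, hox⟩ := sylow_card_of_centralizer_prime hx hx1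
  have hmemS : ∀ s ∈ (S : Subgroup G), s = 1 ∨ s = x := fun s hs => by
    rw [hS, mem_zpowers_iff_mem_range_orderOf, hox] at hs
    simp only [Finset.mem_image, Finset.mem_range] at hs
    obtain ⟨i, hi, rfl⟩ := hs
    interval_cases i <;> simp
  have hP : normalizer ((S : Subgroup G) : Set G) ≤ centralizer ((S : Subgroup G) : Set G) := by
    intro g hg
    rw [mem_centralizer_iff]
    intro s hs
    rcases hmemS s hs with rfl | rfl
    · rw [one_mul, mul_one]
    · rcases hmemS _ ((mem_normalizer_iff.1 hg s).1 hs) with e | e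
      · exact absurd (conj_eq_one_iff.1 e) hx1
      · exact (mul_inv_eq_iff_eq_mul.1 e).symm
  set K := (MonoidHom.transferSylow S hP).ker with hK
  have hcompl : IsComplement' K (S : Subgroup G) := MonoidHom.ker_transferSylow_isComplement' S hP
  have hS2 : Nat.card (S : Subgroup G) = 2 := by rw [hS, Nat.card_zpowers, hox]
  have hcard : Nat.card K * 2 = Nat.card G := by rw [← hS2]; exact hcompl.card_mul
  have hxx : x * x = 1 := by rw [← pow_two, ← hox, pow_orderOf_eq_one]
  have hxK : x ∉ K := fun h => hx1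
    (Subgroup.disjoint_def.1 hcompl.disjoint h (hS ▸ mem_zpowers x))
  have hKn : K.Normal := MonoidHom.normal_ker _
  have hfree : ∀ k ∈ K, x * k = k * x → k = 1 := fun k hk e => by
    have : k ∈ (S : Subgroup G) := hS ▸ hCx ▸ mem_centralizer_singleton_iff.2 e.symm
    exact Subgroup.disjoint_def.1 hcompl.disjoint hk this
  -- `x` inverts `K`
  have hinv : ∀ a ∈ K, x * a * x⁻¹ = a⁻¹ := by
    let θ : K → K := fun k => ⟨(k : G)⁻¹ * (x * k * x⁻¹), mul_mem (inv_mem k.2) (hKn.conj_mem k k.2 x)⟩
    have hθ : Function.Injective θ := fun a b e => by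
      have e1 : (a : G)⁻¹ * (x * a * x⁻¹) = (b : G)⁻¹ * (x * b * x⁻¹) := congrArg Subtype.val e
      have e2 : x * ((a : G) * (b : G)⁻¹) = ((a : G) * (b : G)⁻¹) * x := by
        calc x * ((a : G) * (b : G)⁻¹) = (a : G) * ((a : G)⁻¹ * (x * a * x⁻¹)) * x * (b : G)⁻¹ := by group
          _ = (a : G) * ((b : G)⁻¹ * (x * b * x⁻¹)) * x * (b : G)⁻¹ := by rw [e1]
          _ = _ := by group
      exact Subtype.ext (mul_inv_eq_one.1 (hfree _ (mul_mem a.2 (inv_mem b.2)) e2))
    intro a ha
    obtain ⟨k, hk⟩ := Finite.surjective_of_injective hθ ⟨a, ha⟩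
    have e1 : (k : G)⁻¹ * (x * k * x⁻¹) = a := congrArg Subtype.val hk
    have hxi : x⁻¹ = x := inv_eq_of_mul_eq_one_right hxx
    rw [← e1, hxi]
    calc x * ((k : G)⁻¹ * (x * k * x)) * x = x * (k : G)⁻¹ * x * k * (x * x) := by group
      _ = x * (k : G)⁻¹ * x * k := by rw [hxx, mul_one]
      _ = ((k : G)⁻¹ * (x⁻¹ * k * x⁻¹))⁻¹ := by group
      _ = ((k : G)⁻¹ * (x * k * x))⁻¹ := by rw [hxi]
  have hKcomm : ∀ a ∈ K, ∀ b ∈ K, a * b = b * a := fun a ha b hb => by
    have h1 := hinv (a * b) (mul_mem ha hb)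
    rw [show x * (a * b) * x⁻¹ = (x * a * x⁻¹) * (x * b * x⁻¹) by group, hinv a ha, hinv b hb] at h1
    rw [← inv_inj, mul_inv_rev, mul_inv_rev, ← mul_inv_rev b a, ← mul_inv_rev a b]
    rw [← mul_inv_rev] at h1
    exact h1.symm
  have hodd : ¬ 2 ∣ Nat.card K := fun h => by
    obtain ⟨k, hk⟩ := exists_prime_orderOf_dvd_card' (G := K) 2 h
    have h1 : (k : G)⁻¹ = k := inv_eq_of_mul_eq_one_right (by
      rw [← Subgroup.coe_mul, ← pow_two, ← hk, pow_orderOf_eq_one]; rfl)
    have h2 := hfree k k.2 (mul_inv_eq_iff_eq_mul.1 ((hinv k k.2).trans h1))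
    rw [show k = 1 from Subtype.ext h2, orderOf_one] at hk
    norm_num at hk
  have hsplit : ∀ g : G, g ∈ K ∨ g * x ∈ K := fun g => by
    obtain ⟨⟨⟨k, hk⟩, ⟨s, hs⟩⟩, e⟩ := hcompl.2 g
    rcases hmemS s hs with hs1 | hs1
    · subst hs1; exact Or.inl (by simpa [← e] using hk)
    · refine Or.inr ?_
      rw [← e]
      subst hs1
      show k * _ * _ ∈ K
      rw [mul_assoc, hxx, mul_one]
      exact hk
  have hne : Nat.card K ≠ 1 := fun e => by
    have h1 : centralizer ({x} : Set G) = ⊤ := eq_of_le_of_card_ge le_top (by rw [card_top, hx]; omega)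
    have h2 : centralizer ({(1 : G)} : Set G) = ⊤ := eq_top_iff.2 fun g _ => by
      rw [mem_centralizer_singleton_iff, mul_one, one_mul]
    have h3 := hG x 1 (by rw [h1, h2])
    exact hx1 (isConj_one_right.1 h3.symm)
  have hC : ∀ k ∈ K, k ≠ 1 → centralizer ({k} : Set G) = K := by
    intro k hk hk1
    refine le_antisymm (fun g hg => ?_) fun g hg => mem_centralizer_singleton_iff.2 (hKcomm g hg k hk)
    rcases hsplit g with h | h
    · exact h
    · exfalso
      rw [mem_centralizer_singleton_iff] at hg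
      have h1 : Commute (g⁻¹ * (g * x)) k :=
        (show Commute g k from hg).inv_left.mul_left (hKcomm _ h k hk)
      rw [inv_mul_cancel_left] at h1
      exact hk1 (hfree k hk h1.eq)
  have h3 : Nat.card K = 3 := by
    obtain ⟨⟨k, hk⟩, hk1'⟩ : ∃ k : K, k ≠ 1 := by
      have : Nontrivial K := Finite.one_lt_card_iff_nontrivial.1 (by have := Nat.card_pos (α := K); omega)
      exact exists_ne 1
    have hk1 : k ≠ 1 := fun e => hk1' (Subtype.ext e)
    have hsub : (K : Set G) ⊆ {1, k, k⁻¹} := by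
      intro a ha
      simp only [Set.mem_insert_iff, Set.mem_singleton_iff]
      by_cases ha1 : a = 1
      · exact Or.inl ha1
      · obtain ⟨g, hg⟩ := isConj_iff.1 (hG k a (by rw [hC k hk hk1, hC a ha ha1]))
        rcases hsplit g with h | h
        · refine Or.inr (Or.inl ?_)
          rw [← hg, hKcomm g h k hk, mul_inv_cancel_right]
        · refine Or.inr (Or.inr ?_)
          have hxi : x⁻¹ = x := inv_eq_of_mul_eq_one_right hxx
          calc a = (g * x) * (x * k * x⁻¹) * (g * x)⁻¹ := by
                rw [← hg, hxi]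
                calc g * k * g⁻¹ = g * (x * x) * k * (x * x) * g⁻¹ * 1 := by rw [hxx]; group
                  _ = g * x * (x * k * x) * (g * x⁻¹)⁻¹ := by group
                  _ = g * x * (x * k * x) * (g * x)⁻¹ := by rw [hxi]
            _ = (g * x) * k⁻¹ * (g * x)⁻¹ := by rw [hinv k hk]
            _ = k⁻¹ := by rw [hKcomm _ h _ (inv_mem hk), mul_inv_cancel_right]
    have hle : Nat.card K ≤ 3 := by
      rw [← SetLike.coe_sort_coe, Nat.card_coe_set_eq]
      exact (Set.ncard_le_ncard hsub (Set.toFinite _)).trans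
        ((Set.ncard_insert_le _ _).trans (Nat.add_le_add_right
          ((Set.ncard_insert_le _ _).trans (by rw [Set.ncard_singleton])) 1))
    have := Nat.card_pos (α := K)
    omega
  -- the action on the cosets of `⟨x⟩`
  set H := (S : Subgroup G) with hH
  have hidx : Nat.card (G ⧸ H) = 3 := by
    have := H.card_mul_index
    rw [index_eq_card, hS2] at this
    omega
  have hcore : H.normalCore = ⊥ := by
    rw [eq_bot_iff]
    intro s hs
    rcases hmemS s (H.normalCore_le hs) with rfl | rfl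
    · exact one_mem _
    · exfalso
      have htop : centralizer ({s} : Set G) = ⊤ := eq_top_iff.2 fun g _ => by
        rw [mem_centralizer_singleton_iff]
        rcases hmemS _ (H.normalCore_le (H.normalCore_normal.conj_mem s hs g)) with e | e
        · exact absurd (conj_eq_one_iff.1 e) hx1
        · exact mul_inv_eq_iff_eq_mul.1 e
      rw [htop, card_top] at hx
      omega
  have hker : (MulAction.toPermHom G (G ⧸ H)).ker = ⊥ := H.normalCore_eq_ker ▸ hcore
  have hcardP : Nat.card (Equiv.Perm (G ⧸ H)) = Nat.card G := by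
    rw [Nat.card_perm, hidx, ← hcard, h3]; rfl
  have hbij : Function.Bijective (MulAction.toPermHom G (G ⧸ H)) :=
    (Nat.bijective_iff_injective_and_card _).2 ⟨(MonoidHom.ker_eq_bot_iff _).1 hker, hcardP.symm⟩
  have := Fintype.ofFinite (G ⧸ H)
  exact ⟨(MulEquiv.ofBijective _ hbij).trans
    (Finite.equivFinOfCardEq hidx).permCongrHom⟩

/-- A solvable group with distinct class sizes is the symmetric group of degree three. -/
theorem IsDistinct.main [Nontrivial G] (hG : IsDistinct G) (hs : Group.IsSolvable G) :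
    Nonempty (G ≃* Equiv.Perm (Fin 3)) := by
  classical
  have hR := hG.isRational
  set n := Nat.card G with hn
  obtain ⟨D, hD, hsum⟩ := hG.exists_sum
  have hself : ∀ g : G, g ∈ centralizer ({g} : Set G) := fun g => mem_centralizer_singleton_iff.2 rfl
  have hC1 : Nat.card (centralizer ({(1 : G)} : Set G)) = n := by
    rw [show centralizer ({(1 : G)} : Set G) = ⊤ from eq_top_iff.2 fun g _ => by
      rw [mem_centralizer_singleton_iff, mul_one, one_mul], card_top]
  have hgood : ∀ d ∈ D, GoodOrder d := fun d hd => by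
    obtain ⟨g, rfl⟩ := (hD d).1 hd
    exact hG.goodOrder hs g
  have h2n : 2 ∣ n := by
    by_contra h
    have := hR.subsingleton_of_odd h
    exact false_of_nontrivial_of_subsingleton G
  have hge : ∀ d ∈ D, 2 ≤ d := fun d hd => by
    obtain ⟨g, rfl⟩ := (hD d).1 hd
    by_cases hg : g = 1
    · rw [hg, hC1]; exact Nat.le_of_dvd Nat.card_pos h2n
    · have h1 := Nat.le_of_dvd Nat.card_pos (Subgroup.orderOf_dvd_natCard _ (hself g))
      have h2 : orderOf g ≠ 1 := fun e => hg (orderOf_eq_one_iff.1 e)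
      have := orderOf_pos g
      omega
  by_cases h2 : 2 ∈ D
  · obtain ⟨x, hx⟩ := (hD 2).1 h2
    refine hG.sym_three hx fun e => ?_
    -- the group of order two
    rw [e, hC1] at hx
    obtain ⟨y, hy⟩ := exists_ne (1 : G)
    refine hy (isConj_one_right.1 (hG 1 y ?_))
    have hdy : orderOf y ∣ 2 := by
      have h0 := orderOf_dvd_natCard y; rwa [← hn, hx] at h0
    have hy2 : orderOf y = 2 :=
      ((Nat.dvd_prime Nat.prime_two).1 hdy).resolve_left fun h => hy (orderOf_eq_one_iff.1 h)
    rw [hC1, hx]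
    exact le_antisymm (hy2 ▸ Nat.le_of_dvd Nat.card_pos (Subgroup.orderOf_dvd_natCard _ (hself y)))
      (hx ▸ Subgroup.card_le_card_group _)
  exfalso
  have hge3 : ∀ d ∈ D, 3 ≤ d := fun d hd => by
    have h1 := hge d hd
    have : d ≠ 2 := fun e => h2 (e ▸ hd)
    omega
  have hne5 : ∀ d ∈ D, d ≠ 5 := fun d hd e => by
    obtain ⟨i, j, k, he, hk1, -⟩ := hgood d hd
    have hk : k ≤ 1 := by
      by_contra hlt
      have h1 : 5 ^ 2 ≤ 5 ^ k := Nat.pow_le_pow_right (by norm_num) (by omega)
      have h2 : 5 ^ k ≤ d := Nat.le_of_dvd (by omega) (he ▸ dvd_mul_left _ _)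
      omega
    have hk0 : k = 0 := by omega
    rw [hk0, pow_zero, mul_one, e] at he
    have h5 : (5 : ℕ) ∣ 2 ^ i * 3 ^ j := he ▸ dvd_rfl
    rcases (Nat.Prime.dvd_mul (by norm_num)).1 h5 with h | h
    · have := (Nat.prime_dvd_prime_iff_eq (by norm_num) Nat.prime_two).1
        ((by norm_num : Nat.Prime 5).dvd_of_dvd_pow h)
      omega
    · have := (Nat.prime_dvd_prime_iff_eq (by norm_num) Nat.prime_three).1
        ((by norm_num : Nat.Prime 5).dvd_of_dvd_pow h)
      omega
  by_cases h3 : 3 ∈ D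
  · obtain ⟨x, hx⟩ := (hD 3).1 h3
    have : Fact (Nat.Prime 3) := ⟨Nat.prime_three⟩
    have hx1 : x ≠ 1 := fun e => by
      rw [e, hC1] at hx
      rw [hx] at h2n
      norm_num at h2n
    obtain ⟨S, hS, hCx, hox⟩ := sylow_card_of_centralizer_prime hx hx1
    refine absurd hsum (ne_of_lt (sum_lt_one_of_three D (n := n) ?_ hgood ?_ hge3))
    · have h3n : 3 ∣ n := hx ▸ card_subgroup_dvd_card _
      have h6 : 6 ∣ n := Nat.Coprime.mul_dvd_of_dvd_of_dvd (by norm_num : Nat.Coprime 2 3) h2n h3n
      obtain ⟨t, ht⟩ := h6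
      by_contra hlt
      have hn6 : n = 6 := by
        have := Nat.card_pos (α := G)
        omega
      have : Fact (Nat.Prime 2) := ⟨Nat.prime_two⟩
      obtain ⟨y, hy⟩ := exists_prime_orderOf_dvd_card' (G := G) 2 h2n
      set c := Nat.card (centralizer ({y} : Set G)) with hc
      have hcd : c ∈ D := (hD c).2 ⟨y, rfl⟩
      have hc2 : 2 ∣ c := hy ▸ Subgroup.orderOf_dvd_natCard _ (hself y)
      have hc6 : c ∣ 6 := hn6 ▸ card_subgroup_dvd_card _
      have hc3 := hge3 c hcd
      have hcle := Nat.le_of_dvd (by norm_num) hc6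
      have hc6' : c = 6 := by interval_cases c <;> omega
      have htop : centralizer ({y} : Set G) = ⊤ :=
        eq_of_le_of_card_ge le_top (by rw [card_top, ← hc, hc6', ← hn6])
      have hyx : y ∈ centralizer ({x} : Set G) := by
        have : x ∈ centralizer ({y} : Set G) := htop ▸ mem_top x
        rw [mem_centralizer_singleton_iff] at this ⊢
        exact this.symm
      have := hx ▸ hy ▸ Subgroup.orderOf_dvd_natCard _ hyx
      norm_num at this
    · intro d hd h3d
      obtain ⟨g, rfl⟩ := (hD d).1 hd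
      by_cases hg : g = 1
      · exact Or.inr (by rw [hg, hC1])
      refine Or.inl ?_
      obtain ⟨⟨y, hy⟩, hyo⟩ := exists_prime_orderOf_dvd_card' (G := centralizer ({g} : Set G)) 3 h3d
      rw [Subgroup.orderOf_mk] at hyo
      obtain ⟨T, hT⟩ := (IsPGroup.of_card (n := 1) (by rw [Nat.card_zpowers, hyo, pow_one]) :
        IsPGroup 3 (zpowers y)).exists_le_sylow
      obtain ⟨c, hc⟩ := MulAction.exists_smul_eq G T S
      have hcy : c * y * c⁻¹ ∈ zpowers x := by
        rw [← hS, ← hc, Sylow.coe_subgroup_smul, Subgroup.mem_pointwise_smul_iff_inv_smul_mem]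
        have e : (MulAut.conj c)⁻¹ • (c * y * c⁻¹) = y := by
          simp [MulAut.smul_def, mul_assoc]
        rw [e]
        exact hT (mem_zpowers y)
      have hgc : c * g * c⁻¹ ∈ zpowers x := by
        rw [← hCx, mem_centralizer_singleton_iff]
        have hgy : Commute g y := (mem_centralizer_singleton_iff.1 hy).symm
        have h1 : Commute (c * g * c⁻¹) (c * y * c⁻¹) := hgy.map (MulAut.conj c).toMonoidHom
        have hxy : x ∈ zpowers (c * y * c⁻¹) := by
          have : zpowers (c * y * c⁻¹) = zpowers x := eq_of_le_of_card_ge (zpowers_le.2 hcy) (by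
            rw [Nat.card_zpowers, Nat.card_zpowers, hox, ← hyo]
            exact (orderOf_injective (MulAut.conj c).toMonoidHom (MulAut.conj c).injective y).ge)
          rw [this]; exact mem_zpowers x
        obtain ⟨k, hk⟩ := mem_zpowers_iff.1 hxy
        rw [← hk]
        exact (h1.zpow_right k).eq
      rw [mem_zpowers_iff_mem_range_orderOf, hox] at hgc
      simp only [Finset.mem_image, Finset.mem_range] at hgc
      obtain ⟨i, hi, hig⟩ := hgc
      have hi0 : i ≠ 0 := fun e => hg (by
        rw [e, pow_zero] at hig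
        exact conj_eq_one_iff.1 hig.symm)
      have hconj : IsConj x g :=
        (hR x i (by rw [hox]; interval_cases i <;> first | omega | norm_num)).trans
          (hig ▸ (isConj_iff.2 ⟨c, rfl⟩ : IsConj g (c * g * c⁻¹)).symm)
      rw [← hx]
      obtain ⟨a, ha⟩ := isConj_iff.1 hconj
      refine (Nat.card_congr ((MulAut.conj a).subgroupMap (centralizer ({x} : Set G))).toEquiv).trans ?_ |>.symm
      refine congrArg (fun H : Subgroup G => Nat.card H) ?_
      rw [← ha]
      ext z
      rw [Subgroup.mem_map, mem_centralizer_singleton_iff]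
      constructor
      · rintro ⟨w, hw, rfl⟩
        show a * w * a⁻¹ * (a * x * a⁻¹) = a * x * a⁻¹ * (a * w * a⁻¹)
        calc a * w * a⁻¹ * (a * x * a⁻¹) = a * (w * x) * a⁻¹ := by group
          _ = a * (x * w) * a⁻¹ := by rw [mem_centralizer_singleton_iff.1 hw]
          _ = _ := by group
      · intro e
        refine ⟨a⁻¹ * z * a, mem_centralizer_singleton_iff.2 ?_, ?_⟩
        · calc a⁻¹ * z * a * x = a⁻¹ * (z * (a * x * a⁻¹)) * a := by group
            _ = a⁻¹ * ((a * x * a⁻¹) * z) * a := by rw [e]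
            _ = _ := by group
        · show a * (a⁻¹ * z * a) * a⁻¹ = z
          group
  have hge4 : ∀ d ∈ D, 4 ≤ d := fun d hd => by
    have h1 := hge3 d hd
    have : d ≠ 3 := fun e => h3 (e ▸ hd)
    omega
  by_cases h4 : 4 ∈ D
  · obtain ⟨x, hx⟩ := (hD 4).1 h4
    have h16 : ¬ 16 ∣ n := hR.not_sixteen_dvd hx
    have : Fact (Nat.Prime 5) := ⟨by norm_num⟩
    refine absurd hsum (ne_of_lt (sum_lt_one_of_small_two D (fun d hd => ?_) hge4))
    obtain ⟨g, rfl⟩ := (hD d).1 hd
    obtain ⟨i, j, k, he, -, -⟩ := hgood _ hd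
    have hdn : 2 ^ i * 3 ^ j * 5 ^ k ∣ n := he ▸ card_subgroup_dvd_card _
    have hk : k = 0 := by
      by_contra hk
      exact h16 (hG.prime_five hs le_rfl (((dvd_pow_self 5 hk).mul_left _).trans hdn)).2
    refine ⟨i, j, by rw [he, hk, pow_zero, mul_one], ?_⟩
    by_contra hi
    refine h16 ((show 16 = 2 ^ 4 by norm_num) ▸ (Nat.pow_dvd_pow 2 (by omega : 4 ≤ i)).trans ?_)
    exact ((dvd_mul_right _ _).trans (dvd_mul_right _ _)).trans hdn
  exact absurd hsum (ne_of_lt (sum_lt_one_of_six_le D hgood fun d hd => by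
    have h1 := hge4 d hd
    have := hne5 d hd
    have : d ≠ 4 := fun e => h4 (e ▸ hd)
    omega))

end CfsgLib.RationalGroup
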