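import Mathlib

/-!
# Orbits on a module and on its dual
-/

set_option autoImplicit false

namespace CfsgLib.RationalGroup

universe u v w

variable {K : Type w} [Field K] {G : Type u} [Group G] [Finite G] {W : Type v} [AddCommGroup W]
  [Module K W] [Finite K] [Finite W]

/-- The action underlying a representation. -/
@[reducible]
def repAction (ρ : Representation K G W) : MulAction G W where
  smul g x := ρ g x
  one_smul x := by show ρ 1 x = x; rw [map_one]; rfl
  mul_smul g h x := by show ρ (g * h) x = ρ g (ρ h x); rw [map_mul]; rfl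

omit [Finite G] [Finite K] in
theorem card_fix_dual [Finite K] (ρ : Representation K G W) (g : G) :
    Nat.card {μ : Module.Dual K W // ρ.dual g μ = μ} = Nat.card {x : W // ρ g x = x} := by
  have : Module.Finite K W := Module.Finite.of_finite
  have : Finite (Module.Dual K W) := Module.finite_of_finite K
  let f : W →ₗ[K] W := ρ g⁻¹ - 1
  have e1 : {μ : Module.Dual K W | ρ.dual g μ = μ} = (LinearMap.ker f.dualMap : Set _) := by
    ext μ
    rw [Set.mem_setOf_eq, SetLike.mem_coe, LinearMap.mem_ker, LinearMap.ext_iff, LinearMap.ext_iff]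
    refine forall_congr' fun x => ?_
    rw [Representation.dual_apply, Module.Dual.transpose_apply, LinearMap.comp_apply,
      LinearMap.dualMap_apply, LinearMap.zero_apply, LinearMap.sub_apply, map_sub,
      Module.End.one_apply, sub_eq_zero]
  have e2 : {x : W | ρ g x = x} = (LinearMap.ker f : Set _) := by
    ext x
    rw [Set.mem_setOf_eq, SetLike.mem_coe, LinearMap.mem_ker, LinearMap.sub_apply,
      Module.End.one_apply, sub_eq_zero]
    constructor
    · intro h
      conv_lhs => rw [← h]
      rw [← Module.End.mul_apply, ← map_mul, inv_mul_cancel, map_one, Module.End.one_apply]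
    · intro h
      conv_lhs => rw [← h]
      rw [← Module.End.mul_apply, ← map_mul, mul_inv_cancel, map_one, Module.End.one_apply]
  show Nat.card {μ : Module.Dual K W | ρ.dual g μ = μ} = Nat.card {x : W | ρ g x = x}
  rw [e1, e2]
  show Nat.card (LinearMap.ker f.dualMap) = Nat.card (LinearMap.ker f)
  rw [Module.natCard_eq_pow_finrank (K := K), Module.natCard_eq_pow_finrank (K := K) (V := f.ker)]
  congr 1
  have h1 := f.dualMap.finrank_range_add_finrank_ker
  have h2 := f.finrank_range_add_finrank_ker
  rw [LinearMap.finrank_range_dualMap_eq_finrank_range, Subspace.dual_finrank_eq] at h1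
  omega

theorem sum_card_fix {X : Type*} [Finite X] [Fintype G] (m : MulAction G X) :
    ∑ g : G, Nat.card {x : X // g • x = x}
      = Nat.card (Quotient (@MulAction.orbitRel G X _ m)) * Nat.card G := by
  classical
  have := Fintype.ofFinite X
  have := Fintype.ofFinite (Quotient (MulAction.orbitRel G X))
  rw [Nat.card_eq_fintype_card, Nat.card_eq_fintype_card,
    ← MulAction.sum_card_fixedBy_eq_card_orbits_mul_card_group]
  exact Finset.sum_congr rfl fun g _ => by rw [Nat.card_eq_fintype_card]; rfl

theorem card_orbits_dual (ρ : Representation K G W) :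
    Nat.card (Quotient (@MulAction.orbitRel G (Module.Dual K W) _ (repAction ρ.dual)))
      = Nat.card (Quotient (@MulAction.orbitRel G W _ (repAction ρ))) := by
  classical
  have : Module.Finite K W := Module.Finite.of_finite
  have : Finite (Module.Dual K W) := Module.finite_of_finite K
  have := Fintype.ofFinite G
  refine Nat.eq_of_mul_eq_mul_right (Nat.card_pos (α := G)) ?_
  rw [← sum_card_fix (repAction ρ.dual), ← sum_card_fix (repAction ρ)]
  exact Finset.sum_congr rfl fun g _ => card_fix_dual ρ g

/-- A subgroup with the same orbits on a module has the same orbits on the dual module. -/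
theorem orbits_dual (ρ : Representation K G W) (C : Subgroup G)
    (h : ∀ g x, ∃ c ∈ C, ρ g x = ρ c x) (μ : Module.Dual K W) (g : G) :
    ∃ c ∈ C, ∀ x, μ (ρ g x) = μ (ρ c x) := by
  classical
  have : Module.Finite K W := Module.Finite.of_finite
  have : Finite (Module.Dual K W) := Module.finite_of_finite K
  let ρC : Representation K C W := ρ.comp C.subtype
  have hC := card_orbits_dual ρC
  have hG := card_orbits_dual ρ
  -- the orbit counts agree on `W`
  let fW : Quotient (@MulAction.orbitRel C W _ (repAction ρC)) →
      Quotient (@MulAction.orbitRel G W _ (repAction ρ)) :=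
    Quotient.map' id fun x y ⟨c, hc⟩ => ⟨(c : G), hc⟩
  have hW : Function.Bijective fW := by
    constructor
    · intro a b
      refine Quotient.inductionOn₂' a b fun x y e => ?_
      obtain ⟨k, hk⟩ := Quotient.exact' e
      change ρ k y = x at hk
      obtain ⟨c, hc, hcx⟩ := h k y
      exact Quotient.sound' ⟨⟨c, hc⟩, hcx.symm.trans hk⟩
    · intro a
      exact Quotient.inductionOn' a fun x => ⟨Quotient.mk'' x, rfl⟩
  let fD : Quotient (@MulAction.orbitRel C (Module.Dual K W) _ (repAction ρC.dual)) →
      Quotient (@MulAction.orbitRel G (Module.Dual K W) _ (repAction ρ.dual)) :=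
    Quotient.map' id fun x y ⟨c, hc⟩ => ⟨(c : G), hc⟩
  have hD : Function.Bijective fD := by
    refine Function.Surjective.bijective_of_nat_card_le ?_ ?_
    · intro a
      exact Quotient.inductionOn' a fun x => ⟨Quotient.mk'' x, rfl⟩
    · rw [hC, hG]
      exact (Nat.card_eq_of_bijective fW hW).le
  have e : fD (Quotient.mk'' (ρ.dual g⁻¹ μ)) = fD (Quotient.mk'' μ) :=
    Quotient.sound' ⟨g⁻¹, rfl⟩
  obtain ⟨c, hc⟩ := Quotient.exact' (hD.1 e)
  change ρC.dual c μ = ρ.dual g⁻¹ μ at hc
  refine ⟨(c : G)⁻¹, inv_mem c.2, fun x => ?_⟩
  have h1 := LinearMap.congr_fun hc x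
  rw [Representation.dual_apply, Representation.dual_apply, Module.Dual.transpose_apply,
    LinearMap.comp_apply, Module.Dual.transpose_apply, LinearMap.comp_apply, inv_inv] at h1
  exact h1.symm

end CfsgLib.RationalGroup
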