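import Cfsg.Agent.Lib.RationalGroup.Chief
import Cfsg.Agent.Lib.RationalGroup.Orbits

/-!
# Sylow subgroups for primes at least five in solvable rational groups are normal
-/

set_option autoImplicit false

namespace CfsgLib.RationalGroup

open Subgroup CfsgLib.PLength CfsgLib.CoprimeHeight

universe u v w

/-- A functional vanishing on the kernel of another is proportional to it. -/
theorem eq_smul_of_ker_le {K : Type u} [Field K] {V : Type v} [AddCommGroup V] [Module K V]
    {f f' : V →ₗ[K] K} {a : V} (ha : f a = 1) (h : ∀ x, f x = 0 → f' x = 0) : f' = f' a • f := by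
  refine LinearMap.ext fun x => ?_
  have h1 := h (x - f x • a) (by rw [map_sub, map_smul, ha, smul_eq_mul, mul_one, sub_self])
  rw [map_sub, map_smul, smul_eq_mul, sub_eq_zero] at h1
  rw [LinearMap.smul_apply, smul_eq_mul, h1, mul_comm]

section Core

variable {G : Type u} [Group G] [Finite G] {p q : ℕ} [hp : Fact p.Prime] [hq : Fact q.Prime]

/-- The core step: an elementary abelian `p`-group of a complement cannot act fixed point freely
below a rational group. -/
theorem no_fixedPointFree (hG : IsRational G) (h5 : 5 ≤ p) (hpq : p ≠ q) {V N : Subgroup G}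
    (hV : ElemNormal q V) (hsup : N ⊔ V = ⊤) (hinf : V ⊓ N = ⊥) (hN : IsRational N)
    (A : Subgroup N) (hAm : IsMinNormal A) (hA : ElemNormal p A) (P : Subgroup N) [P.Normal]
    (hP : IsPGroup p P) (hPi : P.index.Coprime p) (hAP : A ≤ P)
    (hfree : ∀ x ∈ V, (∀ a ∈ A, (a : G) * x = x * a) → x = 1) (hne : V ≠ ⊥) : False := by
  classical
  have := hV.normal
  have : Nontrivial V := V.nontrivial_iff_ne_bot.2 hne
  have : Nontrivial hV.Space := hV.vec.symm.nontrivial
  obtain ⟨B, hB⟩ := exists_isSymp_conjRep hA hN h5 hAm P hP hPi hAP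
  set ρ := hV.conjRep with hρ
  set σ := hA.conjRep with hσ
  have hpK : (p : ZMod q) ≠ 0 := fun h => hpq
    (((Nat.prime_dvd_prime_iff_eq hq.out hp.out).1 ((ZMod.natCast_eq_zero_iff _ _).1 h)).symm)
  let el : hA.Space → G := fun m => ((hA.vec.symm m : A) : N)
  have el_add : ∀ m m', el (m + m') = el m * el m' := fun m m' => by simp [el, hA.symm_add]
  have el_zero : el 0 = 1 := by simp [el, show hA.vec.symm 0 = 1 from rfl]
  have el_conj : ∀ (n : N) (m : hA.Space), el (σ n m) = (n : G) * el m * (n : G)⁻¹ := fun n m => by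
    obtain ⟨a, rfl⟩ := hA.vec.surjective m
    simp only [el, hσ, hA.conjRep_vec, Equiv.symm_apply_apply]
    simp
  have el_inj : ∀ m, el m = 1 → m = 0 := fun m hm => by
    obtain ⟨a, rfl⟩ := hA.vec.surjective m
    simp only [el, Equiv.symm_apply_apply] at hm
    rw [hA.vec_eq_zero]
    exact Subtype.ext (Subtype.ext hm)
  -- no nonzero vector is fixed by the whole of `A`
  have hfree' : ∀ z : hV.Space, (∀ m, ρ (el m) z = z) → z = 0 := fun z hz => by
    obtain ⟨x, rfl⟩ := hV.vec.surjective z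
    rw [hV.vec_eq_zero]
    refine Subtype.ext (hfree x x.2 fun a ha => ?_)
    have h1 := hz (hA.vec ⟨a, ha⟩)
    rw [hρ, hV.conjRep_vec] at h1
    have h2 := congrArg Subtype.val (hV.vec.injective h1)
    simp only [el, Equiv.symm_apply_apply] at h2
    exact mul_inv_eq_iff_eq_mul.1 h2
  -- a hyperplane with a fixed vector
  obtain ⟨f, x₀, hx₀, hfx⟩ : ∃ (f : Module.Dual (ZMod p) hA.Space) (x : hV.Space),
      x ≠ 0 ∧ ∀ m, f m = 0 → ρ (el m) x = x := by
    obtain ⟨v, hv⟩ := exists_ne (0 : hV.Space)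
    have h1 := mem_span_hyperplane (q := p) (M := hA.Space) (W := (⊤ : Submodule (ZMod q) hV.Space))
      (fun m => ρ (el m)) (by simp only [el_zero, map_one]) (fun m m' => by simp only [el_add, map_mul])
      hpK (fun _ _ _ => Submodule.mem_top) (Submodule.mem_top (x := v))
    by_contra hcon
    push Not at hcon
    refine hv ((Submodule.mem_bot (ZMod q)).1 (Submodule.span_le.2 ?_ h1))
    rintro x ⟨-, f, hf⟩
    rw [SetLike.mem_coe, Submodule.mem_bot]
    by_contra hx
    obtain ⟨m, hm, hm'⟩ := hcon f x hx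
    exact hm' (hf m hm)
  have hf0 : f ≠ 0 := fun h => hx₀ (hfree' x₀ fun m => hfx m (by rw [h]; rfl))
  obtain ⟨a₁, ha₁⟩ : ∃ a, f a = 1 := by
    obtain ⟨a, ha⟩ : ∃ a, f a ≠ 0 := by
      by_contra h
      push Not at h
      exact hf0 (LinearMap.ext h)
    exact ⟨(f a)⁻¹ • a, by rw [map_smul, smul_eq_mul, inv_mul_cancel₀ ha]⟩
  have hBinj : Function.Injective B := (injective_iff_map_eq_zero B).2 fun x hx => by
    by_contra h
    obtain ⟨y, hy⟩ := hB.nondeg x h
    exact hy (by rw [hx]; rfl)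
  obtain ⟨u, hu⟩ := (LinearMap.injective_iff_surjective_of_finrank_eq_finrank
    (Subspace.dual_finrank_eq).symm).1 hBinj f
  have hu0 : u ≠ 0 := fun h => hf0 (by rw [← hu, h, map_zero])
  have hfu : f u = 0 := by rw [← hu]; exact hB.alt u
  -- scaling of `u`
  let L : Submodule (ZMod p) hA.Space := Submodule.span (ZMod p) {u}
  have hscal : ∀ n : N, (∀ m, f m = 0 → f (σ n⁻¹ m) = 0) → σ n u ∈ L := by
    intro n hn
    have h1 : B (σ n u) = f ∘ₗ σ n⁻¹ := LinearMap.ext fun m => by
      rw [LinearMap.comp_apply, ← hu]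
      conv_lhs => rw [← show σ n (σ n⁻¹ m) = m by
        rw [← Module.End.mul_apply, ← map_mul, mul_inv_cancel, map_one, Module.End.one_apply]]
      exact hB.inv n u _
    rw [eq_smul_of_ker_le (f' := f ∘ₗ σ n⁻¹) ha₁ (fun m hm => hn m hm), ← hu, ← map_smul] at h1
    rw [hBinj h1]
    exact Submodule.smul_mem _ _ (Submodule.mem_span_singleton_self u)
  -- the hyperplane as a subgroup
  let Bs : Subgroup G :=
    { carrier := {g | ∃ m, f m = 0 ∧ el m = g}
      one_mem' := ⟨0, map_zero f, el_zero⟩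
      mul_mem' := fun {g g'} ⟨m, hm, e⟩ ⟨m', hm', e'⟩ =>
        ⟨m + m', by rw [map_add, hm, hm', add_zero], by rw [el_add, e, e']⟩
      inv_mem' := fun {g} ⟨m, hm, e⟩ => ⟨-m, by rw [map_neg, hm, neg_zero], by
        refine eq_inv_of_mul_eq_one_left ?_
        rw [← e, ← el_add, neg_add_cancel, el_zero]⟩ }
  have hBsK : (Nat.card Bs : ZMod q) ≠ 0 := by
    have hle : Bs ≤ A.map N.subtype := fun g ⟨m, _, e⟩ => ⟨(hA.vec.symm m : A), (hA.vec.symm m).2, e⟩
    obtain ⟨k, hk⟩ := (((hP.to_le hAP).map N.subtype).to_le hle).exists_card_eq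
    rw [hk, Nat.cast_pow]
    exact pow_ne_zero _ hpK
  have hu0s : el u ∈ Bs := ⟨u, hfu, rfl⟩
  obtain ⟨ν, hν⟩ : ∃ ν : Module.Dual (ZMod q) hV.Space, ν x₀ ≠ 0 := by
    by_contra h
    push Not at h
    exact hx₀ ((Module.forall_dual_apply_eq_zero_iff (ZMod q) x₀).1 h)
  let μ : Module.Dual (ZMod q) hV.Space := ν ∘ₗ avg ρ Bs
  have hx₀B : x₀ ∈ fixSub ρ Bs := fun g ⟨m, hm, e⟩ => e ▸ hfx m hm
  have hμx₀ : μ x₀ ≠ 0 := by
    show ν (avg ρ Bs x₀) ≠ 0
    rwa [avg_eq_self ρ hBsK hx₀B]
  -- the functional only sees the hyperplane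
  have key : ∀ (n : N) (y : hV.Space), (∀ m, f m = 0 → ρ (el (σ n m)) y = y) → μ y ≠ 0 → σ n u ∈ L := by
    intro n y hy hμ
    refine hscal n fun m hm => ?_
    by_contra hne'
    refine hμ ?_
    have hfix : ∀ m', ρ (el m') (avg ρ Bs y) = avg ρ Bs y → f m' ≠ 0 → avg ρ Bs y = 0 := by
      intro m' hm' hf'
      refine hfree' _ fun m'' => ?_
      set c : ℕ := (f m'' * (f m')⁻¹).val with hc
      have hd : f (m'' - c • m') = 0 := by
        rw [map_sub, map_nsmul, hc, nsmul_eq_mul, ZMod.natCast_zmod_val, mul_assoc,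
          inv_mul_cancel₀ hf', mul_one, sub_self]
      have hpow : ∀ c : ℕ, ρ (el (c • m')) (avg ρ Bs y) = avg ρ Bs y := by
        intro c
        induction c with
        | zero => rw [zero_smul, el_zero, map_one]; rfl
        | succ c ih => rw [succ_nsmul, el_add, map_mul, Module.End.mul_apply, hm', ih]
      rw [← sub_add_cancel m'' (c • m'), el_add, map_mul, Module.End.mul_apply, hpow]
      exact avg_mem_fixSub ρ y _ ⟨_, hd, rfl⟩
    -- `σ n⁻¹ m` fixes `y`, hence also its average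
    have hm2 : σ n (σ n⁻¹ m) = m := by
      rw [← Module.End.mul_apply, ← map_mul, mul_inv_cancel, map_one, Module.End.one_apply]
    obtain ⟨m', hf', hm'⟩ : ∃ m', f (σ n m') ≠ 0 ∧ f m' = 0 := by
      by_contra hcon
      push Not at hcon
      -- the map preserves the hyperplane in both directions
      let Hk : Submodule (ZMod p) hA.Space := LinearMap.ker f
      have hle : Hk.map (σ n) ≤ Hk := by
        rintro _ ⟨z, hz, rfl⟩
        by_contra h
        exact hcon z h (LinearMap.mem_ker.1 hz)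
      have hinjσ : Function.Injective (σ n) := fun z z' e => by
        have := congrArg (σ n⁻¹) e
        simpa [← Module.End.mul_apply, ← map_mul] using this
      have heq : Hk.map (σ n) = Hk := Submodule.eq_of_le_of_finrank_eq hle
        (Submodule.equivMapOfInjective (σ n) hinjσ Hk).finrank_eq.symm
      obtain ⟨z, hz, hze⟩ := heq.ge (show m ∈ Hk from LinearMap.mem_ker.2 hm)
      exact hne' (by rw [← hinjσ (hze.trans hm2.symm)]; exact LinearMap.mem_ker.1 hz)
    show ν (avg ρ Bs y) = 0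
    rw [hfix (σ n m') ?_ hf', map_zero]
    have := Fintype.ofFinite Bs
    rw [avg_apply, map_smul, map_sum]
    congr 1
    refine Finset.sum_congr rfl fun c _ => ?_
    obtain ⟨mc, -, hmc⟩ := c.2
    rw [← hmc, ← Module.End.mul_apply, ← map_mul, ← el_add, add_comm, el_add, map_mul,
      Module.End.mul_apply, hy m' hm']
  -- the subgroup scaling `u`, acting on the fixed space of `u`
  let U : Submodule (ZMod q) hV.Space := LinearMap.ker (ρ (el u) - 1)
  have hU : ∀ {z}, z ∈ U ↔ ρ (el u) z = z := fun {z} => by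
    simp [U, LinearMap.mem_ker, sub_eq_zero]
  have hUpow : ∀ z ∈ U, ∀ c : ZMod p, ρ (el (c • u)) z = z := by
    intro z hz c
    rw [← ZMod.natCast_zmod_val c, Nat.cast_smul_eq_nsmul]
    induction c.val with
    | zero => rw [zero_smul, el_zero, map_one]; rfl
    | succ k ih => rw [succ_nsmul, el_add, map_mul, Module.End.mul_apply, hU.1 hz, ih]
  let N₁ : Subgroup N := stabSub σ L
  have hN₁ : ∀ {n : N}, n ∈ N₁ → σ n u ∈ L := fun hn => hn u (Submodule.mem_span_singleton_self u)
  have mem_N₁ : ∀ {n : N}, σ n u ∈ L → n ∈ N₁ := fun {n} hn z hz => by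
    obtain ⟨c, rfl⟩ := Submodule.mem_span_singleton.1 hz
    rw [map_smul]
    exact L.smul_mem c hn
  have hpres : ∀ n : N₁, ∀ z ∈ U, ρ ((n : N) : G) z ∈ U := by
    intro n z hz
    obtain ⟨c, hc⟩ := Submodule.mem_span_singleton.1 (hN₁ (inv_mem n.2))
    rw [hU, ← Module.End.mul_apply, ← map_mul,
      show el u * ((n : N) : G) = ((n : N) : G) * el (σ (n : N)⁻¹ u) by rw [el_conj]; push_cast; group,
      map_mul, Module.End.mul_apply, ← hc, hUpow z hz]
  let τ : Representation (ZMod q) N₁ U :=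
    { toFun := fun n => (ρ ((n : N) : G)).restrict (hpres n)
      map_one' := LinearMap.ext fun z => Subtype.ext (by simp)
      map_mul' := fun a b => LinearMap.ext fun z => Subtype.ext (by simp [map_mul]) }
  let C₁ : Subgroup N₁ :=
    { carrier := {n | σ (n : N) u = u}
      one_mem' := by simp
      mul_mem' := fun {a b} ha hb => by
        show σ ((a : N) * b) u = u
        rw [map_mul, Module.End.mul_apply, show σ (b : N) u = u from hb, show σ (a : N) u = u from ha]
      inv_mem' := fun {a} ha => by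
        show σ (a : N)⁻¹ u = u
        conv_lhs => rw [← show σ (a : N) u = u from ha]
        rw [← Module.End.mul_apply, ← map_mul, inv_mul_cancel, map_one, Module.End.one_apply] }
  have hdec : ∀ g : G, ∃ v ∈ V, ∃ n : N, g = v * n := by
    intro g
    have hg : g ∈ V ⊔ N := by rw [sup_comm, hsup]; exact mem_top g
    obtain ⟨v, hv, n, hn, e⟩ := mem_sup_of_normal_left.1 hg
    exact ⟨v, hv, ⟨n, hn⟩, e.symm⟩
  have huniq : ∀ {v v' : G} (n n' : N), v ∈ V → v' ∈ V → v * n = v' * n' → v = v' ∧ n = n' := by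
    intro v v' n n' hv hv' e
    have h1 : v'⁻¹ * v = (n' : G) * (n : G)⁻¹ := by
      rw [eq_mul_inv_iff_mul_eq, mul_assoc, e, inv_mul_cancel_left]
    have h2 : v'⁻¹ * v ∈ V ⊓ N := mem_inf.2 ⟨mul_mem (inv_mem hv') hv, h1 ▸ mul_mem n'.2 (inv_mem n.2)⟩
    rw [hinf, mem_bot] at h2
    obtain rfl : v = v' := (inv_mul_eq_one.1 h2).symm
    exact ⟨rfl, Subtype.ext (mul_left_cancel e)⟩
  have horb : ∀ (n : N₁) (z : U), ∃ c ∈ C₁, τ n z = τ c z := by
    rintro n ⟨z, hz⟩
    obtain ⟨k, hk⟩ := Submodule.mem_span_singleton.1 (hN₁ n.2)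
    have hk0 : k ≠ 0 := fun h => hu0 (by
      have h2 := congrArg (σ (n : N)⁻¹) hk
      rwa [h, zero_smul, map_zero, ← Module.End.mul_apply, ← map_mul, inv_mul_cancel, map_one,
        Module.End.one_apply, eq_comm] at h2)
    obtain ⟨x, rfl⟩ := hV.vec.surjective z
    have hcomm : Commute (x : G) (el u) := by
      have h1 := hU.1 hz
      rw [hρ, hV.conjRep_vec] at h1
      exact (mul_inv_eq_iff_eq_mul.1 (congrArg Subtype.val (hV.vec.injective h1))).symm
    have ho1 : orderOf (x : G) ∣ q := orderOf_dvd_of_pow_eq_one (hV.exponent x x.2)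
    have ho2 : orderOf (el u) ∣ p := orderOf_dvd_of_pow_eq_one (by
      have h2 := congrArg (fun a : A => ((a : N) : G)) (show hA.vec.symm u ^ p = 1 from
        Subtype.ext (hA.exponent _ (hA.vec.symm u).2))
      simpa [el] using h2)
    obtain ⟨g, hg1, hg2⟩ := hG.exists_conj_pair hcomm
      (((Nat.coprime_primes hq.out hp.out).2 hpq.symm).coprime_dvd_left ho1 |>.coprime_dvd_right ho2)
      (Nat.coprime_one_left _)
      (((hp.out.coprime_iff_not_dvd).2 fun e => hk0 (by
        rw [← ZMod.natCast_zmod_val k, (ZMod.natCast_eq_zero_iff _ _).2 e])).symm.coprime_dvd_right ho2)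
    obtain ⟨v, hv, l, rfl⟩ := hdec g
    have hpow : el u ^ k.val = el (k • u) := by
      conv_rhs => rw [← ZMod.natCast_zmod_val k, Nat.cast_smul_eq_nsmul]
      induction k.val with
      | zero => rw [pow_zero, zero_smul, el_zero]
      | succ i ih => rw [pow_succ, ih, succ_nsmul, el_add]
    rw [hpow] at hg2
    have hlu : σ l u = k • u := by
      set a : N := ((hA.vec.symm (σ l u) : A) : N) with ha
      set b : N := ((hA.vec.symm (k • u) : A) : N) with hb
      have h1 : v * (a : G) * v⁻¹ = (b : G) := by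
        show v * el (σ l u) * v⁻¹ = el (k • u)
        rw [← hg2]
        rw [el_conj]; group
      have h2 : (v * (a : G) * v⁻¹ * (a : G)⁻¹) * (a : G) = 1 * (b : G) := by
        rw [← h1, one_mul]; group
      have h3 : v * (a : G) * v⁻¹ * (a : G)⁻¹ ∈ V := by
        rw [show v * (a : G) * v⁻¹ * (a : G)⁻¹ = v * ((a : G) * v⁻¹ * (a : G)⁻¹) by group]
        exact mul_mem hv (hV.normal.conj_mem _ (inv_mem hv) _)
      exact hA.vec.symm.injective (Subtype.ext (huniq a b h3 (one_mem V) h2).2)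
    have hlx : ρ (l : G) (hV.vec x) = hV.vec x := by
      rw [hρ, hV.conjRep_vec]
      refine congrArg hV.vec (Subtype.ext ?_)
      rw [pow_one] at hg1
      show (l : G) * x * (l : G)⁻¹ = x
      rw [show (l : G) * x * (l : G)⁻¹ = v⁻¹ * (v * l * x * (v * (l : G))⁻¹) * v by group, hg1,
        mul_assoc, hV.comm x x.2 v hv, ← mul_assoc, inv_mul_cancel, one_mul]
    have hlN : l ∈ N₁ := mem_N₁ (hlu ▸ L.smul_mem k (Submodule.mem_span_singleton_self u))
    refine ⟨n * (⟨l, hlN⟩ : N₁)⁻¹, ?_, Subtype.ext ?_⟩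
    · show σ ((n : N) * l⁻¹) u = u
      have h1 : σ l⁻¹ (k • u) = u := by
        rw [← hlu, ← Module.End.mul_apply, ← map_mul, inv_mul_cancel, map_one, Module.End.one_apply]
      rw [map_smul] at h1
      rw [map_mul, Module.End.mul_apply]
      conv_rhs => rw [← h1]
      have h4 : σ l⁻¹ u = k⁻¹ • u := by
        conv_rhs => rw [← h1, smul_smul, inv_mul_cancel₀ hk0, one_smul]
      rw [h4, map_smul, ← hk, smul_smul, inv_mul_cancel₀ hk0, one_smul, smul_smul,
        mul_inv_cancel₀ hk0, one_smul]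
    · show ρ ((n : N) : G) (hV.vec x) = ρ (((n : N) * l⁻¹ : N) : G) (hV.vec x)
      conv_rhs => rw [← hlx, ← Module.End.mul_apply, ← map_mul]
      congr 2
      push_cast
      rw [inv_mul_cancel_right]
  -- an element scaling `u` by two and fixing the functional
  obtain ⟨n₀, hn₀⟩ := scale_conjRep hA hN (k := 2) ((hp.out.coprime_iff_not_dvd.2 fun e => by
      have := Nat.le_of_dvd two_pos e; omega).symm) u
  rw [Nat.cast_ofNat] at hn₀
  have hn₀N : n₀ ∈ N₁ := mem_N₁ (hn₀ ▸ L.smul_mem _ (Submodule.mem_span_singleton_self u))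
  obtain ⟨c, hc, hcμ⟩ := orbits_dual τ C₁ horb (μ ∘ₗ U.subtype) ⟨n₀, hn₀N⟩
  let l₁ : N₁ := ⟨n₀, hn₀N⟩ * c⁻¹
  let l : N := (l₁ : N)
  have hlu : σ l u = (2 : ZMod p) • u := by
    show σ (n₀ * ((c : N))⁻¹) u = _
    rw [map_mul, Module.End.mul_apply, show σ (c : N)⁻¹ u = u from inv_mem hc, hn₀]
  let Z : Subgroup G := zpowers (el u)
  have hZB : Z ≤ Bs := zpowers_le.2 hu0s
  have hZK : (Nat.card Z : ZMod q) ≠ 0 := fun h => hBsK (by
    obtain ⟨d, hd⟩ := card_dvd_of_le hZB
    rw [hd, Nat.cast_mul, h, zero_mul])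
  have hUfix : ∀ z, z ∈ fixSub ρ Z → z ∈ U := fun z hz => hU.2 (hz _ (mem_zpowers _))
  have hUfix' : ∀ z ∈ U, z ∈ fixSub ρ Z := by
    intro z hz g hg
    obtain ⟨i, rfl⟩ : ∃ i : ℕ, el u ^ i = g := mem_powers_iff_mem_zpowers.2 hg
    induction i with
    | zero => rw [pow_zero, map_one]; rfl
    | succ i ih => rw [pow_succ, map_mul, Module.End.mul_apply, hU.1 hz, ih (pow_mem (mem_zpowers _) i)]
  have hμZ : ∀ y, μ (avg ρ Z y) = μ y := fun y => by
    have := Fintype.ofFinite Z
    show ν (avg ρ Bs (avg ρ Z y)) = ν (avg ρ Bs y)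
    congr 1
    rw [avg_apply (A := Z), map_smul, map_sum, Finset.sum_congr rfl fun z _ => avg_rep ρ (hZB z.2) y,
      Finset.sum_const, Finset.card_univ, ← Nat.card_eq_fintype_card, ← Nat.cast_smul_eq_nsmul (ZMod q),
      smul_smul, inv_mul_cancel₀ hZK, one_smul]
  have hlnorm : (l : G) ∈ normalizer (Z : Set G) := by
    have hconj : (l : G) * el u * (l : G)⁻¹ = el u ^ 2 := by
      rw [← el_conj, hlu, pow_two, two_smul, el_add]
    have hmemZ : ∀ c : ZMod p, el (c • u) ∈ Z := fun c => by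
      rw [← ZMod.natCast_zmod_val c, Nat.cast_smul_eq_nsmul]
      induction c.val with
      | zero => rw [zero_smul, el_zero]; exact one_mem Z
      | succ k ih => rw [succ_nsmul, el_add]; exact mul_mem ih (mem_zpowers _)
    obtain ⟨d, hd⟩ := Submodule.mem_span_singleton.1 (hN₁ (inv_mem l₁.2) : σ l⁻¹ u ∈ L)
    have hinv : (l : G)⁻¹ * el u * (l : G) ∈ Z := by
      have h2 := el_conj l⁻¹ u
      rw [← hd] at h2
      have := hmemZ d
      rw [h2] at this
      simpa using this
    refine CfsgLib.CoprimeHeight.mem_normalizer_of_conj (fun g hg => ?_) fun g hg => ?_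
    · obtain ⟨i, rfl⟩ := mem_zpowers_iff.1 hg
      rw [← conj_zpow, hconj]
      exact zpow_mem (pow_mem (mem_zpowers _) 2) i
    · obtain ⟨i, rfl⟩ := mem_zpowers_iff.1 hg
      rw [show (l : G)⁻¹ * el u ^ i * (l : G) = ((l : G)⁻¹ * el u * (l : G)) ^ i by
        have := conj_zpow (i := i) (a := (l : G)⁻¹) (b := el u)
        rw [inv_inv] at this; exact this.symm]
      exact zpow_mem hinv i
  have hlμU : ∀ z ∈ U, μ (ρ (l : G) z) = μ z := by
    intro z hz
    have h1 := hcμ (τ c⁻¹ ⟨z, hz⟩)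
    rw [← Module.End.mul_apply, ← Module.End.mul_apply, ← map_mul, ← map_mul, mul_inv_cancel,
      map_one, Module.End.one_apply] at h1
    exact h1
  have hlμ : ∀ y, μ (ρ (l : G) y) = μ y := by
    intro y
    rw [← hμZ (ρ (l : G) y), ← hμZ y]
    have h1 : avg ρ Z (ρ (l : G) y) = ρ (l : G) (avg ρ Z y) := by
      conv_lhs => rw [← sub_add_cancel y (avg ρ Z y), map_add, map_add]
      rw [avg_eq_zero ρ (map_mem_commPart ρ hlnorm (sub_avg_mem ρ hZK y)), zero_add,
        avg_eq_self ρ hZK (map_mem_fixSub ρ hlnorm (avg_mem_fixSub ρ y))]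
    rw [h1, hlμU _ (hUfix _ (avg_mem_fixSub ρ y))]
  have hlμ' : ∀ y, μ (ρ (l : G)⁻¹ y) = μ y := fun y => by
    conv_rhs => rw [← show ρ (l : G) (ρ (l : G)⁻¹ y) = y by
      rw [← Module.End.mul_apply, ← map_mul, mul_inv_cancel, map_one, Module.End.one_apply]]
    rw [hlμ]
  -- the rational conjugation
  obtain ⟨x, rfl⟩ := hV.vec.surjective x₀
  obtain ⟨g, hg⟩ := isConj_iff.1 (hG.isConj_inv ((x : G) * l))
  obtain ⟨v, hv, t, rfl⟩ := hdec g
  have hconj : ∀ (n : N) (w : G), w ∈ V → (n : G) * w * (n : G)⁻¹ ∈ V :=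
    fun n w hw => hV.normal.conj_mem w hw _
  set s : N := t * l * t⁻¹ with hs
  have h1 : (v * ((t : G) * x * (t : G)⁻¹) * ((s : G) * v⁻¹ * (s : G)⁻¹)) * (s : G)
      = ((l : G)⁻¹ * (x : G)⁻¹ * (l : G)) * ((l⁻¹ : N) : G) := by
    rw [show ((l : G)⁻¹ * (x : G)⁻¹ * (l : G)) * ((l⁻¹ : N) : G) = ((x : G) * l)⁻¹ by
      push_cast; group, ← hg, hs]
    push_cast
    group
  obtain ⟨e1, e2⟩ := huniq s l⁻¹ (mul_mem (mul_mem hv (hconj t x x.2)) (hconj s _ (inv_mem hv)))
    (by simpa using hconj l⁻¹ _ (inv_mem x.2)) h1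
  have e3 : hV.vec ⟨v, hv⟩ + ρ (t : G) (hV.vec x) - ρ (s : G) (hV.vec ⟨v, hv⟩)
      = -ρ (l : G)⁻¹ (hV.vec x) := by
    rw [sub_eq_add_neg, hρ, hV.conjRep_vec, hV.conjRep_vec, hV.conjRep_vec, ← hV.vec_inv,
      ← hV.vec_mul, ← hV.vec_mul, ← hV.vec_inv]
    refine congrArg hV.vec (Subtype.ext ?_)
    push_cast
    calc v * ((t : G) * x * (t : G)⁻¹) * ((s : G) * v * (s : G)⁻¹)⁻¹
        = v * ((t : G) * x * (t : G)⁻¹) * ((s : G) * v⁻¹ * (s : G)⁻¹) := by group
      _ = (l : G)⁻¹ * (x : G)⁻¹ * (l : G) := e1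
      _ = _ := by group
  have e4 := congrArg μ e3
  rw [e2, map_sub, map_add, map_neg, show ((l⁻¹ : N) : G) = (l : G)⁻¹ from rfl, hlμ', hlμ'] at e4
  have hμt : μ (ρ (t : G) (hV.vec x)) ≠ 0 := fun h => hμx₀ (by linear_combination e4 - h)
  obtain ⟨c', hc'⟩ := Submodule.mem_span_singleton.1 (key t _ (fun m hm => by
    rw [el_conj, ← Module.End.mul_apply, ← map_mul, inv_mul_cancel_right, map_mul,
      Module.End.mul_apply, hfx m hm]) hμt)
  -- the contradiction `2 = 1 / 2`
  have hc0 : c' ≠ 0 := fun h => hu0 (by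
    have h2 := congrArg (σ t⁻¹) hc'
    rwa [h, zero_smul, map_zero, ← Module.End.mul_apply, ← map_mul, inv_mul_cancel, map_one,
      Module.End.one_apply, eq_comm] at h2)
  have h2 : σ l⁻¹ u = (2 : ZMod p) • u := by
    rw [← e2, hs, map_mul, map_mul, Module.End.mul_apply, Module.End.mul_apply]
    have h3 : σ t⁻¹ u = c'⁻¹ • u := by
      have h5 := congrArg (σ t⁻¹) hc'
      rw [map_smul, ← Module.End.mul_apply, ← map_mul, inv_mul_cancel, map_one,
        Module.End.one_apply] at h5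
      conv_rhs => rw [← h5, smul_smul, inv_mul_cancel₀ hc0, one_smul]
    rw [h3, map_smul, hlu, map_smul, map_smul, ← hc', smul_smul, smul_smul,
      mul_comm c'⁻¹ _, mul_assoc, inv_mul_cancel₀ hc0, mul_one]
  have h3 := congrArg (σ l) h2
  rw [← Module.End.mul_apply, ← map_mul, mul_inv_cancel, map_one, Module.End.one_apply, map_smul,
    hlu, smul_smul] at h3
  have h4 : ((2 : ZMod p) * 2 - 1) • u = 0 := by rw [sub_smul, one_smul, ← h3, sub_self]
  refine hu0 ((smul_eq_zero.1 h4).resolve_left ?_)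
  rw [show (2 : ZMod p) * 2 - 1 = 3 by norm_num]
  exact three_ne_zero' h5

end Core

theorem sylow_normal_aux : ∀ (n : ℕ) {G : Type u} [Group G] [Finite G], Nat.card G = n →
    Group.IsSolvable G → IsRational G → ∀ {p : ℕ} [Fact p.Prime], 5 ≤ p → ∀ P : Sylow p G,
      (P : Subgroup G).Normal := by
  intro n
  induction n using Nat.strong_induction_on with
  | _ n ih =>
  intro G _ _ hn hs hG p hp h5 P
  by_cases hbot : (P : Subgroup G) = ⊥
  · rw [hbot]; infer_instance
  have hPnt : Nontrivial (P : Subgroup G) := (P : Subgroup G).nontrivial_iff_ne_bot.2 hbot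
  have : Nontrivial G := Function.Injective.nontrivial (Subgroup.subtype_injective (P : Subgroup G))
  obtain ⟨V, hVn, hVb, hVmin⟩ := CfsgLib.Solvable.exists_minimal_normal (G := G)
  obtain ⟨q, hq, hVq, hVexp, hVc⟩ :=
    CfsgLib.Solvable.exists_isPGroup_of_minimal_normal hVb hVmin
  have : Fact q.Prime := ⟨hq⟩
  have hV : ElemNormal q V :=
    ⟨hVn, fun a ha b hb => congrArg Subtype.val (mul_comm' (⟨a, ha⟩ : V) ⟨b, hb⟩), hVexp⟩
  -- a smaller quotient
  have hsmall : ∀ (K : Subgroup G) [K.Normal], K ≠ ⊥ → (P.1 ⊔ K).Normal := by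
    intro K _ hK
    have hlt : Nat.card (G ⧸ K) < n := by
      rw [← hn, ← Subgroup.index_eq_card, ← K.index_mul_card]
      exact lt_mul_of_one_lt_right (Nat.pos_of_ne_zero Subgroup.index_ne_zero_of_finite)
        (K.one_lt_card_iff_ne_bot.2 hK)
    have := hs
    have hnorm := ih _ hlt rfl inferInstance (hG.quotient K) h5
      (P.mapSurjective (QuotientGroup.mk'_surjective K))
    have h1 := hnorm.comap (QuotientGroup.mk' K)
    rwa [Sylow.coe_mapSurjective, Subgroup.comap_map_eq, QuotientGroup.ker_mk'] at h1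
  have hM := hsmall V hVb
  by_cases hqp : q = p
  · subst hqp
    obtain ⟨P', hP'⟩ := hVq.exists_le_sylow
    obtain ⟨g, rfl⟩ := MulAction.exists_smul_eq G P' P
    have hle : V ≤ ((g • P' : Sylow q G) : Subgroup G) := fun x hx => by
      rw [Sylow.coe_subgroup_smul, Subgroup.mem_pointwise_smul_iff_inv_smul_mem]
      exact hP' (by simpa [MulAut.smul_def] using hVn.conj_mem x hx g⁻¹)
    rwa [sup_eq_left.2 hle] at hM
  · have hN : Subgroup.normalizer ((P : Subgroup G) : Set G) ⊔ V = ⊤ := by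
      have hle : (P : Subgroup G) ≤ Subgroup.normalizer ((P : Subgroup G) : Set G) :=
        Subgroup.le_normalizer
      have h1 := Sylow.normalizer_sup_eq_top' P (N := P.1 ⊔ V) le_sup_left
      exact top_le_iff.1 (h1.ge.trans
        (sup_le le_sup_left (sup_le (hle.trans le_sup_left) le_sup_right)))
    set N := Subgroup.normalizer ((P : Subgroup G) : Set G) with hNdef
    have hVN : (V ⊓ N).Normal := by
      refine ⟨fun x hx g => ?_⟩
      have hxV : x ∈ V := (mem_inf.1 hx).1
      have hxN : x ∈ N := (mem_inf.1 hx).2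
      have hg : g ∈ N ⊔ V := hN ▸ mem_top g
      obtain ⟨a, ha, b, hb, rfl⟩ := mem_sup_of_normal_right.1 hg
      have e : b * x * b⁻¹ = x := by rw [hV.comm b hb x hxV, mul_inv_cancel_right]
      rw [show a * b * x * (a * b)⁻¹ = a * (b * x * b⁻¹) * a⁻¹ by group, e]
      exact mem_inf.2 ⟨hVn.conj_mem x hxV a, N.mul_mem (N.mul_mem ha hxN) (N.inv_mem ha)⟩
    rcases hVmin _ hVN inf_le_left with hinf | hinf
    swap
    · have : V ≤ N := hinf ▸ inf_le_right
      exact Subgroup.normalizer_eq_top_iff.1 (by rw [← hNdef]; rwa [sup_eq_left.2 this] at hN)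
    -- the complement
    let f : N →* G ⧸ V := (QuotientGroup.mk' V).comp N.subtype
    have hf : Function.Bijective f := by
      refine ⟨(injective_iff_map_eq_one f).2 fun x hx => ?_, fun y => ?_⟩
      · have hxV : (x : G) ∈ V ⊓ N := mem_inf.2 ⟨(QuotientGroup.eq_one_iff _).1 hx, x.2⟩
        rw [hinf, mem_bot] at hxV
        exact Subtype.ext hxV
      · obtain ⟨g, rfl⟩ := QuotientGroup.mk'_surjective V y
        have hg : g ∈ N ⊔ V := hN ▸ mem_top g
        obtain ⟨a, ha, b, hb, rfl⟩ := mem_sup_of_normal_right.1 hg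
        refine ⟨⟨a, ha⟩, ?_⟩
        rw [map_mul, show QuotientGroup.mk' V b = 1 from (QuotientGroup.eq_one_iff b).2 hb, mul_one]
        rfl
    have hNr : IsRational N :=
      (hG.quotient V).of_surjective (MulEquiv.ofBijective f hf).symm.toMonoidHom
        (MulEquiv.ofBijective f hf).symm.surjective
    set PN : Subgroup N := (P : Subgroup G).subgroupOf N with hPN
    have hPle : (P : Subgroup G) ≤ N := Subgroup.le_normalizer
    have : PN.Normal := Subgroup.normal_in_normalizer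
    have hPNp : IsPGroup p PN := P.2.comap_subtype
    have hPNi : PN.index.Coprime p := Nat.Coprime.coprime_dvd_left
      (Subgroup.relIndex_dvd_index_of_le hPle)
      ((hp.out.coprime_iff_not_dvd.2 P.not_dvd_index).symm)
    have hPNb : PN ≠ ⊥ := fun h => hbot (by
      rw [hPN, subgroupOf_eq_bot, disjoint_iff, inf_eq_left.2 hPle] at h; exact h)
    obtain ⟨A, hAn, hAb, hAP, hAmin⟩ := CfsgLib.Solvable.exists_minimal_normal_le
      (N := PN) inferInstance hPNb
    have hAm : IsMinNormal A := ⟨hAn, hAb, hAmin⟩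
    have hA : ElemNormal p A := hAm.elemNormal (hPNp.to_le hAP)
    let AG : Subgroup G := A.map N.subtype
    have hCn : (V ⊓ centralizer (AG : Set G)).Normal := by
      refine ⟨fun x hx g => ⟨hVn.conj_mem x hx.1 g, ?_⟩⟩
      have hg : g ∈ N ⊔ V := hN ▸ mem_top g
      obtain ⟨a, ha, b, hb, rfl⟩ := mem_sup_of_normal_right.1 hg
      have e : b * x * b⁻¹ = x := by rw [hV.comm b hb x hx.1, mul_inv_cancel_right]
      rw [show a * b * x * (a * b)⁻¹ = a * (b * x * b⁻¹) * a⁻¹ by group, e]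
      refine mem_centralizer_iff.2 ?_
      rintro _ ⟨c, hc, rfl⟩
      have h1 := mem_centralizer_iff.1 hx.2 _ ⟨_, hAn.conj_mem c hc (⟨a, ha⟩ : N)⁻¹, rfl⟩
      simp only [coe_subtype, coe_mul, InvMemClass.coe_inv, inv_inv] at h1 ⊢
      calc (c : G) * (a * x * a⁻¹) = a * ((a⁻¹ * c * a) * x) * a⁻¹ := by group
        _ = a * (x * (a⁻¹ * c * a)) * a⁻¹ := by rw [h1]
        _ = _ := by group
    rcases hVmin _ hCn inf_le_left with hC | hC
    · exfalso
      refine no_fixedPointFree hG h5 (Ne.symm hqp) hV hN hinf hNr A hAm hA PN hPNp hPNi hAP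
        (fun x hx hcomm => ?_) hVb
      refine (mem_bot.1 (hC.le (mem_inf.2 ⟨hx, mem_centralizer_iff.2 ?_⟩)) :)
      rintro _ ⟨c, hc, rfl⟩
      exact hcomm c hc
    · have hVC : V ≤ centralizer (AG : Set G) := hC ▸ inf_le_right
      have hAGn : AG.Normal := by
        refine ⟨fun x hx g => ?_⟩
        obtain ⟨c, hc, rfl⟩ := hx
        have hg : g ∈ N ⊔ V := hN ▸ mem_top g
        obtain ⟨a, ha, b, hb, rfl⟩ := mem_sup_of_normal_right.1 hg
        have e : b * (c : G) * b⁻¹ = c := by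
          have h2 : (c : G) * b = b * (c : G) := mem_centralizer_iff.1 (hVC hb) _ ⟨c, hc, rfl⟩
          rw [← h2, mul_inv_cancel_right]
        refine ⟨_, hAn.conj_mem c hc ⟨a, ha⟩, ?_⟩
        simp only [coe_subtype, coe_mul, InvMemClass.coe_inv]
        rw [show a * b * (c : G) * (a * b)⁻¹ = a * (b * c * b⁻¹) * a⁻¹ by group, e]
      have hAGb : AG ≠ ⊥ := fun h => hAb ((Subgroup.map_eq_bot_iff_of_injective _ N.subtype_injective).1 h)
      have hAGle : AG ≤ (P : Subgroup G) := by
        rintro _ ⟨c, hc, rfl⟩; exact hAP hc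
      have := hsmall AG hAGb
      rwa [sup_eq_left.2 hAGle] at this

/-- In a solvable rational group the Sylow subgroups for primes at least five are normal. -/
theorem IsRational.sylow_normal {G : Type u} [Group G] [Finite G] (hG : IsRational G)
    (hs : Group.IsSolvable G) {p : ℕ} [Fact p.Prime] (h5 : 5 ≤ p) (P : Sylow p G) :
    (P : Subgroup G).Normal :=
  sylow_normal_aux _ rfl hs hG h5 P

end CfsgLib.RationalGroup
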