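import Cfsg.Agent.Lib.RationalGroup.Bottom
import Cfsg.Agent.Lib.RationalGroup.SylowNormal

/-!
# The primes of a solvable group with distinct class sizes
-/

set_option autoImplicit false

namespace CfsgLib.RationalGroup

open Subgroup CfsgLib.PLength

universe u

variable {G : Type u} [Group G] [Finite G]

/-- A prime at least five dividing the order is five, and then `16` divides the order. -/
theorem IsDistinct.prime_five (hG : IsDistinct G) (hs : Group.IsSolvable G) {p : ℕ}
    [hp : Fact p.Prime] (h5 : 5 ≤ p) (hpG : p ∣ Nat.card G) : p = 5 ∧ 16 ∣ Nat.card G := by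
  classical
  have hR := hG.isRational
  obtain ⟨P⟩ := (inferInstance : Nonempty (Sylow p G))
  have hPn : (P : Subgroup G).Normal := hR.sylow_normal hs h5 P
  have hPb : (P : Subgroup G) ≠ ⊥ := P.ne_bot_of_dvd_card hpG
  obtain ⟨V, hVn, hVb, hVP, hVmin⟩ := CfsgLib.Solvable.exists_minimal_normal_le hPn hPb
  have hVm : IsMinNormal V := ⟨hVn, hVb, hVmin⟩
  have hV : ElemNormal p V := hVm.elemNormal (P.2.to_le hVP)
  have : Nontrivial V := V.nontrivial_iff_ne_bot.2 hVb
  have : Nontrivial hV.Space := hV.vec.symm.nontrivial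
  have : Finite hV.Space := Finite.of_equiv V hV.vec
  have hPi : (P : Subgroup G).index.Coprime p := (hp.out.coprime_iff_not_dvd.2 P.not_dvd_index).symm
  obtain ⟨B, hB⟩ := exists_isSymp_conjRep hV hR h5 hVm (P : Subgroup G) P.2 hPi hVP
  set K := centralizer (V : Set G) with hK
  have hker : K ≤ MonoidHom.ker hV.conjRep := fun g hg => by
    rw [MonoidHom.mem_ker]
    exact hV.conjRep_eq_one.2 fun a ha => (mem_centralizer_iff.1 hg a ha).symm
  let ρ : Representation (ZMod p) (G ⧸ K) hV.Space := QuotientGroup.lift K hV.conjRep hker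
  have hprimes : ∀ r : ℕ, r.Prime → r ∣ Nat.card (G ⧸ K) → r = 2 ∨ r = 3 := by
    intro r hr hrd
    by_contra hc
    have hr5 : 5 ≤ r := by
      have := hr.two_le
      have h4 : r ≠ 4 := fun e => absurd (e ▸ hr) (by norm_num)
      omega
    have : Fact r.Prime := ⟨hr⟩
    obtain ⟨Q⟩ := (inferInstance : Nonempty (Sylow r G))
    have hQn : (Q : Subgroup G).Normal := hR.sylow_normal hs hr5 Q
    have hQK : (Q : Subgroup G) ≤ K := by
      by_cases hrp : r = p
      · subst hrp
        exact hVm.centralized Q.2 (CfsgLib.Solvable.normal_pgroup_le_sylow (P.2.to_le hVP) Q)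
      · have hdis : Disjoint (Q : Subgroup G) V :=
          IsPGroup.disjoint_of_ne r p hrp _ _ Q.2 (P.2.to_le hVP)
        exact fun x hx => mem_centralizer_iff.2 fun a ha =>
          (commute_of_normal_of_disjoint _ _ hQn hVn hdis x a hx ha).symm.eq
    rw [← index_eq_card] at hrd
    exact Q.not_dvd_index (hrd.trans (index_dvd_of_le hQK))
  have hstab : ∀ (a : V) (g : G), (g : G ⧸ K) ∈ vecStab ρ (hV.vec a) ↔
      g ∈ centralizer ({(a : G)} : Set G) := by
    intro a g
    rw [mem_centralizer_singleton_iff]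
    show hV.conjRep g (hV.vec a) = hV.vec a ↔ _
    rw [hV.conjRep_vec, hV.vec.injective.eq_iff, Subtype.ext_iff]
    exact mul_inv_eq_iff_eq_mul
  have hL : IsRational (G ⧸ K) := hR.quotient K
  obtain ⟨h1, h2⟩ := bottom_module hL h5 hprimes ρ (B := B)
    ⟨hB.alt, hB.nondeg, fun g x y => by
      obtain ⟨g', rfl⟩ := QuotientGroup.mk_surjective g
      exact hB.inv g' x y⟩
    (fun k hk x => by
      obtain ⟨g, hg⟩ := scale_conjRep hV hR hk x
      exact ⟨(g : G ⧸ K), hg⟩)
    (fun x y _ _ he => by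
      obtain ⟨a, rfl⟩ := hV.vec.surjective x
      obtain ⟨b, rfl⟩ := hV.vec.surjective y
      have e : centralizer ({(a : G)} : Set G) = centralizer ({(b : G)} : Set G) := by
        ext g
        rw [← hstab, ← hstab, he]
      obtain ⟨g, hg⟩ := isConj_iff.1 (hG (a : G) (b : G) (by rw [e]))
      refine ⟨(g : G ⧸ K), ?_⟩
      show hV.conjRep g (hV.vec a) = hV.vec b
      rw [hV.conjRep_vec]
      exact congrArg hV.vec (Subtype.ext hg))
  exact ⟨h1, h2.trans K.card_quotient_dvd_card⟩

/-- The order has no prime divisor beyond five. -/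
theorem IsDistinct.prime_mem (hG : IsDistinct G) (hs : Group.IsSolvable G) {p : ℕ} (hp : p.Prime)
    (hpG : p ∣ Nat.card G) : p = 2 ∨ p = 3 ∨ p = 5 := by
  by_cases h : p = 2 ∨ p = 3
  · exact h.elim Or.inl fun e => Or.inr (Or.inl e)
  · have : Fact p.Prime := ⟨hp⟩
    refine Or.inr (Or.inr (hG.prime_five hs ?_ hpG).1)
    have := hp.two_le
    have h4 : p ≠ 4 := fun e => absurd (e ▸ hp) (by norm_num)
    omega

end CfsgLib.RationalGroup
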