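import Cfsg.Agent.Lib.RationalGroup.Global
import Cfsg.Agent.Lib.RationalGroup.ClassTwo
import Cfsg.Agent.Lib.Coprime.Action

/-!
# Centralisers inside the normal Sylow five-subgroup
-/

set_option autoImplicit false

namespace CfsgLib.RationalGroup

open Subgroup CfsgLib.PLength CfsgLib.CoprimeHeight
open scoped commutatorElement

universe u

variable {G : Type u} [Group G] [Finite G]

/-- Powers with exponent prime to the order of `h` separate commuting factors. -/
theorem conj_factors {g h u v : G} {n : ℕ} (hn : n.Coprime (orderOf h)) (hu : u ^ n = 1)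
    (hv : v ^ n = 1) (hcu : Commute h u) (hcv : Commute h v)
    (hg : g * (h * u) * g⁻¹ = h * v) : g * h * g⁻¹ = h ∧ g * u * g⁻¹ = v := by
  have h1 : g * h ^ n * g⁻¹ = h ^ n := by
    have e := congrArg (· ^ n) hg
    simp only [conj_pow, hcu.mul_pow, hcv.mul_pow, hu, hv, mul_one] at e
    exact e
  obtain ⟨m, hm⟩ := exists_pow_eq_self_of_coprime hn
  have h2 : g * h * g⁻¹ = h := by
    conv_lhs => rw [← hm]
    rw [← conj_pow, h1, hm]
  refine ⟨h2, ?_⟩
  rw [show g * (h * u) * g⁻¹ = (g * h * g⁻¹) * (g * u * g⁻¹) by group, h2] at hg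
  exact mul_left_cancel hg

/-- A maximal normal subgroup of `P` not containing `Q`. -/
theorem exists_max_not_le {P Q : Subgroup G} (hQ : Q ≠ ⊥) :
    ∃ M : Subgroup G, M.Normal ∧ M ≤ P ∧ ¬ Q ≤ M ∧
      ∀ N : Subgroup G, N.Normal → N ≤ P → M < N → Q ≤ N := by
  classical
  obtain ⟨M, hM⟩ := Set.Finite.exists_maximal
    (Set.toFinite {N : Subgroup G | N.Normal ∧ N ≤ P ∧ ¬ Q ≤ N})
    ⟨⊥, inferInstance, bot_le, fun h => hQ (le_bot_iff.1 h)⟩
  obtain ⟨⟨h1, h2, h3⟩, hmax⟩ := hM
  exact ⟨M, h1, h2, h3, fun N hN hNP hlt => by_contra fun hQN =>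
    hlt.not_ge (hmax ⟨hN, hNP, hQN⟩ hlt.le)⟩

theorem centralizer_mul_eq {h u : G} {n : ℕ} (hn : n.Coprime (orderOf h)) (hu : u ^ n = 1)
    (hcu : Commute h u) {g : G} :
    g ∈ centralizer ({h * u} : Set G) ↔ g * h = h * g ∧ g * u = u * g := by
  rw [mem_centralizer_singleton_iff]
  constructor
  · intro e
    obtain ⟨e1, e2⟩ := conj_factors hn hu hu hcu hcu (mul_inv_eq_iff_eq_mul.2 e)
    exact ⟨mul_inv_eq_iff_eq_mul.1 e1, mul_inv_eq_iff_eq_mul.1 e2⟩
  · rintro ⟨e1, e2⟩
    exact (Commute.mul_right (show Commute g h from e1) (show Commute g u from e2)).eq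

variable [hp : Fact (Nat.Prime 5)]

/-- For an element `h` of order prime to five, centralisers inside `C_P(h)` have order at least
`25`, and order `25` occurs only when `3` divides the order of `h`. -/
theorem IsDistinct.local_five (hG : IsDistinct G) (hs : Group.IsSolvable G)
    (P : Sylow 5 G) {h : G} (hh : (orderOf h).Coprime 5)
    (hQ : (P : Subgroup G) ⊓ centralizer ({h} : Set G) ≠ ⊥) {u : G}
    (hu : u ∈ (P : Subgroup G) ⊓ centralizer ({h} : Set G)) :
    25 ≤ Nat.card ↥((P : Subgroup G) ⊓ centralizer ({h} : Set G) ⊓ centralizer ({u} : Set G)) ∧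
      (Nat.card ↥((P : Subgroup G) ⊓ centralizer ({h} : Set G) ⊓ centralizer ({u} : Set G)) = 25 →
        3 ∣ orderOf h) := by
  classical
  have hR := hG.isRational
  have hPn : (P : Subgroup G).Normal := hR.sylow_normal hs le_rfl P
  set Q := (P : Subgroup G) ⊓ centralizer ({h} : Set G) with hQdef
  have hQh : ∀ x ∈ Q, Commute h x := fun x hx => (mem_centralizer_singleton_iff.1 hx.2).symm
  obtain ⟨M, hMn, hMP, hQM, hMmax⟩ := exists_max_not_le (P := (P : Subgroup G)) hQ
  set f := QuotientGroup.mk' M with hf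
  have hfs : Function.Surjective f := QuotientGroup.mk'_surjective M
  set Pb := (P : Subgroup G).map f with hPb
  have hPbn : Pb.Normal := hPn.map f hfs
  have hPbb : Pb ≠ ⊥ := fun e => by
    rw [hPb, Subgroup.map_eq_bot_iff, hf, QuotientGroup.ker_mk'] at e
    exact hQM (inf_le_left.trans e)
  have hsX : Group.IsSolvable (G ⧸ M) := inferInstance
  obtain ⟨V, hVn, hVb, hVP, hVmin⟩ := CfsgLib.Solvable.exists_minimal_normal_le hPbn hPbb
  have hVm : IsMinNormal V := ⟨hVn, hVb, hVmin⟩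
  let Pbs : Sylow 5 (G ⧸ M) := P.mapSurjective hfs
  have hV : ElemNormal 5 V := hVm.elemNormal (Pbs.2.to_le hVP)
  have hPbi : Pb.index.Coprime 5 := (hp.out.coprime_iff_not_dvd.2 Pbs.not_dvd_index).symm
  have := hPbn
  obtain ⟨B, hB⟩ := exists_isSymp_conjRep hV (hR.quotient M) le_rfl hVm Pb Pbs.2 hPbi hVP
  set W₀ := V.comap f with hW₀
  have hW₀P : W₀ ≤ (P : Subgroup G) := by
    intro x hx
    have h1 : f x ∈ Pb := hVP hx
    obtain ⟨y, hy, e⟩ := h1
    have h2 : y⁻¹ * x ∈ M := QuotientGroup.eq.1 e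
    have h3 := mul_mem hy (hMP h2)
    rwa [mul_inv_cancel_left] at h3
  have hMW : M < W₀ := by
    have hle : M ≤ W₀ := fun x hx => by
      rw [hW₀, mem_comap, hf, QuotientGroup.mk'_apply, (QuotientGroup.eq_one_iff x).2 hx]
      exact one_mem V
    refine hle.lt_of_ne fun e => hVb ?_
    rw [← map_comap_eq_self_of_surjective hfs V, ← hW₀, ← e, Subgroup.map_eq_bot_iff, hf,
      QuotientGroup.ker_mk']
  have hQW : Q ≤ W₀ := hMmax W₀ (hVn.comap f) hW₀P hMW
  -- the fixed space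
  set ρ := hV.conjRep with hρ
  set A := zpowers (f h) with hA
  set D := fixSub ρ A with hD
  have hAc : (Nat.card A : ZMod 5) ≠ 0 := fun e => by
    rw [ZMod.natCast_eq_zero_iff, hA, Nat.card_zpowers] at e
    have := hh.symm
    rw [hp.out.coprime_iff_not_dvd] at this
    exact this (e.trans (orderOf_map_dvd f h))
  have hφmem : ∀ x : Q, hV.vec ⟨f x, hQW x.2⟩ ∈ D := by
    intro x a ha
    rw [hρ, hV.conjRep_vec]
    refine congrArg hV.vec (Subtype.ext (mul_inv_eq_iff_eq_mul.2 ?_))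
    obtain ⟨k, rfl⟩ := mem_zpowers_iff.1 ha
    exact (((hQh x x.2).map f).zpow_left k).eq
  let φ : Q → D := fun x => ⟨hV.vec ⟨f x, hQW x.2⟩, hφmem x⟩
  have φmul : ∀ x y, φ (x * y) = φ x + φ y := fun x y => Subtype.ext (by
    show hV.vec _ = hV.vec _ + hV.vec _
    rw [← hV.vec_mul]
    exact congrArg hV.vec (Subtype.ext (map_mul f (x : G) y)))
  let Φ : Q →* Multiplicative D :=
    MonoidHom.mk' (fun x => Multiplicative.ofAdd (φ x)) fun x y => by rw [φmul]; rfl
  have hΦs : Function.Surjective Φ := by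
    intro d
    obtain ⟨a, ha⟩ := hV.vec.surjective (Multiplicative.toAdd d : D).1
    have hsol : Group.IsSolvable (zpowers h) ∨ Group.IsSolvable W₀ := Or.inl inferInstance
    have hnorm : zpowers h ≤ normalizer (W₀ : Set G) := by
      rw [normalizer_eq_top_iff.2 (hVn.comap f)]; exact le_top
    have hcop : (Nat.card (zpowers h)).Coprime (Nat.card W₀) := by
      rw [Nat.card_zpowers]
      obtain ⟨k, hk⟩ := IsPGroup.iff_card.1 (P.2.to_le hW₀P)
      rw [hk]
      exact hh.pow_right k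
    have hmap := CfsgLib.Coprime.map_inf_centralizer f hnorm hcop hsol
    have hmem : (a : G ⧸ M) ∈ W₀.map f ⊓ centralizer ((zpowers h).map f : Set (G ⧸ M)) := by
      refine ⟨by rw [hW₀, map_comap_eq_self_of_surjective hfs]; exact a.2, mem_centralizer_iff.2 ?_⟩
      intro b hb
      rw [MonoidHom.map_zpowers] at hb
      have h1 := (Multiplicative.toAdd d : D).2 b hb
      rw [← ha, hρ, hV.conjRep_vec] at h1
      exact mul_inv_eq_iff_eq_mul.1 (congrArg Subtype.val (hV.vec.injective h1))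
    rw [← hmap] at hmem
    obtain ⟨x, ⟨hx1, hx2⟩, hxa⟩ := hmem
    have hxQ : x ∈ Q := ⟨hW₀P hx1, mem_centralizer_singleton_iff.2
      (mem_centralizer_iff.1 hx2 h (mem_zpowers h)).symm⟩
    refine ⟨⟨x, hxQ⟩, Multiplicative.toAdd.injective (Subtype.ext ?_)⟩
    show hV.vec _ = _
    rw [← ha]
    exact congrArg hV.vec (Subtype.ext hxa)
  have hφs : ∀ d : D, ∃ x, φ x = d := fun d => by
    obtain ⟨x, hx⟩ := hΦs (Multiplicative.ofAdd d)
    exact ⟨x, congrArg Multiplicative.toAdd hx⟩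
  let C : LinearMap.BilinForm (ZMod 5) D := B.restrict D
  have halt : ∀ x, C x x = 0 := fun x => hB.alt x.1
  have hnd : ∀ x, x ≠ 0 → ∃ y, C x y ≠ 0 := fun x hx => by
    obtain ⟨y, hy, hne⟩ := hB.fix_nondeg hAc x.2 (fun e => hx (Subtype.ext e))
    exact ⟨⟨y, hy⟩, hne⟩
  have hDnt : Nontrivial D := by
    obtain ⟨x, hxQ, hxM⟩ := SetLike.not_le_iff_exists.1 hQM
    refine ⟨⟨φ ⟨x, hxQ⟩, 0, fun e => hxM ?_⟩⟩
    have e1 : hV.vec ⟨f x, hQW hxQ⟩ = 0 := congrArg Subtype.val e
    rw [hV.vec_eq_zero] at e1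
    exact (QuotientGroup.eq_one_iff x).1 (congrArg Subtype.val e1)
  have hfr : 2 ≤ Module.finrank (ZMod 5) D := by
    obtain ⟨m, hm⟩ := even_finrank_of_alt le_rfl halt hnd
    have := Module.finrank_pos (R := ZMod 5) (M := D)
    omega
  have hkerD : Φ.ker.index = 5 ^ Module.finrank (ZMod 5) D := by
    rw [index_ker, MonoidHom.range_eq_top.2 hΦs, card_top, Nat.card_congr Multiplicative.toAdd,
      Module.natCard_eq_pow_finrank (K := ZMod 5), Nat.card_zmod]
  have hcomK : commutator Q ≤ Φ.ker := Abelianization.commutator_subset_ker Φ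
  have hQidx : ∀ v : Q, (commutator Q).index ≤ Nat.card (centralizer ({v} : Set Q)) := by
    intro v
    have hle : Nat.card (ConjClasses.mk v).carrier ≤ Nat.card (commutator Q) := by
      refine Nat.card_le_card_of_injective (fun x => (⟨(x : Q) * v⁻¹, ?_⟩ : commutator Q))
        fun x y e => Subtype.ext (mul_right_cancel (congrArg Subtype.val e))
      have hx := x.2
      rw [ConjClasses.mem_carrier_iff_mk_eq, ConjClasses.mk_eq_mk_iff_isConj] at hx
      obtain ⟨c, hc⟩ := isConj_iff.1 hx.symm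
      rw [← hc, ← commutatorElement_def, _root_.commutator_def]
      exact commutator_mem_commutator (mem_top c) (mem_top v)
    have h1 := card_carrier_mul v
    have h2 := (commutator Q).card_mul_index
    rw [← h1] at h2
    refine Nat.le_of_mul_le_mul_left ?_ (Nat.card_pos (α := commutator Q))
    rw [h2]
    exact Nat.mul_le_mul_right _ hle
  have hidx : 5 ^ Module.finrank (ZMod 5) D ≤ (commutator Q).index :=
    hkerD ▸ Nat.le_of_dvd (Nat.pos_of_ne_zero index_ne_zero_of_finite) (index_dvd_of_le hcomK)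
  have hcardC : Nat.card ↥(Q ⊓ centralizer ({u} : Set G))
      = Nat.card (centralizer ({(⟨u, hu⟩ : Q)} : Set Q)) := by
    refine Nat.card_congr ⟨fun a => ⟨⟨a.1, a.2.1⟩, ?_⟩, fun a => ⟨a.1.1, a.1.2, ?_⟩,
      fun a => rfl, fun a => rfl⟩
    · exact mem_centralizer_singleton_iff.2 (Subtype.ext (mem_centralizer_singleton_iff.1 a.2.2))
    · exact mem_centralizer_singleton_iff.2 (congrArg Subtype.val (mem_centralizer_singleton_iff.1 a.2))
  refine ⟨?_, fun h25 => ?_⟩
  · rw [hcardC]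
    refine le_trans ?_ (hidx.trans (hQidx _))
    exact le_trans (by norm_num) (Nat.pow_le_pow_right (by norm_num) hfr)
  have hdim : Module.finrank (ZMod 5) D = 2 := by
    have h1 := hidx.trans (hQidx ⟨u, hu⟩)
    rw [← hcardC, h25, show 25 = 5 ^ 2 by norm_num] at h1
    exact le_antisymm ((Nat.pow_le_pow_iff_right (by norm_num : 1 < 5)).1 h1) hfr
  have hKeq : commutator Q = Φ.ker := by
    refine eq_of_le_of_card_ge hcomK ?_
    have h1 := hQidx ⟨u, hu⟩
    rw [← hcardC, h25] at h1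
    have h2 : Φ.ker.index = 25 := by rw [hkerD, hdim]; norm_num
    have h3 := (commutator Q).card_mul_index
    rw [← Φ.ker.card_mul_index, h2] at h3
    have h4 : Nat.card (commutator Q) * (commutator Q).index ≤ Nat.card (commutator Q) * 25 :=
      Nat.mul_le_mul_left _ h1
    omega
  -- the plane
  have hQ5 : IsPGroup 5 Q := P.2.to_le inf_le_left
  have hfix : ∀ (g : centralizer ({h} : Set G)), ∀ x ∈ D, ρ (f g) x ∈ D := by
    intro g x hx
    refine map_mem_fixSub ρ (mem_normalizer_iff.2 fun a => ?_) hx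
    have hgh : Commute (f g) (f h) :=
      (show Commute (g : G) h from mem_centralizer_singleton_iff.1 g.2).map f
    constructor
    · intro ha
      obtain ⟨k, rfl⟩ := mem_zpowers_iff.1 ha
      rwa [(hgh.zpow_right k).eq, mul_inv_cancel_right]
    · intro ha
      obtain ⟨k, hk⟩ := mem_zpowers_iff.1 ha
      refine mem_zpowers_iff.2 ⟨k, ?_⟩
      have h1 := (hgh.zpow_right k).eq
      rw [hk] at h1 ⊢
      calc f g * a * (f g)⁻¹ = (f g)⁻¹ * (f g * (f g * a * (f g)⁻¹)) := by group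
        _ = (f g)⁻¹ * ((f g * a * (f g)⁻¹) * f g) := by rw [h1]
        _ = a := by group
  let η : Representation (ZMod 5) (centralizer ({h} : Set G)) D :=
    { toFun := fun g => (ρ (f g)).restrict (hfix g)
      map_one' := LinearMap.ext fun x => Subtype.ext (by simp)
      map_mul' := fun g g' => LinearMap.ext fun x => Subtype.ext (by simp) }
  have hinv : ∀ g x y, C (η g x) (η g y) = C x y := fun g x y => hB.inv _ _ _
  have hQg : ∀ (g : centralizer ({h} : Set G)) (x : Q), (g : G) * x * (g : G)⁻¹ ∈ Q := by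
    intro g x
    refine ⟨hPn.conj_mem _ x.2.1 _, mem_centralizer_singleton_iff.2 ?_⟩
    have e1 : Commute (g : G) h := mem_centralizer_singleton_iff.1 g.2
    have e2 : Commute (x : G) h := (hQh x x.2).symm
    exact ((e1.mul_left e2).mul_left e1.inv_left).eq
  have hφconj : ∀ g x, φ ⟨_, hQg g x⟩ = η g (φ x) := by
    intro g x
    refine Subtype.ext ?_
    show hV.vec _ = hV.conjRep (f g) (hV.vec _)
    rw [hV.conjRep_vec]
    exact congrArg hV.vec (Subtype.ext (by simp))
  have φpow : ∀ (x : Q) (n : ℕ), φ (x ^ n) = n • φ x := fun x n =>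
    congrArg Multiplicative.toAdd (map_pow Φ x n)
  let e := Module.finBasisOfFinrankEq (ZMod 5) D hdim
  obtain ⟨q₀, hq₀⟩ := hφs (e 0)
  obtain ⟨q₁, hq₁⟩ := hφs (e 1)
  have hgen : ∀ x : Q, ∃ (i j : ℕ) (z : Q), z ∈ commutator Q ∧ x = q₀ ^ i * q₁ ^ j * z ∧
      φ x = (i : ZMod 5) • e 0 + (j : ZMod 5) • e 1 := by
    intro x
    refine ⟨(e.repr (φ x) 0).val, (e.repr (φ x) 1).val,
      (q₀ ^ (e.repr (φ x) 0).val * q₁ ^ (e.repr (φ x) 1).val)⁻¹ * x, ?_, by group, ?_⟩
    · rw [hKeq, MonoidHom.mem_ker, map_mul, map_inv, inv_mul_eq_one]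
      refine Multiplicative.toAdd.injective ?_
      show φ _ = φ x
      rw [φmul, φpow, φpow, hq₀, hq₁, ← Nat.cast_smul_eq_nsmul (ZMod 5),
        ← Nat.cast_smul_eq_nsmul (ZMod 5), ZMod.natCast_zmod_val, ZMod.natCast_zmod_val]
      conv_rhs => rw [← e.sum_repr (φ x), Fin.sum_univ_two]
    · rw [ZMod.natCast_zmod_val, ZMod.natCast_zmod_val]
      conv_lhs => rw [← e.sum_repr (φ x), Fin.sum_univ_two]
  -- commutativity
  have hab : commutator Q = ⊥ := by
    refine eq_bot_of_eq_commutator hQ5.isNilpotent ?_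
    set γ := ⁅commutator Q, (⊤ : Subgroup Q)⁆ with hγ
    set π := QuotientGroup.mk' γ with hπ
    have hzc : ∀ x ∈ commutator Q, ∀ y : Q ⧸ γ, Commute (π x) y := by
      intro x hx y
      obtain ⟨y, rfl⟩ := QuotientGroup.mk'_surjective γ y
      rw [← commutatorElement_eq_one_iff_commute, ← map_commutatorElement]
      exact (QuotientGroup.eq_one_iff _).2 (commutator_mem_commutator hx (mem_top y))
    have hc : ∀ a b c : Q ⧸ γ, Commute ⁅a, b⁆ c := by
      intro a b c
      obtain ⟨a, rfl⟩ := QuotientGroup.mk'_surjective γ a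
      obtain ⟨b, rfl⟩ := QuotientGroup.mk'_surjective γ b
      rw [← map_commutatorElement]
      refine hzc _ ?_ c
      rw [_root_.commutator_def]
      exact commutator_mem_commutator (mem_top a) (mem_top b)
    set c₀ := π ⁅q₀, q₁⁆ with hc₀
    have hcomm : ∀ x y : Q, ∀ i j k l : ℕ, ∀ z w : Q, z ∈ commutator Q → w ∈ commutator Q →
        x = q₀ ^ i * q₁ ^ j * z → y = q₀ ^ k * q₁ ^ l * w →
        π ⁅x, y⁆ = c₀ ^ (i * l) * (c₀ ^ (j * k))⁻¹ := by
      intro x y i j k l z w hz hw hx hy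
      rw [hx, hy, hc₀, map_commutatorElement, map_commutatorElement]
      simp only [map_mul, map_pow]
      exact comm_pow_mul hc _ _ _ _ (hzc z hz) (hzc w hw) i j k l
    suffices hc1 : c₀ = 1 by
      rw [_root_.commutator_def, commutator_le]
      intro x _ y _
      obtain ⟨i, j, z, hz, hx, -⟩ := hgen x
      obtain ⟨k, l, w, hw, hy, -⟩ := hgen y
      have := hcomm x y i j k l z w hz hw hx hy
      rw [hc1, one_pow, one_pow, inv_one, mul_one] at this
      exact (QuotientGroup.eq_one_iff _).1 this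
    have hc5 : c₀ ^ 5 = 1 := by
      have h0 : q₀ ^ 5 ∈ commutator Q := by
        rw [hKeq, MonoidHom.mem_ker]
        refine Multiplicative.toAdd.injective ?_
        show φ (q₀ ^ 5) = 0
        rw [φpow, ← Nat.cast_smul_eq_nsmul (ZMod 5), ZMod.natCast_self, zero_smul]
      rw [hc₀, map_commutatorElement, ← comm_pow_left hc, ← map_pow,
        commutatorElement_eq_one_iff_commute]
      exact hzc _ h0 _
    set cG : G := ((⁅q₀, q₁⁆ : Q) : G) with hcG
    have hcQ : cG ∈ Q := (⁅q₀, q₁⁆ : Q).2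
    obtain ⟨n, hn⟩ := IsPGroup.iff_card.1 hQ5
    have hco5 : orderOf cG ∣ 5 ^ n := hn ▸ Subgroup.orderOf_dvd_natCard Q hcQ
    obtain ⟨g, hgh, hgc⟩ := hR.exists_conj_pair (hQh _ hcQ)
      ((hh.pow_right n).coprime_dvd_right hco5) (j := 1) (k := 2) (Nat.coprime_one_left _)
      ((Nat.Coprime.pow_right n (by norm_num : Nat.Coprime 2 5)).coprime_dvd_right hco5)
    rw [pow_one] at hgh
    have hgC : g ∈ centralizer ({h} : Set G) :=
      mem_centralizer_singleton_iff.2 (mul_inv_eq_iff_eq_mul.1 hgh)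
    set g' : centralizer ({h} : Set G) := ⟨g, hgC⟩
    obtain ⟨i, j, z, hz, hx, hφx⟩ := hgen ⟨_, hQg g' q₀⟩
    obtain ⟨k, l, w, hw, hy, hφy⟩ := hgen ⟨_, hQg g' q₁⟩
    have h2 : c₀ ^ 2 = c₀ ^ (i * l) * (c₀ ^ (j * k))⁻¹ := by
      rw [← hcomm _ _ i j k l z w hz hw hx hy, hc₀, ← map_pow]
      congr 1
      refine Subtype.ext ?_
      show ((⁅q₀, q₁⁆ : Q) : G) ^ 2 = ⁅g * (q₀ : G) * g⁻¹, g * (q₁ : G) * g⁻¹⁆
      rw [← hcG, ← hgc, ← conjugate_commutatorElement]
      rfl
    have hdet : ((i * l : ℕ) : ZMod 5) = ((1 + j * k : ℕ) : ZMod 5) := by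
      have h1 := hinv g' (φ q₀) (φ q₁)
      rw [← hφconj, ← hφconj, hφx, hφy, hq₀, hq₁] at h1
      have hswap : C (e 1) (e 0) = -C (e 0) (e 1) := by
        have h3 := halt (e 0 + e 1)
        simp only [map_add, LinearMap.add_apply, halt, zero_add, add_zero] at h3
        exact eq_neg_of_add_eq_zero_left h3
      simp only [map_add, map_smul, LinearMap.add_apply, LinearMap.smul_apply, smul_eq_mul, halt,
        hswap] at h1
      have hne : C (e 0) (e 1) ≠ 0 := fun h3 => by
        obtain ⟨y, hy0⟩ := hnd (e 0) (e.ne_zero 0)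
        refine hy0 ?_
        rw [← e.sum_repr y, Fin.sum_univ_two, map_add, map_smul, map_smul, halt, h3, smul_zero,
          smul_zero, add_zero]
      push_cast
      refine mul_right_cancel₀ hne ?_
      linear_combination h1
    have h3 : c₀ ^ (i * l) = c₀ ^ (1 + j * k) := by
      have hdvd : orderOf c₀ ∣ 5 := orderOf_dvd_of_pow_eq_one hc5
      exact pow_eq_pow_iff_modEq.2 (((ZMod.natCast_eq_natCast_iff _ _ _).1 hdet).of_dvd hdvd)
    rw [h3, pow_add, pow_one, mul_inv_cancel_right, pow_two] at h2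
    exact mul_eq_left.1 h2
  have hφinj : ∀ x y : Q, φ x = φ y → x = y := by
    intro x y exy
    have h1 : x * y⁻¹ ∈ Φ.ker := by
      rw [MonoidHom.mem_ker, map_mul, map_inv, mul_inv_eq_one]
      exact congrArg Multiplicative.ofAdd exy
    rw [← hKeq, hab, mem_bot, mul_inv_eq_one] at h1
    exact h1
  have hQcomm : ∀ x y : Q, x * y = y * x := fun x y => hφinj _ _ (by rw [φmul, φmul, add_comm])
  -- the centraliser acts as a plane group
  have hC0 : C ≠ 0 := fun e0 => by
    obtain ⟨y, hy0⟩ := hnd (e 0) (e.ne_zero 0)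
    exact hy0 (by rw [e0]; rfl)
  have hPidx : ((P : Subgroup G).index : ZMod 5) ≠ 0 := fun e0 =>
    P.not_dvd_index ((ZMod.natCast_eq_zero_iff _ _).1 e0)
  have hdet1 : ∀ g, LinearMap.det (η g) = 1 := fun g => plane_det hdim halt hC0 _ (hinv g)
  have hcopη : ∀ g, ∃ m : ℕ, (m : ZMod 5) ≠ 0 ∧ η g ^ m = 1 := by
    intro g
    refine ⟨(P : Subgroup G).index, hPidx, ?_⟩
    have := hPn
    have hgQ : ((g ^ (P : Subgroup G).index : centralizer ({h} : Set G)) : G) ∈ Q :=
      ⟨by rw [SubgroupClass.coe_pow]; exact pow_index_mem _ (g : G),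
        (g ^ (P : Subgroup G).index).2⟩
    rw [← map_pow]
    refine LinearMap.ext fun d => ?_
    obtain ⟨x, rfl⟩ := hφs d
    rw [← hφconj, Module.End.one_apply]
    refine congrArg φ (Subtype.ext (mul_inv_eq_iff_eq_mul.2 ?_))
    exact congrArg Subtype.val (hQcomm ⟨_, hgQ⟩ x)
  have hsemi : ∀ (g : centralizer ({h} : Set G)) (x : Q), φ x ≠ 0 → (g : G) * x * (g : G)⁻¹ = x →
      ∀ y : Q, (g : G) * y * (g : G)⁻¹ = y := by
    intro g x hx hgx y
    have h1 : η g (φ x) = φ x := by rw [← hφconj]; exact congrArg φ (Subtype.ext hgx)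
    obtain ⟨m, hm, hgm⟩ := hcopη g
    have h2 := plane_semiregular hdim _ (hdet1 g) hm hgm hx h1
    exact congrArg Subtype.val (hφinj ⟨_, hQg g y⟩ y (by rw [hφconj, h2, Module.End.one_apply]))
  obtain ⟨n, hn⟩ := IsPGroup.iff_card.1 hQ5
  have hnh : (5 ^ n).Coprime (orderOf h) := (hh.pow_right n).symm
  have hpow : ∀ x : Q, (x : G) ^ 5 ^ n = 1 := fun x => by
    rw [← SubgroupClass.coe_pow, ← hn, pow_card_eq_one']; rfl
  have htrans : ∀ x y : D, x ≠ 0 → y ≠ 0 → ∃ g, η g x = y := by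
    intro x y hx hy
    obtain ⟨a, rfl⟩ := hφs x
    obtain ⟨b, rfl⟩ := hφs y
    have e1 : centralizer ({h * (a : G)} : Set G) = centralizer ({h * (b : G)} : Set G) := by
      ext g
      rw [centralizer_mul_eq hnh (hpow a) (hQh a a.2), centralizer_mul_eq hnh (hpow b) (hQh b b.2)]
      constructor
      · rintro ⟨g1, g2⟩
        exact ⟨g1, mul_inv_eq_iff_eq_mul.1 (hsemi ⟨g, mem_centralizer_singleton_iff.2 g1⟩ a hx
          (mul_inv_eq_iff_eq_mul.2 g2) b)⟩
      · rintro ⟨g1, g2⟩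
        exact ⟨g1, mul_inv_eq_iff_eq_mul.1 (hsemi ⟨g, mem_centralizer_singleton_iff.2 g1⟩ b hy
          (mul_inv_eq_iff_eq_mul.2 g2) a)⟩
    obtain ⟨g, hg⟩ := isConj_iff.1 (hG (h * a) (h * b) (by rw [e1]))
    obtain ⟨g1, g2⟩ := conj_factors hnh (hpow a) (hpow b) (hQh a a.2) (hQh b b.2) hg
    refine ⟨⟨g, mem_centralizer_singleton_iff.2 (mul_inv_eq_iff_eq_mul.1 g1)⟩, ?_⟩
    rw [← hφconj]
    exact congrArg φ (Subtype.ext g2)
  have hPG : IsPlaneGroup η := ⟨hdim, hdet1, hcopη, htrans⟩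
  by_contra h3
  -- an element of order three in the image
  have h24 : Nat.card (planeImage η) = 24 := hPG.card_image.trans (by norm_num)
  have : Fact (Nat.Prime 3) := ⟨Nat.prime_three⟩
  obtain ⟨r, hr⟩ := exists_prime_orderOf_dvd_card' (G := planeImage η) 3 (by rw [h24]; norm_num)
  obtain ⟨g, hg⟩ := r.2
  obtain ⟨k, m, hm3, hkm⟩ := Nat.exists_eq_pow_mul_and_not_dvd (orderOf_pos g).ne' 3 (by norm_num)
  set x := g ^ m with hx
  have hxo : orderOf (x : G) ∣ 3 ^ k := by
    refine orderOf_dvd_of_pow_eq_one ?_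
    have h1 : x ^ 3 ^ k = 1 := by rw [hx, ← pow_mul, mul_comm, ← hkm, pow_orderOf_eq_one]
    simpa using congrArg Subtype.val h1
  have hxh : Commute (x : G) h := mem_centralizer_singleton_iff.1 x.2
  have hcox : (orderOf (x : G)).Coprime (orderOf h) :=
    ((Nat.prime_three.coprime_iff_not_dvd.2 h3).pow_left k).coprime_dvd_left hxo
  obtain ⟨c, hcx, hch⟩ := hR.exists_conj_pair hxh hcox (j := orderOf (x : G) - 1) (k := 1)
    (by
      obtain ⟨o, ho⟩ := Nat.exists_eq_add_of_le (orderOf_pos (x : G))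
      rw [show orderOf (x : G) - 1 = o by omega, show orderOf (x : G) = o + 1 by omega]
      simp)
    (Nat.coprime_one_left _)
  rw [pow_one] at hch
  have hinvx : (x : G) ^ (orderOf (x : G) - 1) = (x : G)⁻¹ := eq_inv_of_mul_eq_one_left (by
    rw [← pow_succ, Nat.sub_add_cancel (orderOf_pos (x : G)), pow_orderOf_eq_one])
  rw [hinvx] at hcx
  set c' : centralizer ({h} : Set G) :=
    ⟨c, mem_centralizer_singleton_iff.2 (mul_inv_eq_iff_eq_mul.1 hch)⟩
  set F := (MonoidHom.toHomUnits η).rangeRestrict with hF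
  have hFg : F g = r := Subtype.ext hg
  have hcop3 : Nat.Coprime m 3 := (Nat.prime_three.coprime_iff_not_dvd.2 hm3).symm
  refine hPG.no_real_three (r := F x) (c := F c') ?_ ?_
  · rw [hx, map_pow, hFg, Nat.Coprime.orderOf_pow (by rw [hr]; exact hcop3.symm), hr]
  · rw [← map_inv, ← map_mul, ← map_mul, ← map_inv]
    exact congrArg F (Subtype.ext hcx)

end CfsgLib.RationalGroup
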