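import Cfsg.Agent.Lib.RationalGroup.Symplectic

/-!
# Traces on fixed spaces and groups acting regularly on a plane
-/

set_option autoImplicit false

namespace CfsgLib.RationalGroup

open Subgroup CfsgLib.CoprimeHeight CfsgLib.FixedFree

universe u v w

section Descent

variable {K : Type w} [Field K] {L : Type u} [Group L] [Finite L] {V : Type v} [AddCommGroup V]
  [Module K V] (ρ : Representation K L V)

omit [Finite L] in
theorem trace_conj_rep (c x : L) :
    LinearMap.trace K V (ρ (c * x * c⁻¹)) = LinearMap.trace K V (ρ x) := by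
  rw [map_mul ρ, map_mul ρ, LinearMap.trace_mul_comm K, ← mul_assoc, ← map_mul, inv_mul_cancel, map_one,
    one_mul]

theorem trace_avg_mul (T : Subgroup L) (hT : (Nat.card T : K) ≠ 0) [FiniteDimensional K V] {y : L}
    (hy : y ∈ normalizer (T : Set L)) :
    LinearMap.trace K V (ρ y ∘ₗ avg ρ T) =
      LinearMap.trace K (fixSub ρ T) ((ρ y).restrict fun _ hx => map_mem_fixSub ρ hy hx) := by
  let π : V →ₗ[K] fixSub ρ T := (avg ρ T).codRestrict _ (avg_mem_fixSub ρ)
  let g : fixSub ρ T →ₗ[K] fixSub ρ T := (ρ y).restrict fun _ hx => map_mem_fixSub ρ hy hx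
  have e : ρ y ∘ₗ avg ρ T = (fixSub ρ T).subtype ∘ₗ (g ∘ₗ π) := LinearMap.ext fun x => rfl
  rw [e, LinearMap.trace_comp_comm' (g ∘ₗ π) (fixSub ρ T).subtype, LinearMap.comp_assoc]
  congr 1
  refine LinearMap.ext fun x => ?_
  show g (π x) = g x
  congr 1
  exact Subtype.ext (avg_eq_self ρ hT x.2)

/-- In a rational group the traces on fixed spaces do not see coprime powers. -/
theorem trace_descent [FiniteDimensional K V] (hL : IsRational L) (T : Subgroup L)
    (hT : (Nat.card T : K) ≠ 0) {y : L} (hy : y ∈ normalizer (T : Set L)) {j : ℕ}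
    (hj : j.Coprime (Nat.card L)) :
    LinearMap.trace K (fixSub ρ T)
        ((ρ (y ^ j)).restrict fun _ hx => map_mem_fixSub ρ (pow_mem hy j) hx) =
      LinearMap.trace K (fixSub ρ T) ((ρ y).restrict fun _ hx => map_mem_fixSub ρ hy hx) := by
  have := Fintype.ofFinite T
  rw [← trace_avg_mul ρ T hT (pow_mem hy j), ← trace_avg_mul ρ T hT hy]
  have key : ∀ z : L, LinearMap.trace K V (ρ z ∘ₗ avg ρ T)
      = (Nat.card T : K)⁻¹ * ∑ t : T, LinearMap.trace K V (ρ (z * t)) := fun z => by
    have e : ρ z ∘ₗ avg ρ T = (Nat.card T : K)⁻¹ • ∑ t : T, ρ (z * t) := LinearMap.ext fun x => by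
      rw [LinearMap.comp_apply, avg_apply, map_smul, map_sum, LinearMap.smul_apply,
        LinearMap.sum_apply]
      exact congrArg _ (Finset.sum_congr rfl fun t _ => (rep_self_mul_apply ρ z t x).symm)
    rw [e, map_smul, map_sum, smul_eq_mul]
  rw [key, key]
  congr 1
  have hpow : ∀ (t : T) (i : ℕ), ∃ t' ∈ T, (y * t) ^ i = y ^ i * t' := by
    intro t i
    induction i with
    | zero => exact ⟨1, one_mem T, by simp⟩
    | succ i ih =>
      obtain ⟨t', ht', e⟩ := ih
      refine ⟨y⁻¹ * t' * y * t, mul_mem (inv_conj_mem hy ht') t.2, ?_⟩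
      rw [pow_succ, e, pow_succ]
      group
  choose f hf hfe using fun t : T => hpow t j
  have hinj : Function.Injective fun t : T => (⟨f t, hf t⟩ : T) := by
    intro t t' e
    have h1 : (y * (t : L)) ^ j = (y * (t' : L)) ^ j := by
      rw [hfe, hfe]; exact congrArg (y ^ j * ·) (congrArg Subtype.val e)
    exact Subtype.ext (mul_left_cancel ((powCoprime hj.symm).injective h1))
  rw [← Equiv.sum_comp (Equiv.ofBijective _ (Finite.injective_iff_bijective.1 hinj))
    (fun t : T => LinearMap.trace K V (ρ (y ^ j * t)))]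
  refine Finset.sum_congr rfl fun t _ => ?_
  show LinearMap.trace K V (ρ (y ^ j * f t)) = _
  rw [← hfe]
  obtain ⟨c, hc⟩ := isConj_iff.1 (hL (y * t) j (hj.coprime_dvd_right (orderOf_dvd_natCard _)))
  rw [← hc, trace_conj_rep]

end Descent

section Regular

variable {p : ℕ} [hp : Fact p.Prime] {E : Type v} [AddCommGroup E] [Module (ZMod p) E]
  {Γ : Type u} [Group Γ] [Finite Γ]

/-- A coprime group of maps of determinant one, transitive on the nonzero vectors of a plane. -/
structure IsPlaneGroup (η : Representation (ZMod p) Γ E) : Prop where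
  dim : Module.finrank (ZMod p) E = 2
  det : ∀ g, LinearMap.det (η g) = 1
  cop : ∀ g, ∃ m : ℕ, (m : ZMod p) ≠ 0 ∧ η g ^ m = 1
  trans : ∀ x y : E, x ≠ 0 → y ≠ 0 → ∃ g, η g x = y

variable {η : Representation (ZMod p) Γ E}

theorem IsPlaneGroup.semiregular (h : IsPlaneGroup η) {g : Γ} {x : E} (hx : x ≠ 0)
    (hgx : η g x = x) : η g = 1 := by
  obtain ⟨m, hm, hgm⟩ := h.cop g
  exact plane_semiregular h.dim _ (h.det g) hm hgm hx hgx

theorem IsPlaneGroup.nontrivial (h : IsPlaneGroup η) : ∃ w : E, w ≠ 0 := by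
  by_contra hc
  push Not at hc
  have : Subsingleton E := ⟨fun a b => by rw [hc a, hc b]⟩
  have h1 := h.dim
  rw [Module.finrank_zero_of_subsingleton] at h1
  omega

omit hp [Finite Γ] in
/-- The image group. -/
abbrev planeImage (η : Representation (ZMod p) Γ E) : Subgroup (Module.End (ZMod p) E)ˣ :=
  (MonoidHom.toHomUnits η).range

instance [Finite Γ] : Finite (planeImage η) :=
  Finite.of_surjective _ (MonoidHom.rangeRestrict_surjective _)

theorem IsPlaneGroup.ext (h : IsPlaneGroup η) {a b : planeImage η} {x : E} (hx : x ≠ 0)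
    (hab : (a.1 : Module.End (ZMod p) E) x = (b.1 : Module.End (ZMod p) E) x) : a = b := by
  obtain ⟨g, hg⟩ := a.2
  obtain ⟨g', hg'⟩ := b.2
  have e1 : η g = a.1.1 := congrArg Units.val hg
  have e2 : η g' = b.1.1 := congrArg Units.val hg'
  have h1 : η (g'⁻¹ * g) x = x := by
    rw [map_mul, Module.End.mul_apply, e1, hab, ← e2, ← Module.End.mul_apply, ← map_mul,
      inv_mul_cancel, map_one, Module.End.one_apply]
  have h2 : η g = η g' := by
    rw [show g = g' * (g'⁻¹ * g) by group, map_mul, h.semiregular hx h1, mul_one]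
  exact Subtype.ext (Units.ext (by rw [← e1, ← e2, h2]))

theorem IsPlaneGroup.card_image (h : IsPlaneGroup η) : Nat.card (planeImage η) = p ^ 2 - 1 := by
  classical
  have := finite_of_plane h.dim
  have : Finite E := Module.finite_of_finite (ZMod p)
  have := Fintype.ofFinite E
  obtain ⟨w, hw⟩ := h.nontrivial
  have hcard : Nat.card {x : E // x ≠ 0} = p ^ 2 - 1 := by
    rw [Nat.card_eq_fintype_card, Fintype.card_subtype_compl, Fintype.card_subtype_eq,
      ← Nat.card_eq_fintype_card, Module.natCard_eq_pow_finrank (K := ZMod p), h.dim, Nat.card_zmod]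
  rw [← hcard]
  refine Nat.card_eq_of_bijective (fun a : planeImage η => (⟨a.1.1 w, fun e => hw ?_⟩ : {x : E // x ≠ 0}))
    ⟨fun a b e => h.ext hw (congrArg Subtype.val e), fun x => ?_⟩
  · have := congrArg (fun z => (↑a.1⁻¹ : Module.End (ZMod p) E) z) e
    rwa [← Module.End.mul_apply, Units.inv_mul, Module.End.one_apply, map_zero] at this
  · obtain ⟨g, hg⟩ := h.trans w x hw x.2
    exact ⟨⟨_, g, rfl⟩, Subtype.ext hg⟩

theorem IsPlaneGroup.sq_eq (h : IsPlaneGroup η) (h5 : 5 ≤ p) {a : planeImage η} (ha : a ^ 2 = 1)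
    (hne : a ≠ 1) : (a.1 : Module.End (ZMod p) E) = -1 := by
  obtain ⟨g, hg⟩ := a.2
  have e1 : η g = a.1.1 := congrArg Units.val hg
  rw [← e1]
  refine plane_eq_neg_one h.dim h5 _ (h.det g) ?_ fun e => hne (Subtype.ext (Units.ext (by rw [← e1, e]; rfl)))
  have h2 := congrArg (fun c : planeImage η => (c.1 : Module.End (ZMod p) E)) ha
  simp only [SubmonoidClass.coe_pow, Units.val_pow_eq_pow_val, OneMemClass.coe_one, Units.val_one,
    pow_two] at h2
  rw [e1]; exact h2

theorem IsPlaneGroup.exists_sq_ne_one (h : IsPlaneGroup η) (h5 : 5 ≤ p) (H : Subgroup (planeImage η))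
    (h4 : 4 ≤ Nat.card H) : ∃ x ∈ H, x ^ 2 ≠ 1 := by
  classical
  by_contra hc
  push Not at hc
  have := Fintype.ofFinite H
  obtain ⟨a, b, c, hab, hac, hbc⟩ :=
    Fintype.two_lt_card_iff.1 (show 2 < Fintype.card H by rw [← Nat.card_eq_fintype_card]; omega)
  have key : ∀ {x y : H}, x ≠ 1 → y ≠ 1 → x = y := fun {x y} hx hy => by
    have hx1 := h.sq_eq h5 (hc x x.2) fun e => hx (Subtype.ext e)
    have hy1 := h.sq_eq h5 (hc y y.2) fun e => hy (Subtype.ext e)
    exact Subtype.ext (Subtype.ext (Units.ext (hx1.trans hy1.symm)))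
  by_cases ha : a = 1
  · exact hbc (key (fun e => hab (ha.trans e.symm)) fun e => hac (ha.trans e.symm))
  · by_cases hb : b = 1
    · exact hac (key ha fun e => hbc (hb.trans e.symm))
    · exact hab (key ha hb)

theorem zmod_five_aux : ∀ a b : ZMod 5, 2 * a * b - b * b = 0 → a * a - b * b = -1 → b = 0 ∧ a * a = 4 := by
  decide

theorem zmod_five_cube : ∀ c : ZMod 5, c * c * c - 1 = 0 → c = 1 := by decide

theorem zmod_five_four : (4 : ZMod 5) ≠ 1 := by decide

theorem zmod_seven_two : (2 : ZMod 7) ≠ 0 := by decide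

/-- No element of order four commutes with one of order three (`p = 5`). -/
theorem IsPlaneGroup.no_commuting_four [Fact (Nat.Prime 5)] {E : Type v} [AddCommGroup E]
    [Module (ZMod 5) E] {η : Representation (ZMod 5) Γ E} (h : IsPlaneGroup η)
    {r y : planeImage η} (hr : r ^ 3 = 1) (hr1 : r ≠ 1) (hy : y ^ 4 = 1) (hy2 : y ^ 2 ≠ 1)
    (hc : r * y = y * r) : False := by
  have := finite_of_plane h.dim
  obtain ⟨w, hw⟩ := h.nontrivial
  set R : Module.End (ZMod 5) E := (r.1 : Module.End (ZMod 5) E) with hR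
  set Y : Module.End (ZMod 5) E := (y.1 : Module.End (ZMod 5) E) with hY
  obtain ⟨g, hg⟩ := r.2
  have hRdet : LinearMap.det R = 1 := by
    rw [hR, ← show η g = r.1.1 from congrArg Units.val hg]; exact h.det g
  obtain ⟨g', hg'⟩ := y.2
  have hYdet : LinearMap.det Y = 1 := by
    rw [hY, ← show η g' = y.1.1 from congrArg Units.val hg']; exact h.det g'
  have hR3 : ∀ z, R (R (R z)) = z := fun z => by
    have h2 := congrArg (fun c : planeImage η => (c.1 : Module.End (ZMod 5) E) z) hr
    simpa [pow_succ] using h2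
  have hcomm : ∀ z, Y (R z) = R (Y z) := fun z => by
    have h2 := congrArg (fun c : planeImage η => (c.1 : Module.End (ZMod 5) E) z) hc
    simpa using h2.symm
  have hY2 : ∀ z, Y (Y z) = -z := fun z => by
    have h2 := h.sq_eq (a := y ^ 2) le_rfl (by rw [← pow_mul]; exact hy) hy2
    have h3 := LinearMap.congr_fun h2 z
    simpa [pow_two] using h3
  have hind : ∀ a b : ZMod 5, a • w + b • R w = 0 → a = 0 ∧ b = 0 := by
    intro a b hab
    have hb : b = 0 := by
      by_contra hb
      have hRw : R w = (-(b⁻¹ * a)) • w := by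
        have h2 : b • R w = -(a • w) := eq_neg_of_add_eq_zero_right hab
        have h3 := congrArg (b⁻¹ • ·) h2
        rwa [smul_smul, inv_mul_cancel₀ hb, one_smul, smul_neg, smul_smul, ← neg_smul] at h3
      set c : ZMod 5 := -(b⁻¹ * a) with hcdef
      have h4 := hR3 w
      rw [hRw, map_smul, hRw, map_smul, map_smul, hRw, smul_smul, smul_smul] at h4
      have h5 : (c * c * c - 1) • w = 0 := by rw [sub_smul, one_smul, h4, sub_self]
      have h6 := (smul_eq_zero.1 h5).resolve_right hw
      have h7 : c = 1 := zmod_five_cube c h6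
      rw [h7, one_smul] at hRw
      exact hr1 (h.ext hw (show r.1.1 w = (1 : planeImage η).1.1 w by rw [← hR, hRw]; rfl))
    subst hb
    rw [zero_smul, add_zero] at hab
    exact ⟨(smul_eq_zero.1 hab).resolve_right hw, rfl⟩
  have hRR : ∀ z, R (R z) = LinearMap.trace (ZMod 5) E R • R z - z := fun z => by
    have h1 := plane_sq h.dim R z
    rw [hRdet, one_smul] at h1
    rw [← sub_eq_zero, ← h1]; abel
  have hτ : LinearMap.trace (ZMod 5) E R = -1 := by
    set τ := LinearMap.trace (ZMod 5) E R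
    have h1 := hR3 w
    rw [hRR w, map_sub, map_smul, hRR w, smul_sub, smul_smul] at h1
    have h2 : (-τ - 1) • w + (τ * τ - 1) • R w = 0 := by
      rw [sub_smul, sub_smul, one_smul, one_smul, neg_smul]
      have h3 : (τ * τ) • R w - τ • w - R w - w = 0 := by rw [h1, sub_self]
      rw [← h3]; abel
    obtain ⟨h3, -⟩ := hind _ _ h2
    linear_combination -h3
  have hRR' : R (R w) = -R w - w := by rw [hRR w, hτ, neg_one_smul]
  let e : (ZMod 5 × ZMod 5) →ₗ[ZMod 5] E :=
    (LinearMap.toSpanSingleton _ _ w).coprod (LinearMap.toSpanSingleton _ _ (R w))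
  have hinj : Function.Injective e := (injective_iff_map_eq_zero e).2 fun ⟨a, b⟩ hz => by
    obtain ⟨h1, h2⟩ := hind a b hz
    exact Prod.ext h1 h2
  obtain ⟨⟨a, b⟩, hab⟩ := (LinearMap.injective_iff_surjective_of_finrank_eq_finrank
    (by rw [Module.finrank_prod, Module.finrank_self, h.dim])).1 hinj (Y w)
  have hYw : Y w = a • w + b • R w := hab.symm
  have h1 : Y (Y w) = (a * a - b * b) • w + (2 * a * b - b * b) • R w := by
    rw [hYw, map_add, map_smul, map_smul, hcomm, hYw, map_add, map_smul, map_smul, hRR']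
    module
  have h2 : (a * a - b * b + 1) • w + (2 * a * b - b * b) • R w = 0 := by
    rw [add_smul, one_smul, add_right_comm, ← h1, hY2, neg_add_cancel]
  obtain ⟨h3, h4⟩ := hind _ _ h2
  obtain ⟨hb, ha⟩ := zmod_five_aux a b h4 (by linear_combination h3)
  have hYs : Y = a • 1 := LinearMap.ext fun z => by
    obtain ⟨⟨c, d⟩, hz⟩ := (LinearMap.injective_iff_surjective_of_finrank_eq_finrank
      (by rw [Module.finrank_prod, Module.finrank_self, h.dim])).1 hinj z
    rw [← hz, show e (c, d) = c • w + d • R w from rfl, map_add, map_smul, map_smul, hcomm, hYw, hb,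
      zero_smul, add_zero, map_smul, LinearMap.smul_apply, Module.End.one_apply, smul_add,
      smul_smul, smul_smul, smul_smul, smul_smul, mul_comm c, mul_comm d]
  rw [hYs, LinearMap.det_smul, h.dim, map_one, mul_one, pow_two, ha] at hYdet
  exact zmod_five_four hYdet

/-- No normal subgroup of order three (`p = 5`). -/
theorem IsPlaneGroup.no_normal_three [Fact (Nat.Prime 5)] {E : Type v} [AddCommGroup E]
    [Module (ZMod 5) E] {η : Representation (ZMod 5) Γ E} (h : IsPlaneGroup η)
    (R : Subgroup (planeImage η)) [R.Normal] (hR : Nat.card R = 3) : False := by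
  classical
  have h24 : Nat.card (planeImage η) = 24 := h.card_image.trans (by norm_num)
  obtain ⟨r, hr, hr1⟩ : ∃ r ∈ R, r ≠ 1 := by
    by_contra hc
    push Not at hc
    rw [(eq_bot_iff_forall R).2 hc, card_bot] at hR
    omega
  have hr3 : r ^ 3 = 1 := by
    have h1 : (⟨r, hr⟩ : R) ^ 3 = 1 := by rw [← hR]; exact pow_card_eq_one'
    simpa using congrArg Subtype.val h1
  -- the conjugates of `r` are among the two other elements of `R`
  let C : Subgroup (planeImage η) := centralizer {r}
  have horb : Nat.card (ConjClasses.mk r).carrier ≤ 2 := by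
    rw [Nat.card_coe_set_eq]
    have hsub : (ConjClasses.mk r).carrier ⊆ (R : Set (planeImage η)) \ {1} := by
      intro x hx
      rw [ConjClasses.mem_carrier_iff_mk_eq, ConjClasses.mk_eq_mk_iff_isConj] at hx
      obtain ⟨c, hc⟩ := isConj_iff.1 hx.symm
      refine ⟨hc ▸ ‹R.Normal›.conj_mem r hr c, fun e => hr1 ?_⟩
      rw [Set.mem_singleton_iff] at e
      rw [e, mul_inv_eq_one, mul_eq_left] at hc
      exact hc
    refine (Set.ncard_le_ncard hsub (Set.toFinite _)).trans ?_
    rw [Set.ncard_sdiff_singleton_of_mem (one_mem R), ← Nat.card_coe_set_eq]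
    show Nat.card R - 1 ≤ 2
    omega
  have hC : 12 ≤ Nat.card C := by
    have h1 := card_carrier_mul r
    rw [h24] at h1
    change _ * Nat.card C = 24 at h1
    nlinarith
  have hC4 : 4 ∣ Nat.card C := by
    have h1 : Nat.card C ∣ 24 := h24 ▸ card_subgroup_dvd_card C
    have h2 := Nat.le_of_dvd (by norm_num) h1
    revert h1 hC
    generalize Nat.card C = c at h2 ⊢
    interval_cases c <;> norm_num
  obtain ⟨Q, hQ⟩ := Sylow.exists_subgroup_card_pow_prime (G := C) 2 (n := 2) (by simpa using hC4)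
  obtain ⟨y, hy, hy2⟩ := h.exists_sq_ne_one le_rfl (Q.map C.subtype)
    (by rw [card_map_of_injective C.subtype_injective, hQ]; norm_num)
  obtain ⟨y', hy', rfl⟩ := hy
  refine h.no_commuting_four hr3 hr1 (y := (y' : planeImage η)) ?_ hy2
    (mem_centralizer_singleton_iff.1 y'.2).symm
  have h3 : (⟨y', hy'⟩ : Q) ^ 4 = 1 := by
    rw [show (4 : ℕ) = 2 ^ 2 by norm_num, ← hQ]; exact pow_card_eq_one'
  simpa using congrArg (fun a : Q => ((a : C) : planeImage η)) h3

/-- No element of order three is real (`p = 5`). -/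
theorem IsPlaneGroup.no_real_three [Fact (Nat.Prime 5)] {E : Type v} [AddCommGroup E]
    [Module (ZMod 5) E] {η : Representation (ZMod 5) Γ E} (h : IsPlaneGroup η)
    {r c : planeImage η} (hr : orderOf r = 3) (hc : c * r * c⁻¹ = r⁻¹) : False := by
  classical
  have h24 : Nat.card (planeImage η) = 24 := h.card_image.trans (by norm_num)
  have : Fact (Nat.Prime 3) := ⟨Nat.prime_three⟩
  set R : Subgroup (planeImage η) := zpowers r with hRdef
  have hR : Nat.card R = 3 := by rw [hRdef, Nat.card_zpowers, hr]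
  obtain ⟨S, hS⟩ := (IsPGroup.of_card (n := 1) (p := 3) (by rw [hR]; norm_num) : IsPGroup 3 R).exists_le_sylow
  have hScard : Nat.card S = 3 := by
    rw [Sylow.card_eq_multiplicity, h24]
    have : Nat.factorization 24 3 = 1 := by
      rw [show (24 : ℕ) = 8 * 3 by norm_num, Nat.factorization_mul (by norm_num) (by norm_num),
        Finsupp.add_apply, Nat.Prime.factorization_self Nat.prime_three,
        Nat.factorization_eq_zero_of_not_dvd (by norm_num)]
    rw [this, pow_one]
  have hRS : R = S := eq_of_le_of_card_ge hS (by rw [hR]; exact hScard.le)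
  set N : Subgroup (planeImage η) := normalizer (R : Set (planeImage η)) with hN
  have hcN : c ∈ N := by
    rw [hN]
    have hz : ∀ x : planeImage η, x ∈ R → c * x * c⁻¹ ∈ R ∧ c⁻¹ * x * c ∈ R := by
      intro x hx
      obtain ⟨i, rfl⟩ := mem_zpowers_iff.1 hx
      refine ⟨?_, ?_⟩
      · rw [← conj_zpow, hc]; exact zpow_mem (inv_mem (mem_zpowers r)) i
      · have h1 : c⁻¹ * r * c = r⁻¹ := by
          have h2 : r = c⁻¹ * r⁻¹ * c := by rw [← hc]; group
          conv_rhs => rw [h2]
          group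
        have h2 := conj_zpow (i := i) (a := c⁻¹) (b := r)
        rw [inv_inv] at h2
        rw [← h2, h1]
        exact zpow_mem (inv_mem (mem_zpowers r)) i
    exact mem_normalizer_of_conj (fun x hx => (hz x hx).1) fun x hx => (hz x hx).2
  have hidx : N.index % 3 = 1 := by
    have h1 := card_sylow_modEq_one 3 (planeImage η)
    rw [S.card_eq_index_normalizer, ← S.coe_coe, ← hRS, ← hN] at h1
    exact h1
  -- an element of order four inside the normalizer
  obtain ⟨k, m, hm2, hkm⟩ := Nat.exists_eq_pow_mul_and_not_dvd (orderOf_pos c).ne' 2 (by norm_num)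
  have hd : (c ^ m) * r * (c ^ m)⁻¹ = r⁻¹ := by
    have key : ∀ i : ℕ, c ^ (2 * i + 1) * r * (c ^ (2 * i + 1))⁻¹ = r⁻¹ := by
      intro i
      induction i with
      | zero => simpa using hc
      | succ i ih =>
        rw [show 2 * (i + 1) + 1 = 1 + (1 + (2 * i + 1)) by ring, pow_add, pow_add, pow_one,
          show c * (c * c ^ (2 * i + 1)) * r * (c * (c * c ^ (2 * i + 1)))⁻¹
            = c * (c * (c ^ (2 * i + 1) * r * (c ^ (2 * i + 1))⁻¹) * c⁻¹) * c⁻¹ by group, ih,
          show c * r⁻¹ * c⁻¹ = (c * r * c⁻¹)⁻¹ by group, hc, inv_inv, hc]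
    obtain ⟨i, hi⟩ : Odd m := Nat.odd_iff.2 (Nat.two_dvd_ne_zero.1 hm2)
    rw [hi]; exact key i
  have hk2 : (c ^ m) ^ 2 ^ k = 1 := by rw [← pow_mul, mul_comm, ← hkm, pow_orderOf_eq_one]
  have hsq : (c ^ m) ^ 2 ≠ 1 := fun e => by
    have h3 : r = r⁻¹ := by
      by_cases e1 : c ^ m = 1
      · rwa [e1, one_mul, inv_one, mul_one] at hd
      · have hneg : (c ^ m).1.1 = -1 := h.sq_eq le_rfl e e1
        have hcc : c ^ m * r = r * c ^ m := Subtype.ext (Units.ext (by
          show (c ^ m).1.1 * r.1.1 = r.1.1 * (c ^ m).1.1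
          rw [hneg, neg_one_mul, mul_neg_one]))
        rwa [hcc, mul_inv_cancel_right] at hd
    have : orderOf r ∣ 2 := orderOf_dvd_of_pow_eq_one (by
      rw [pow_two]
      nth_rewrite 1 [h3]
      rw [inv_mul_cancel])
    rw [hr] at this
    norm_num at this
  have h4N : 4 ∣ Nat.card N := by
    obtain ⟨j, -, hj⟩ := (Nat.dvd_prime_pow Nat.prime_two).1 (orderOf_dvd_of_pow_eq_one hk2)
    have hj2 : 2 ≤ j := by
      by_contra hlt
      refine hsq (orderOf_dvd_iff_pow_eq_one.1 ?_)
      rw [hj, show (2 : ℕ) = 2 ^ 1 by norm_num]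
      exact Nat.pow_dvd_pow 2 (by omega)
    refine (show 4 ∣ orderOf (c ^ m) from hj ▸ (Nat.pow_dvd_pow 2 hj2)).trans ?_
    exact Subgroup.orderOf_dvd_natCard N (pow_mem hcN m)
  have h3N : 3 ∣ Nat.card N := hR ▸ card_dvd_of_le le_normalizer
  have h12 : 12 ∣ Nat.card N := Nat.Coprime.mul_dvd_of_dvd_of_dvd (by norm_num : Nat.Coprime 4 3) h4N h3N
  have hN1 : N.index = 1 := by
    obtain ⟨t, ht⟩ := h12
    have h1 := N.card_mul_index
    rw [h24, ht] at h1
    have h5 : t * N.index = 2 := by linarith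
    have h6 : N.index ∣ 2 := Dvd.intro_left t h5
    rcases (Nat.dvd_prime Nat.prime_two).1 h6 with e | e
    · exact e
    · rw [e] at hidx; norm_num at hidx
  have : R.Normal := normalizer_eq_top_iff.1 (hN ▸ index_eq_one.1 hN1)
  exact h.no_normal_three R hR

/-- For `p = 7` there is an element of order eight with a nonzero trace. -/
theorem IsPlaneGroup.exists_eight [Fact (Nat.Prime 7)] {E : Type v} [AddCommGroup E]
    [Module (ZMod 7) E] {η : Representation (ZMod 7) Γ E} (h : IsPlaneGroup η) :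
    ∃ g, η g ^ 4 = -1 ∧ LinearMap.trace (ZMod 7) E (η g) ≠ 0 := by
  classical
  have h48 : Nat.card (planeImage η) = 48 := h.card_image.trans (by norm_num)
  obtain ⟨Q, hQ⟩ := Sylow.exists_subgroup_card_pow_prime (G := planeImage η) 2 (n := 4)
    (by rw [h48]; norm_num)
  by_cases hex : ∃ x ∈ Q, x ^ 4 ≠ 1
  · obtain ⟨x, hxQ, hx⟩ := hex
    have h16 : x ^ 16 = 1 := by
      have h1 : (⟨x, hxQ⟩ : Q) ^ 16 = 1 := by
        rw [show (16 : ℕ) = 2 ^ 4 by norm_num, ← hQ]; exact pow_card_eq_one'
      simpa using congrArg Subtype.val h1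
    obtain ⟨z, hz8, hz4⟩ : ∃ z : planeImage η, z ^ 8 = 1 ∧ z ^ 4 ≠ 1 := by
      by_cases hx8 : x ^ 8 = 1
      · exact ⟨x, hx8, hx⟩
      · exact ⟨x ^ 2, by rw [← pow_mul]; exact h16, by rw [← pow_mul]; exact hx8⟩
    obtain ⟨g, hg⟩ := z.2
    have e1 : η g = z.1.1 := congrArg Units.val hg
    have h4 : η g ^ 4 = -1 := by
      rw [e1, ← h.sq_eq (by norm_num) (a := z ^ 4) (by rw [← pow_mul]; exact hz8) hz4]
      simp
    refine ⟨g, h4, fun ht => ?_⟩
    have h2 : η g * η g = -1 := LinearMap.ext fun w => by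
      have h3 := plane_sq h.dim (η g) w
      rw [ht, zero_smul, sub_zero, h.det, one_smul] at h3
      rw [Module.End.mul_apply, LinearMap.neg_apply, Module.End.one_apply]
      exact eq_neg_of_add_eq_zero_left h3
    have h5 : η g ^ 4 = 1 := by
      rw [show 4 = 2 * 2 by norm_num, pow_mul, pow_two, pow_two, h2]; simp
    obtain ⟨w, hw⟩ := h.nontrivial
    have h6 := LinearMap.congr_fun (h4.symm.trans h5) w
    rw [LinearMap.neg_apply, Module.End.one_apply, neg_eq_iff_add_eq_zero, ← two_smul (ZMod 7)] at h6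
    exact hw ((smul_eq_zero.1 h6).resolve_left zmod_seven_two)
  · exfalso
    push Not at hex
    have hinv : ∀ a b : Q, a ^ 2 = 1 → b ^ 2 = 1 → a ≠ 1 → b ≠ 1 → a = b := fun a b ha hb ha1 hb1 => by
      refine Subtype.ext (Subtype.ext (Units.ext ?_))
      rw [h.sq_eq (by norm_num) (a := (a : planeImage η)) (by simpa using congrArg Subtype.val ha)
          fun e => ha1 (Subtype.ext e),
        h.sq_eq (by norm_num) (a := (b : planeImage η)) (by simpa using congrArg Subtype.val hb)
          fun e => hb1 (Subtype.ext e)]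
    obtain ⟨x, hx⟩ : ∃ x : Q, x ^ 2 ≠ 1 := by
      obtain ⟨x, hx, hx2⟩ := h.exists_sq_ne_one (by norm_num) Q (by rw [hQ]; norm_num)
      exact ⟨⟨x, hx⟩, fun e => hx2 (by simpa using congrArg Subtype.val e)⟩
    have h4 : ∀ a : Q, (a ^ 2) ^ 2 = 1 := fun a => by
      rw [← pow_mul]; exact Subtype.ext (by simpa using hex a a.2)
    set z : Q := x ^ 2 with hz
    have hsq : ∀ a : Q, a ^ 2 = 1 ∨ a ^ 2 = z := fun a => by
      by_cases e : a ^ 2 = 1
      · exact Or.inl e
      · exact Or.inr (hinv _ _ (h4 a) (h4 x) e hx)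
    have hzc : ∀ a : Q, z * a = a * z := fun a => by
      refine Subtype.ext (Subtype.ext (Units.ext ?_))
      have hz1 := h.sq_eq (by norm_num) (a := (z : planeImage η))
        (by rw [hz]; simpa using congrArg Subtype.val (h4 x))
        (fun e => hx (Subtype.ext e))
      show (z : planeImage η).1.1 * (a : planeImage η).1.1 = (a : planeImage η).1.1 * (z : planeImage η).1.1
      rw [hz1, neg_one_mul, mul_neg_one]
    -- commuting with `x` means lying in `{1, z, x, x * z}`
    have hC : (centralizer ({x} : Set Q) : Set Q) ⊆ {1, z, x, x * z} := by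
      intro a ha
      have hac : a * x = x * a := mem_centralizer_singleton_iff.1 ha
      simp only [Set.mem_insert_iff, Set.mem_singleton_iff]
      rcases hsq a with e | e
      · by_cases a1 : a = 1
        · exact Or.inl a1
        · exact Or.inr (Or.inl (hinv a z e (h4 x) a1 hx))
      · have h5 : (a * x) ^ 2 = 1 := by
          rw [(show Commute a x from hac).mul_pow, e, ← hz, ← pow_two, hz, h4 x]
        by_cases e1 : a * x = 1
        · refine Or.inr (Or.inr (Or.inr ?_))
          rw [eq_inv_of_mul_eq_one_left e1, inv_eq_iff_mul_eq_one, ← mul_assoc, ← pow_two, ← hz,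
            ← pow_two, hz, h4 x]
        · refine Or.inr (Or.inr (Or.inl ?_))
          have h6 := hinv (a * x) z h5 (h4 x) e1 hx
          rw [hz, pow_two] at h6
          exact mul_right_cancel h6
    have hcl : ((ConjClasses.mk x).carrier : Set Q) ⊆ {x, x * z} := by
      intro a ha
      rw [ConjClasses.mem_carrier_iff_mk_eq, ConjClasses.mk_eq_mk_iff_isConj] at ha
      obtain ⟨c, hc⟩ := isConj_iff.1 ha.symm
      have hcc : Commute (c ^ 2) x := by
        rcases hsq c with e | e <;> rw [e]
        · exact Commute.one_left x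
        · exact hzc x
      have h7 : a * x⁻¹ = (c * x) ^ 2 * (x ^ 2)⁻¹ * (c ^ 2)⁻¹ := by
        rw [← hc]
        calc c * x * c⁻¹ * x⁻¹ = c * x * c * ((c ^ 2)⁻¹ * x⁻¹) := by group
          _ = c * x * c * (x⁻¹ * (c ^ 2)⁻¹) := by rw [hcc.inv_inv.eq]
          _ = (c * x) ^ 2 * (x ^ 2)⁻¹ * (c ^ 2)⁻¹ := by rw [pow_two (c * x)]; group
      have hz2 : z * z = 1 := by rw [← pow_two]; exact h4 x
      have h8 : a * x⁻¹ = 1 ∨ a * x⁻¹ = z := by
        have hzi : z⁻¹ = z := inv_eq_of_mul_eq_one_right hz2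
        rw [h7, ← hz, hzi]
        rcases hsq (c * x) with e1 | e1 <;> rcases hsq c with e2 | e2 <;>
          simp [e1, e2, hzi, hz2]
      simp only [Set.mem_insert_iff, Set.mem_singleton_iff]
      rcases h8 with e | e
      · exact Or.inl (mul_inv_eq_one.1 e)
      · exact Or.inr (by rw [← hzc, ← e, inv_mul_cancel_right])
    have e1 : Nat.card (centralizer ({x} : Set Q)) ≤ 4 := by
      rw [← SetLike.coe_sort_coe, Nat.card_coe_set_eq]
      refine (Set.ncard_le_ncard hC (Set.toFinite _)).trans ?_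
      exact ((Set.ncard_insert_le _ _).trans (Nat.add_le_add_right ((Set.ncard_insert_le _ _).trans
        (Nat.add_le_add_right ((Set.ncard_insert_le _ _).trans (by rw [Set.ncard_singleton])) 1)) 1))
    have e2 : Nat.card (ConjClasses.mk x).carrier ≤ 2 := by
      rw [Nat.card_coe_set_eq]
      refine (Set.ncard_le_ncard hcl (Set.toFinite _)).trans ?_
      exact (Set.ncard_insert_le _ _).trans (by rw [Set.ncard_singleton])
    have h9 := card_carrier_mul x
    rw [hQ] at h9
    nlinarith

end Regular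

end CfsgLib.RationalGroup
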