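import Cfsg.Agent.Lib.RationalGroup.Basic
import Cfsg.Agent.Lib.Clifford.CoprimeTrace

/-!
# Invariant forms of modules with real-valued lifted traces
-/

set_option autoImplicit false

open scoped Kronecker

namespace CfsgLib.RationalGroup

open CfsgLib.Clifford.CoprimeTrace Matrix

universe u v

variable {p : ℕ} [hp : Fact p.Prime] {k : ℕ}

/-- The averaged lift is an idempotent reducing to the projection on the fixed vectors. -/
theorem exists_avg {L : Type u} [Group L] [Fintype L] (hL : (Nat.card L).Coprime p) {m : ℕ}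
    (ρ : L → Matrix (Fin m) (Fin m) (ZMod p)) (σ : L →* Matrix (Fin m) (Fin m) (ZMod (p ^ (k + 1))))
    (hσ : ∀ g, red p k (Fin m) (σ g) = ρ g) :
    ∃ P : Matrix (Fin m) (Fin m) (ZMod (p ^ (k + 1))), P * P = P ∧
      (Nat.card L : ZMod (p ^ (k + 1))) * P.trace = ∑ g, (σ g).trace ∧
      ∀ v, v ∈ LinearMap.range (Matrix.toLin' (red p k (Fin m) P)) ↔ ∀ g, ρ g *ᵥ v = v := by
  obtain ⟨c, hc⟩ : IsUnit (Nat.card L : ZMod (p ^ (k + 1))) :=
    (ZMod.isUnit_iff_coprime _ _).mpr (hL.pow_right _)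
  have hcN : (↑c⁻¹ : ZMod (p ^ (k + 1))) * (Nat.card L : ZMod (p ^ (k + 1))) = 1 := by
    rw [← hc]; exact c.inv_mul
  let P : Matrix (Fin m) (Fin m) (ZMod (p ^ (k + 1))) := (↑c⁻¹ : ZMod (p ^ (k + 1))) • ∑ g, σ g
  have h1 : ∀ g, σ g * ∑ h, σ h = ∑ h, σ h := fun g => by
    rw [Finset.mul_sum]
    exact Fintype.sum_equiv (Equiv.mulLeft g) _ _ fun h => (map_mul σ g h).symm
  have hgP : ∀ g, σ g * P = P := fun g => by rw [mul_smul_comm, h1]
  refine ⟨P, ?_, ?_, fun v => ⟨?_, fun hv => ⟨v, ?_⟩⟩⟩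
  · show ((↑c⁻¹ : ZMod (p ^ (k + 1))) • ∑ g, σ g) * P = P
    rw [smul_mul_assoc, Finset.sum_mul, Finset.sum_congr rfl fun g _ => hgP g, Finset.sum_const,
      Finset.card_univ, ← Nat.card_eq_fintype_card, ← Nat.cast_smul_eq_nsmul (ZMod (p ^ (k + 1))),
      smul_smul, hcN, one_smul]
  · rw [Matrix.trace_smul, Matrix.trace_sum, smul_eq_mul, ← mul_assoc,
      mul_comm _ (↑c⁻¹ : ZMod (p ^ (k + 1))), hcN, one_mul]
  · rintro ⟨w, rfl⟩ g
    rw [Matrix.toLin'_apply, Matrix.mulVec_mulVec, ← hσ g, ← map_mul, hgP]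
  · rw [Matrix.toLin'_apply]
    have hq : red p k (Fin m) P
        = (ZMod.castHom (dvd_pow_succ p k) (ZMod p) (↑c⁻¹ : ZMod (p ^ (k + 1)))) •
            ∑ g, red p k (Fin m) (σ g) := by
      rw [← map_sum]
      simp only [P, red, RingHom.mapMatrix_apply]
      ext i j
      simp only [Matrix.map_apply, Matrix.smul_apply, smul_eq_mul, map_mul]
    rw [hq, Matrix.smul_mulVec, Matrix.sum_mulVec,
      Finset.sum_congr rfl fun g _ => show red p k (Fin m) (σ g) *ᵥ v = v by rw [hσ]; exact hv g,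
      Finset.sum_const, Finset.card_univ, ← Nat.card_eq_fintype_card,
      ← Nat.cast_smul_eq_nsmul (ZMod p), smul_smul, ← map_natCast
        (ZMod.castHom (dvd_pow_succ p k) (ZMod p)), ← map_mul, hcN, map_one, one_smul]

/-- Lifts with the same trace sum: nonzero fixed vectors exist for both or for neither. -/
theorem exists_fixed_of_trace_eq {L : Type u} [Group L] [Fintype L] (hL : (Nat.card L).Coprime p)
    {m : ℕ} (hm : m < p ^ (k + 1)) (ρ₁ ρ₂ : L → Matrix (Fin m) (Fin m) (ZMod p))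
    (σ₁ σ₂ : L →* Matrix (Fin m) (Fin m) (ZMod (p ^ (k + 1))))
    (h₁ : ∀ g, red p k (Fin m) (σ₁ g) = ρ₁ g) (h₂ : ∀ g, red p k (Fin m) (σ₂ g) = ρ₂ g)
    (htr : ∑ g, (σ₁ g).trace = ∑ g, (σ₂ g).trace) {v : Fin m → ZMod p} (hv : v ≠ 0)
    (hfix : ∀ g, ρ₂ g *ᵥ v = v) : ∃ w : Fin m → ZMod p, w ≠ 0 ∧ ∀ g, ρ₁ g *ᵥ w = w := by
  obtain ⟨P₁, hP₁, ht₁, hr₁⟩ := exists_avg hL ρ₁ σ₁ h₁
  obtain ⟨P₂, hP₂, ht₂, hr₂⟩ := exists_avg hL ρ₂ σ₂ h₂
  have hu : IsUnit (Nat.card L : ZMod (p ^ (k + 1))) :=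
    (ZMod.isUnit_iff_coprime _ _).mpr (hL.pow_right _)
  have e : P₁.trace = P₂.trace := hu.mul_left_cancel (by rw [ht₁, ht₂, htr])
  rw [trace_idempotent p k P₁ hP₁, trace_idempotent p k P₂ hP₂] at e
  have hlt : ∀ X : Submodule (ZMod p) (Fin m → ZMod p), Module.finrank (ZMod p) X < p ^ (k + 1) :=
    fun X => lt_of_le_of_lt ((Submodule.finrank_le X).trans (Module.finrank_fin_fun _).le) hm
  have e' := ((ZMod.natCast_eq_natCast_iff _ _ _).mp e).eq_of_lt_of_lt (hlt _) (hlt _)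
  have h2 : LinearMap.range (Matrix.toLin' (red p k (Fin m) P₂)) ≠ ⊥ := fun h => hv (by
    have := (hr₂ v).2 hfix
    rwa [h, Submodule.mem_bot] at this)
  have h1 : LinearMap.range (Matrix.toLin' (red p k (Fin m) P₁)) ≠ ⊥ := fun h => h2 (by
    rw [← Submodule.finrank_eq_zero (R := ZMod p)] at h ⊢
    omega)
  obtain ⟨w, hw, hw0⟩ := Submodule.exists_mem_ne_zero_of_ne_bot h1
  exact ⟨w, hw0, (hr₁ w).1 hw⟩

/-- The Kronecker product as a homomorphism. -/
def kronHom (R : Type*) [CommRing R] (n : ℕ) :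
    Matrix (Fin n) (Fin n) R × Matrix (Fin n) (Fin n) R →* Matrix (Fin (n * n)) (Fin (n * n)) R where
  toFun A := Matrix.reindexAlgEquiv R R finProdFinEquiv (A.1 ⊗ₖ A.2)
  map_one' := by rw [Prod.fst_one, Prod.snd_one, Matrix.one_kronecker_one, map_one]
  map_mul' A B := by rw [Prod.fst_mul, Prod.snd_mul, Matrix.mul_kronecker_mul, map_mul]

/-- The contragredient of a matrix representation. -/
def contraHom {R : Type*} [CommRing R] {n : ℕ} {L : Type u} [Group L]
    (σ : L →* Matrix (Fin n) (Fin n) R) : L →* Matrix (Fin n) (Fin n) R where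
  toFun g := (σ g⁻¹)ᵀ
  map_one' := by rw [inv_one, map_one, Matrix.transpose_one]
  map_mul' a b := by rw [_root_.mul_inv_rev, map_mul, Matrix.transpose_mul]

theorem kronHom_trace {R : Type*} [CommRing R] {n : ℕ} (A B : Matrix (Fin n) (Fin n) R) :
    (kronHom R n (A, B)).trace = A.trace * B.trace := by
  rw [← Matrix.trace_kronecker]
  show (Matrix.reindex finProdFinEquiv finProdFinEquiv (A ⊗ₖ B)).trace = _
  simp only [Matrix.trace, Matrix.diag_apply, Matrix.reindex_apply, Matrix.submatrix_apply]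
  exact Equiv.sum_comp finProdFinEquiv.symm fun x => (A ⊗ₖ B) x x

theorem red_kronHom {n : ℕ} (A B : Matrix (Fin n) (Fin n) (ZMod (p ^ (k + 1)))) :
    red p k (Fin (n * n)) (kronHom _ n (A, B))
      = kronHom _ n (red p k (Fin n) A, red p k (Fin n) B) := by
  ext i j
  simp [kronHom, red, RingHom.mapMatrix_apply]

/-- The vector of a square matrix. -/
def flat {R : Type*} {n : ℕ} (X : Matrix (Fin n) (Fin n) R) : Fin (n * n) → R :=
  fun i => X (finProdFinEquiv.symm i).1 (finProdFinEquiv.symm i).2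

theorem flat_injective {R : Type*} {n : ℕ} :
    Function.Injective (flat : Matrix (Fin n) (Fin n) R → _) := by
  intro X Y h
  ext i j
  have := congr_fun h (finProdFinEquiv (i, j))
  simpa [flat] using this

theorem exists_flat {R : Type*} {n : ℕ} (v : Fin (n * n) → R) :
    ∃ X : Matrix (Fin n) (Fin n) R, flat X = v :=
  ⟨fun i j => v (finProdFinEquiv (i, j)),
    funext fun i => congrArg v (finProdFinEquiv.apply_symm_apply i)⟩

theorem kronHom_mulVec {R : Type*} [CommRing R] {n : ℕ} (A B X : Matrix (Fin n) (Fin n) R) :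
    kronHom R n (A, B) *ᵥ flat X = flat (A * X * Bᵀ) := by
  funext i
  show ∑ j : Fin (n * n), kronHom R n (A, B) i j * flat X j = _
  rw [← finProdFinEquiv.sum_comp, Fintype.sum_prod_type]
  simp only [flat, Matrix.mul_apply, Matrix.transpose_apply, Finset.sum_mul]
  rw [Finset.sum_comm]
  simp only [kronHom, MonoidHom.coe_mk, OneHom.coe_mk, Matrix.reindexAlgEquiv_apply,
    Matrix.reindex_apply, Matrix.submatrix_apply, Equiv.symm_apply_apply,
    Matrix.kroneckerMap_apply]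
  exact Finset.sum_congr rfl fun j _ => Finset.sum_congr rfl fun l _ => by ring

/-- A module of coprime image whose elements are all real carries an invariant form. -/
theorem exists_invariant_form {G : Type u} [Group G] [Finite G] {V : Type v} [AddCommGroup V]
    [Module (ZMod p) V] [Finite V] [Nontrivial V] (ρ : Representation (ZMod p) G V)
    (N : Subgroup G) [N.Normal] (hN : ∀ g ∈ N, ρ g = 1) (hco : N.index.Coprime p)
    (hreal : ∀ g : G, IsConj g g⁻¹) :
    ∃ B : LinearMap.BilinForm (ZMod p) V, B ≠ 0 ∧ ∀ g x y, B (ρ g x) (ρ g y) = B x y := by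
  classical
  have := Fintype.ofFinite (G ⧸ N)
  set n := Module.finrank (ZMod p) V with hn
  let bV := Module.finBasis (ZMod p) V
  let τ : Module.End (ZMod p) V ≃ₐ[ZMod p] Matrix (Fin n) (Fin n) (ZMod p) :=
    LinearMap.toMatrixAlgEquiv bV
  let ρu : G →* (Matrix (Fin n) (Fin n) (ZMod p))ˣ :=
    (Units.map (τ : Module.End (ZMod p) V →* Matrix (Fin n) (Fin n) (ZMod p))).comp
      (MonoidHom.toHomUnits ρ)
  have hker : N ≤ ρu.ker := fun g hg => Units.ext (by
    show τ (ρ g) = 1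
    rw [hN g hg, map_one])
  let ρq : (G ⧸ N) →* (Matrix (Fin n) (Fin n) (ZMod p))ˣ := QuotientGroup.lift N ρu hker
  have hρq : ∀ g : G, (ρq (QuotientGroup.mk g) : Matrix (Fin n) (Fin n) (ZMod p))
      = LinearMap.toMatrix bV bV (ρ g) := fun g => rfl
  have hcL : (Nat.card (G ⧸ N)).Coprime p := by rwa [← Subgroup.index_eq_card]
  obtain ⟨σu, hσu⟩ := exists_lift p (n * n) hcL ρq
  let σ : (G ⧸ N) →* Matrix (Fin n) (Fin n) (ZMod (p ^ (n * n + 1))) := (Units.coeHom _).comp σu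
  let R : (G ⧸ N) →* Matrix (Fin n) (Fin n) (ZMod p) := (Units.coeHom _).comp ρq
  have hσ : ∀ g, red p (n * n) (Fin n) (σ g) = R g := hσu
  have hcσ : ∀ g, red p (n * n) (Fin n) (contraHom σ g) = contraHom R g := fun g => by
    show red p (n * n) (Fin n) (σ g⁻¹)ᵀ = (R g⁻¹)ᵀ
    rw [← hσ, red, RingHom.mapMatrix_apply, RingHom.mapMatrix_apply, Matrix.transpose_map]
  let σ₁ := (kronHom _ n).comp ((contraHom σ).prod (contraHom σ))
  let σ₂ := (kronHom _ n).comp (σ.prod (contraHom σ))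
  let R₁ := (kronHom _ n).comp ((contraHom R).prod (contraHom R))
  let R₂ := (kronHom _ n).comp (R.prod (contraHom R))
  have ht : ∀ g, (σ g⁻¹).trace = (σ g).trace := fun g => by
    obtain ⟨x, rfl⟩ := QuotientGroup.mk_surjective g
    obtain ⟨c, hc⟩ := isConj_iff.1 ((QuotientGroup.mk' N).map_isConj (hreal x))
    rw [map_inv] at hc
    rw [← QuotientGroup.mk'_apply, ← hc]
    show (Units.val (σu (c * QuotientGroup.mk' N x * c⁻¹))).trace = _
    rw [map_mul, map_mul, map_inv, Units.val_mul, Units.val_mul, Matrix.trace_units_conj]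
    rfl
  have htr : ∑ g, (σ₁ g).trace = ∑ g, (σ₂ g).trace := Finset.sum_congr rfl fun g _ => by
    simp only [σ₁, σ₂, MonoidHom.comp_apply, MonoidHom.prod_apply, kronHom_trace]
    show (σ g⁻¹)ᵀ.trace * (σ g⁻¹)ᵀ.trace = (σ g).trace * (σ g⁻¹)ᵀ.trace
    rw [Matrix.trace_transpose, ht]
  have hn0 : 0 < n := Module.finrank_pos
  have h1ne : flat (1 : Matrix (Fin n) (Fin n) (ZMod p)) ≠ 0 := fun h => by
    have h10 : (1 : Matrix (Fin n) (Fin n) (ZMod p)) = 0 := flat_injective h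
    have := congr_fun (congr_fun h10 ⟨0, hn0⟩) ⟨0, hn0⟩
    rw [Matrix.one_apply_eq] at this
    exact one_ne_zero this
  have hfix : ∀ g, R₂ g *ᵥ flat (1 : Matrix (Fin n) (Fin n) (ZMod p)) = flat 1 := fun g => by
    show kronHom _ n (R g, (R g⁻¹)ᵀ) *ᵥ flat 1 = _
    rw [kronHom_mulVec, Matrix.mul_one, Matrix.transpose_transpose, ← map_mul, mul_inv_cancel,
      map_one]
  obtain ⟨w, hw0, hw⟩ := exists_fixed_of_trace_eq (k := n * n) hcL
    (Nat.lt_of_lt_of_le (Nat.lt_succ_self _) (Nat.lt_pow_self hp.out.one_lt).le)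
    (fun g => R₁ g) (fun g => R₂ g) σ₁ σ₂
    (fun g => by
      show red p (n * n) _ (kronHom _ n (contraHom σ g, contraHom σ g)) = _
      rw [red_kronHom, hcσ]; rfl)
    (fun g => by
      show red p (n * n) _ (kronHom _ n (σ g, contraHom σ g)) = _
      rw [red_kronHom, hcσ, hσ]; rfl)
    htr h1ne hfix
  obtain ⟨X, rfl⟩ := exists_flat w
  refine ⟨Matrix.toBilin bV X, fun h => hw0 ?_, fun g x y => ?_⟩
  · rw [show X = 0 from (Matrix.toBilin bV).injective (h.trans (map_zero _).symm)]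
    rfl
  · have h1 := hw (QuotientGroup.mk g)⁻¹
    change kronHom _ n ((R (QuotientGroup.mk g)⁻¹⁻¹)ᵀ, (R (QuotientGroup.mk g)⁻¹⁻¹)ᵀ) *ᵥ flat X
      = flat X at h1
    rw [inv_inv, kronHom_mulVec, Matrix.transpose_transpose] at h1
    have h2 := flat_injective h1
    have e : (Matrix.toBilin bV X).comp (ρ g) (ρ g) = Matrix.toBilin bV X := by
      apply (LinearMap.BilinForm.toMatrix bV).injective
      rw [LinearMap.BilinForm.toMatrix_comp bV, LinearMap.BilinForm.toMatrix_toBilin, ← hρq g]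
      exact h2
    exact LinearMap.congr_fun₂ e x y

end CfsgLib.RationalGroup
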