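import Cfsg.Agent.Lib.RationalGroup.SelfDual
import Cfsg.Agent.Lib.CoprimeHeight.Frob

/-!
# Invariant symplectic forms and planes
-/

set_option autoImplicit false

namespace CfsgLib.RationalGroup

open CfsgLib.CoprimeHeight

universe u v w

variable {p : ℕ} [hp : Fact p.Prime] {G : Type u} [Group G] {V : Type v} [AddCommGroup V]
  [Module (ZMod p) V]

/-- An invariant nondegenerate alternating form. -/
structure IsSymp (ρ : Representation (ZMod p) G V) (B : LinearMap.BilinForm (ZMod p) V) : Prop where
  alt : ∀ x, B x x = 0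
  nondeg : ∀ x, x ≠ 0 → ∃ y, B x y ≠ 0
  inv : ∀ g x y, B (ρ g x) (ρ g y) = B x y

theorem two_ne_zero' (h5 : 5 ≤ p) : (2 : ZMod p) ≠ 0 := fun h => by
  have h2 : ((2 : ℕ) : ZMod p) = 0 := by exact_mod_cast h
  rw [ZMod.natCast_eq_zero_iff] at h2
  have := Nat.le_of_dvd two_pos h2
  omega

theorem three_ne_zero' (h5 : 5 ≤ p) : (3 : ZMod p) ≠ 0 := fun h => by
  have h2 : ((3 : ℕ) : ZMod p) = 0 := by exact_mod_cast h
  rw [ZMod.natCast_eq_zero_iff] at h2
  have := Nat.le_of_dvd (by norm_num) h2
  omega

theorem exists_isSymp [Finite G] [Finite V] [Nontrivial V] (h5 : 5 ≤ p)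
    (ρ : Representation (ZMod p) G V) (N : Subgroup G) [N.Normal] (hN : ∀ g ∈ N, ρ g = 1)
    (hco : N.index.Coprime p) (hreal : ∀ g : G, IsConj g g⁻¹)
    (hirr : ∀ W : Submodule (ZMod p) V, (∀ g, ∀ x ∈ W, ρ g x ∈ W) → W = ⊥ ∨ W = ⊤)
    (hscale : ∀ x : V, ∃ g, ρ g x = (2 : ZMod p) • x) :
    ∃ B : LinearMap.BilinForm (ZMod p) V, IsSymp ρ B := by
  obtain ⟨B, hB0, hB⟩ := exists_invariant_form ρ N hN hco hreal
  refine ⟨B, fun x => ?_, fun x hx => ?_, hB⟩
  · obtain ⟨g, hg⟩ := hscale x
    have h1 := hB g x x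
    rw [hg, LinearMap.map_smul₂, map_smul, smul_eq_mul, smul_eq_mul] at h1
    have h2 : (3 : ZMod p) * B x x = 0 := by linear_combination h1
    exact (mul_eq_zero.1 h2).resolve_left (three_ne_zero' h5)
  · by_contra h
    push Not at h
    rcases hirr (LinearMap.ker B) (fun g y hy => LinearMap.mem_ker.2 (LinearMap.ext fun z => by
      have h1 := hB g y (ρ g⁻¹ z)
      rw [LinearMap.mem_ker.1 hy, ← Module.End.mul_apply, ← map_mul, mul_inv_cancel, map_one,
        Module.End.one_apply] at h1
      exact h1)) with e | e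
    · exact hx (by
        have : x ∈ LinearMap.ker B := LinearMap.mem_ker.2 (LinearMap.ext h)
        rwa [e, Submodule.mem_bot] at this)
    · exact hB0 (LinearMap.ker_eq_top.1 e)

variable {ρ : Representation (ZMod p) G V} {B : LinearMap.BilinForm (ZMod p) V}

theorem IsSymp.swap (h : IsSymp ρ B) (x y : V) : B y x = -B x y := by
  have h1 := h.alt (x + y)
  simp only [map_add, LinearMap.add_apply, h.alt, zero_add, add_zero] at h1
  exact eq_neg_of_add_eq_zero_left h1

theorem IsSymp.fix_nondeg [Finite G] (h : IsSymp ρ B) {T : Subgroup G}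
    (hT : (Nat.card T : ZMod p) ≠ 0) {x : V} (hx : x ∈ fixSub ρ T) (hx0 : x ≠ 0) :
    ∃ y ∈ fixSub ρ T, B x y ≠ 0 := by
  have := Fintype.ofFinite T
  obtain ⟨y, hy⟩ := h.nondeg x hx0
  refine ⟨avg ρ T y, avg_mem_fixSub ρ y, ?_⟩
  have e : ∀ c : T, B x (ρ (c : G) y) = B x y := fun c => by
    conv_lhs => rw [← hx c c.2]
    exact h.inv _ _ _
  rw [avg_apply, map_smul, map_sum, Finset.sum_congr rfl fun c _ => e c, Finset.sum_const,
    Finset.card_univ, ← Nat.card_eq_fintype_card, ← Nat.cast_smul_eq_nsmul (ZMod p), smul_smul,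
    inv_mul_cancel₀ hT, one_smul]
  exact hy

section Space

variable {E : Type w} [AddCommGroup E] [Module (ZMod p) E] {C : LinearMap.BilinForm (ZMod p) E}

/-- A space with a nondegenerate alternating form has even dimension. -/
theorem even_finrank_of_alt [Module.Finite (ZMod p) E] (h5 : 5 ≤ p) (halt : ∀ x, C x x = 0)
    (hnd : ∀ x, x ≠ 0 → ∃ y, C x y ≠ 0) : Even (Module.finrank (ZMod p) E) := by
  let b := Module.finBasis (ZMod p) E
  set M := LinearMap.BilinForm.toMatrix b C with hM
  have hswap : ∀ x y, C y x = -C x y := fun x y => by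
    have h1 := halt (x + y)
    simp only [map_add, LinearMap.add_apply, halt, zero_add, add_zero] at h1
    exact eq_neg_of_add_eq_zero_left h1
  have hT : M.transpose = -M := by
    ext i j
    rw [Matrix.transpose_apply, Matrix.neg_apply, hM, LinearMap.BilinForm.toMatrix_apply,
      LinearMap.BilinForm.toMatrix_apply, hswap]
  have h1 : M.det = (-1) ^ Module.finrank (ZMod p) E * M.det := by
    conv_lhs => rw [← Matrix.det_transpose, hT, Matrix.det_neg, Fintype.card_fin]
  by_contra hodd
  rw [(Nat.not_even_iff_odd.1 hodd).neg_one_pow] at h1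
  have h2 : M.det = 0 := by
    have : (2 : ZMod p) * M.det = 0 := by linear_combination h1
    exact (mul_eq_zero.1 this).resolve_left (two_ne_zero' h5)
  obtain ⟨c, hc0, hc⟩ := Matrix.exists_vecMul_eq_zero_iff.2 h2
  obtain ⟨y, hy⟩ := hnd (b.equivFun.symm c) ((LinearEquiv.map_ne_zero_iff _).2 hc0)
  refine hy ?_
  rw [← (LinearMap.BilinForm.toMatrix b).symm_apply_apply C, LinearMap.BilinForm.toMatrix_symm,
    Matrix.toBilin_apply, Finset.sum_comm]
  refine Finset.sum_eq_zero fun j _ => ?_
  have h3 := congr_fun hc j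
  simp only [Matrix.vecMul, dotProduct, Pi.zero_apply] at h3
  have h4 : ∀ i, b.repr (b.equivFun.symm c) i = c i := fun i => by
    rw [← b.equivFun_apply, LinearEquiv.apply_symm_apply]
  simp only [h4]
  rw [← Finset.sum_mul, h3, zero_mul]

variable (hdim : Module.finrank (ZMod p) E = 2)

include hdim in
theorem finite_of_plane : Module.Finite (ZMod p) E := Module.finite_of_finrank_eq_succ hdim

include hdim in
/-- A map of a plane preserving a nonzero alternating form has determinant one. -/
theorem plane_det (halt : ∀ x, C x x = 0) (hC : C ≠ 0) (f : Module.End (ZMod p) E)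
    (hf : ∀ x y, C (f x) (f y) = C x y) : LinearMap.det f = 1 := by
  have := finite_of_plane hdim
  let b : Module.Basis (Fin 2) (ZMod p) E := Module.finBasisOfFinrankEq _ _ hdim
  have hswap : C (b 1) (b 0) = -C (b 0) (b 1) := by
    have h1 := halt (b 0 + b 1)
    simp only [map_add, LinearMap.add_apply, halt, zero_add, add_zero] at h1
    exact eq_neg_of_add_eq_zero_left h1
  have hc : C (b 0) (b 1) ≠ 0 := fun h => hC (LinearMap.ext_basis b b fun i j => by
    fin_cases i <;> fin_cases j <;> simp [h, hswap, halt])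
  set M := LinearMap.toMatrix b b f with hM
  have e : ∀ j, f (b j) = M 0 j • b 0 + M 1 j • b 1 := fun j => by
    conv_lhs => rw [← b.sum_repr (f (b j))]
    rw [Fin.sum_univ_two, hM, LinearMap.toMatrix_apply, LinearMap.toMatrix_apply]
  have h1 := hf (b 0) (b 1)
  rw [e 0, e 1] at h1
  simp only [map_add, map_smul, LinearMap.add_apply, LinearMap.smul_apply, smul_eq_mul, halt,
    hswap] at h1
  rw [← LinearMap.det_toMatrix b, Matrix.det_fin_two, ← hM]
  refine mul_right_cancel₀ hc ?_
  linear_combination h1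

include hdim in
/-- Cayley–Hamilton on a plane. -/
theorem plane_sq (f : Module.End (ZMod p) E) (x : E) :
    f (f x) - LinearMap.trace (ZMod p) E f • f x + LinearMap.det f • x = 0 := by
  have := finite_of_plane hdim
  let b : Module.Basis (Fin 2) (ZMod p) E := Module.finBasisOfFinrankEq _ _ hdim
  have h1 : f * f - LinearMap.trace (ZMod p) E f • f + LinearMap.det f • 1 = 0 := by
    apply (LinearMap.toMatrixAlgEquiv b).injective
    rw [map_add, map_sub, map_mul, map_smul, map_smul, map_one, map_zero,
      LinearMap.trace_eq_matrix_trace _ b, ← LinearMap.det_toMatrix b]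
    show LinearMap.toMatrix b b f * LinearMap.toMatrix b b f
      - _ • LinearMap.toMatrix b b f + _ = 0
    generalize LinearMap.toMatrix b b f = M
    rw [Matrix.det_fin_two, Matrix.trace_fin_two]
    ext i j
    fin_cases i <;> fin_cases j <;> simp [Matrix.mul_apply, Fin.sum_univ_two] <;> ring
  exact LinearMap.congr_fun h1 x

include hdim in
theorem plane_trace_eigen (f : Module.End (ZMod p) E) (hdet : LinearMap.det f = 1) {x : E}
    (hx : x ≠ 0) {c : ZMod p} (hfx : f x = c • x) :
    c * LinearMap.trace (ZMod p) E f = c * c + 1 := by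
  have h1 := plane_sq hdim f x
  rw [hfx, map_smul, hfx, hdet, one_smul, smul_smul, smul_smul] at h1
  have h2 : (c * c - LinearMap.trace (ZMod p) E f * c + 1) • x = 0 := by
    rw [add_smul, sub_smul, one_smul]; exact h1
  have h3 := (smul_eq_zero.1 h2).resolve_right hx
  linear_combination -h3

include hdim in
/-- An element of determinant one and order prime to `p` fixing a vector is trivial. -/
theorem plane_semiregular (f : Module.End (ZMod p) E) (hdet : LinearMap.det f = 1) {n : ℕ}
    (hn : (n : ZMod p) ≠ 0) (hfn : f ^ n = 1) {x : E} (hx : x ≠ 0) (hfx : f x = x) : f = 1 := by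
  have ht : LinearMap.trace (ZMod p) E f = 2 := by
    have := plane_trace_eigen hdim f hdet hx (c := 1) (by rw [one_smul]; exact hfx)
    linear_combination this
  have hsq : ∀ y, f (f y - y) = f y - y := fun y => by
    have h1 := plane_sq hdim f y
    rw [ht, hdet, one_smul, two_smul] at h1
    rw [map_sub, ← sub_eq_zero, ← h1]
    abel
  refine LinearMap.ext fun y => ?_
  have hpow : ∀ m : ℕ, (f ^ m) y = y + m • (f y - y) := by
    intro m
    induction m with
    | zero => simp
    | succ m ih =>
      rw [pow_succ', Module.End.mul_apply, ih, map_add, map_nsmul, hsq, succ_nsmul]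
      abel
  have h2 := hpow n
  rw [hfn, Module.End.one_apply, left_eq_add, ← Nat.cast_smul_eq_nsmul (ZMod p)] at h2
  rw [Module.End.one_apply]
  exact sub_eq_zero.1 ((smul_eq_zero.1 h2).resolve_left hn)

include hdim in
theorem plane_eq_neg_one (h5 : 5 ≤ p) (f : Module.End (ZMod p) E) (hdet : LinearMap.det f = 1)
    (hf2 : f * f = 1) (hne : f ≠ 1) : f = -1 := by
  refine LinearMap.ext fun y => ?_
  by_contra hy
  refine hne (plane_semiregular hdim f hdet (n := 2) (two_ne_zero' h5) (by rw [pow_two, hf2])
    (x := f y + y) (fun h => hy (by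
      rw [LinearMap.neg_apply, Module.End.one_apply]; exact eq_neg_of_add_eq_zero_left h)) ?_)
  rw [map_add, ← Module.End.mul_apply, hf2, Module.End.one_apply, add_comm]

end Space

end CfsgLib.RationalGroup
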